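import Mathlib

/-!
Conjugacy of coprime complements (the second half of Schur–Zassenhaus), in a relative form:
`N` is normalized by `H` and `K`, the orders are coprime, `N ⊔ H = N ⊔ K`, and `N` or `H` is solvable.
-/

set_option autoImplicit false
set_option linter.style.haveILetI false

open Pointwise

namespace CfsgLib.Coprime

variable {G : Type*} [Group G]

theorem mem_conj_smul_iff {g x : G} {H : Subgroup G} :
    x ∈ MulAut.conj g • H ↔ g⁻¹ * x * g ∈ H := by
  rw [Subgroup.mem_pointwise_smul_iff_inv_smul_mem, ← map_inv, MulAut.smul_def, MulAut.conj_apply,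
    inv_inv]

theorem conj_mem_conj_smul {g x : G} {H : Subgroup G} (hx : x ∈ H) :
    g * x * g⁻¹ ∈ MulAut.conj g • H :=
  mem_conj_smul_iff.mpr (by simpa [mul_assoc] using hx)

theorem conj_smul_eq_map (g : G) (H : Subgroup G) :
    MulAut.conj g • H = H.map (MulAut.conj g).toMonoidHom := rfl

theorem card_conj_smul (g : G) (H : Subgroup G) : Nat.card ↥(MulAut.conj g • H) = Nat.card H :=
  (Nat.card_congr (Subgroup.equivSMul (MulAut.conj g) H).toEquiv).symm

theorem conj_smul_eq_self_of_mem_normalizer {g : G} {H : Subgroup G}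
    (hg : g ∈ Subgroup.normalizer (H : Set G)) : MulAut.conj g • H = H := by
  ext x
  rw [mem_conj_smul_iff]
  have := Subgroup.mem_normalizer_iff.mp hg (g⁻¹ * x * g)
  rw [this, show g * (g⁻¹ * x * g) * g⁻¹ = x by group]

theorem mem_normalizer_iff_conj_smul {g : G} {H : Subgroup G} :
    g ∈ Subgroup.normalizer (H : Set G) ↔ MulAut.conj g • H = H := by
  refine ⟨conj_smul_eq_self_of_mem_normalizer, fun h => Subgroup.mem_normalizer_iff.mpr fun x => ?_⟩
  have := mem_conj_smul_iff (g := g) (x := g * x * g⁻¹) (H := H)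
  rw [h, show g⁻¹ * (g * x * g⁻¹) * g = x by group] at this
  exact this.symm

theorem map_conj_smul {G' : Type*} [Group G'] (f : G →* G') (g : G) (H : Subgroup G) :
    (MulAut.conj g • H).map f = MulAut.conj (f g) • H.map f := by
  ext y
  simp only [Subgroup.mem_map, mem_conj_smul_iff]
  constructor
  · rintro ⟨x, hx, rfl⟩
    exact ⟨g⁻¹ * x * g, hx, by simp⟩
  · rintro ⟨x, hx, he⟩
    exact ⟨g * x * g⁻¹, by simpa [mul_assoc] using hx, by simp [he, mul_assoc]⟩

theorem sup_conj_smul {g : G} {N H : Subgroup G} :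
    MulAut.conj g • (N ⊔ H) = MulAut.conj g • N ⊔ MulAut.conj g • H :=
  Subgroup.map_sup N H _

theorem le_normalizer_inf {H L : Subgroup G} (hL : H ≤ Subgroup.normalizer (L : Set G)) :
    H ≤ Subgroup.normalizer ((H ⊓ L : Subgroup G) : Set G) := by
  intro h hh
  refine Subgroup.mem_normalizer_iff.mpr fun x => ?_
  rw [Subgroup.mem_inf, Subgroup.mem_inf, ← Subgroup.mem_normalizer_iff.mp (hL hh) x]
  refine and_congr ⟨fun hx => mul_mem (mul_mem hh hx) (inv_mem hh), fun hx => ?_⟩ Iff.rfl
  simpa [mul_assoc] using mul_mem (mul_mem (inv_mem hh) hx) hh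

/-- Dedekind: if `H ≤ Y ≤ N ⊔ H` and `H` normalizes `N` then `(N ⊓ Y) ⊔ H = Y`. -/
theorem inf_sup_eq_of_le {N H Y : Subgroup G} (hH : H ≤ Subgroup.normalizer (N : Set G))
    (hHY : H ≤ Y) (hY : Y ≤ N ⊔ H) : (N ⊓ Y) ⊔ H = Y := by
  refine le_antisymm (sup_le inf_le_right hHY) fun y hy => ?_
  have := hY hy
  rw [← SetLike.mem_coe, Subgroup.coe_mul_of_right_le_normalizer_left N H hH, Set.mem_mul] at this
  obtain ⟨n, hn, h, hh, rfl⟩ := this
  have hnY : n ∈ Y := by simpa using mul_mem hy (inv_mem (hHY hh))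
  exact mul_mem (Subgroup.mem_sup_left ⟨hn, hnY⟩) (Subgroup.mem_sup_right hh)

theorem inf_eq_bot_of_coprime_card {H K : Subgroup G} (h : (Nat.card H).Coprime (Nat.card K)) :
    H ⊓ K = ⊥ := by
  apply Subgroup.eq_bot_of_card_eq
  exact Nat.eq_one_of_dvd_coprimes h (Subgroup.card_dvd_of_le inf_le_left)
    (Subgroup.card_dvd_of_le inf_le_right)

theorem card_sup_of_normalizer {N H : Subgroup G} (hH : H ≤ Subgroup.normalizer (N : Set G))
    (hd : N ⊓ H = ⊥) : Nat.card ↥(N ⊔ H) = Nat.card N * Nat.card H := by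
  rw [← Nat.card_prod]
  let f : N × H → ↥(N ⊔ H) := fun p =>
    ⟨p.1.1 * p.2.1, mul_mem (Subgroup.mem_sup_left p.1.2) (Subgroup.mem_sup_right p.2.2)⟩
  refine (Nat.card_congr (Equiv.ofBijective f ⟨?_, ?_⟩)).symm
  · rintro ⟨a, b⟩ ⟨c, d⟩ h
    have h' : (a : G) * b = c * d := congrArg Subtype.val h
    have e : (c : G)⁻¹ * a = d * (b : G)⁻¹ := by
      rw [eq_mul_inv_iff_mul_eq, mul_assoc, h', inv_mul_cancel_left]
    have hm : (c : G)⁻¹ * a ∈ N ⊓ H :=
      Subgroup.mem_inf.mpr ⟨mul_mem (inv_mem c.2) a.2, e ▸ mul_mem d.2 (inv_mem b.2)⟩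
    rw [hd, Subgroup.mem_bot, inv_mul_eq_one] at hm
    obtain rfl : c = a := Subtype.ext hm
    obtain rfl : b = d := Subtype.ext (mul_left_cancel h')
    rfl
  · rintro ⟨x, hx⟩
    rw [← SetLike.mem_coe, Subgroup.coe_mul_of_right_le_normalizer_left N H hH, Set.mem_mul] at hx
    obtain ⟨n, hn, h, hh, rfl⟩ := hx
    exact ⟨⟨⟨n, hn⟩, ⟨h, hh⟩⟩, rfl⟩

theorem card_sup_of_coprime {N H : Subgroup G} (hH : H ≤ Subgroup.normalizer (N : Set G))
    (hc : (Nat.card N).Coprime (Nat.card H)) : Nat.card ↥(N ⊔ H) = Nat.card N * Nat.card H :=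
  card_sup_of_normalizer hH (inf_eq_bot_of_coprime_card hc)

theorem isSolvable_of_le {H K : Subgroup G} (h : H ≤ K) (hK : Group.IsSolvable K) :
    Group.IsSolvable H :=
  haveI := hK
  Group.isSolvable_of_isSolvable_injective (Subgroup.inclusion_injective h)

theorem isSolvable_map {G' : Type*} [Group G'] (f : G →* G') {H : Subgroup G}
    (hH : Group.IsSolvable H) : Group.IsSolvable ↥(H.map f) :=
  haveI := hH
  Group.isSolvable_of_surjective (f.subgroupMap_surjective H)

theorem isSolvable_conj_smul {g : G} {H : Subgroup G} (hH : Group.IsSolvable H) :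
    Group.IsSolvable ↥(MulAut.conj g • H) :=
  isSolvable_map _ hH

theorem coprime_of_dvd {a b c d : ℕ} (h : a.Coprime b) (h₁ : c ∣ a) (h₂ : d ∣ b) : c.Coprime d :=
  (h.coprime_dvd_left h₁).coprime_dvd_right h₂

/-- The abelian case: two complements of an abelian normal subgroup of coprime index are conjugate. -/
theorem exists_conj_of_abelian [Finite G] (A : Subgroup G) [A.Normal] [IsMulCommutative A]
    (hA : (Nat.card A).Coprime A.index) {H K : Subgroup G} (hH : Subgroup.IsComplement' A H)
    (hK : Subgroup.IsComplement' A K) : ∃ a ∈ A, MulAut.conj a • H = K := by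
  have key : ∀ L : Subgroup G, Subgroup.IsComplement' A L →
      ∃ α : A.QuotientDiff, L = MulAction.stabilizer G α := by
    intro L hL
    let T : A.LeftTransversal := ⟨(L : Set G), hL.symm⟩
    let α : A.QuotientDiff := Quotient.mk'' T
    refine ⟨α, ?_⟩
    have hfix : L ≤ MulAction.stabilizer G α := by
      intro l hl
      rw [MulAction.mem_stabilizer_iff]
      have e : MulOpposite.op l⁻¹ • T = T := by
        apply Subtype.ext
        show MulOpposite.op l⁻¹ • (L : Set G) = (L : Set G)
        exact op_smul_coe_set (inv_mem hl)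
      exact (congrArg Quotient.mk'' e : (Quotient.mk'' (MulOpposite.op l⁻¹ • T) : A.QuotientDiff) = α)
    have hst := Subgroup.isComplement'_stabilizer_of_coprime (α := α) hA
    refine Subgroup.eq_of_le_of_card_ge hfix ?_
    have h1 := hst.card_mul_card
    have h2 := hL.card_mul_card
    exact (Nat.eq_of_mul_eq_mul_left Nat.card_pos (h1.trans h2.symm)).le
  obtain ⟨α, rfl⟩ := key H hH
  obtain ⟨β, rfl⟩ := key K hK
  obtain ⟨a, ha⟩ := Subgroup.exists_smul_eq hA α β
  refine ⟨a, a.2, ?_⟩
  rw [← ha]
  exact (MulAction.stabilizer_smul_eq_stabilizer_map_conj (a : G) α).symm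

universe u

/-- The statement on all of a group; see `exists_conj_of_coprime` for the relative version. -/
private theorem exists_conj_top (n : ℕ) : ∀ {G : Type u} [Group G] [Finite G] (_ : Nat.card G = n)
    (N : Subgroup G) [N.Normal] (H K : Subgroup G), (Nat.card N).Coprime (Nat.card H) →
    (Nat.card N).Coprime (Nat.card K) → N ⊔ H = ⊤ → N ⊔ K = ⊤ →
    Group.IsSolvable N ∨ Group.IsSolvable H → ∃ x ∈ N, MulAut.conj x • H = K := by
  induction n using Nat.strong_induction_on with
  | _ n IH =>
  intro G _ _ hn N _ H K cH cK sH sK hsolv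
  subst hn
  have nH : H ≤ Subgroup.normalizer (N : Set G) := Subgroup.le_normalizer_of_normal
  have nK : K ≤ Subgroup.normalizer (N : Set G) := Subgroup.le_normalizer_of_normal
  have hcN := card_sup_of_coprime nH cH
  have hcK := card_sup_of_coprime nK cK
  rw [sH, Subgroup.card_top] at hcN
  rw [sK, Subgroup.card_top] at hcK
  have hHK : Nat.card K = Nat.card H :=
    Nat.eq_of_mul_eq_mul_left (Nat.card_pos (α := N)) (hcK.symm.trans hcN)
  -- induction hypothesis on a proper subgroup
  have rel : ∀ (N' H' K' : Subgroup G), H' ≤ Subgroup.normalizer (N' : Set G) →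
      K' ≤ Subgroup.normalizer (N' : Set G) → (Nat.card N').Coprime (Nat.card H') →
      (Nat.card N').Coprime (Nat.card K') → N' ⊔ H' = N' ⊔ K' → N' ⊔ H' ≠ ⊤ →
      Group.IsSolvable N' ∨ Group.IsSolvable H' → ∃ x ∈ N', MulAut.conj x • H' = K' := by
    intro N' H' K' nH' nK' cH' cK' hsup hne hs
    set X := N' ⊔ H' with hX
    have hN'X : N' ≤ X := le_sup_left
    have hH'X : H' ≤ X := le_sup_right
    have hK'X : K' ≤ X := hsup ▸ le_sup_right
    haveI : (N'.subgroupOf X).Normal := by
      rw [Subgroup.normal_subgroupOf_iff_le_normalizer hN'X]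
      exact sup_le Subgroup.le_normalizer nH'
    have hlt : Nat.card X < Nat.card G := by
      rcases lt_or_eq_of_le (Subgroup.card_le_card_group X) with h | h
      · exact h
      · exact absurd (Subgroup.eq_top_of_card_eq X h) hne
    have e : ∀ {L : Subgroup G}, L ≤ X → Nat.card (L.subgroupOf X) = Nat.card L :=
      fun hL => Nat.card_congr (Subgroup.subgroupOfEquivOfLe hL).toEquiv
    have hs' : Group.IsSolvable (N'.subgroupOf X) ∨ Group.IsSolvable (H'.subgroupOf X) := by
      rcases hs with h | h <;> haveI := h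
      · exact Or.inl (Group.isSolvable_of_isSolvable_injective (f := (Subgroup.subgroupOfEquivOfLe hN'X).toMonoidHom) (Subgroup.subgroupOfEquivOfLe hN'X).injective)
      · exact Or.inr (Group.isSolvable_of_isSolvable_injective (f := (Subgroup.subgroupOfEquivOfLe hH'X).toMonoidHom) (Subgroup.subgroupOfEquivOfLe hH'X).injective)
    obtain ⟨x, hx, hxe⟩ := IH _ hlt rfl (N'.subgroupOf X) (H'.subgroupOf X) (K'.subgroupOf X)
      (by rw [e hN'X, e hH'X]; exact cH') (by rw [e hN'X, e hK'X]; exact cK')
      (by rw [← Subgroup.subgroupOf_sup hN'X hH'X, ← hX, Subgroup.subgroupOf_self])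
      (by rw [← Subgroup.subgroupOf_sup hN'X hK'X, ← hsup, Subgroup.subgroupOf_self]) hs'
    refine ⟨(x : G), hx, ?_⟩
    have := congrArg (Subgroup.map X.subtype) hxe
    rwa [map_conj_smul, Subgroup.map_subgroupOf_eq_of_le hH'X,
      Subgroup.map_subgroupOf_eq_of_le hK'X] at this
  by_cases hN : N = ⊥
  · subst hN
    rw [bot_sup_eq] at sH sK
    exact ⟨1, one_mem _, by rw [sH, sK, map_one, one_smul]⟩
  rcases hsolv with hsolv | hsolv
  · -- `N` solvable
    haveI := hsolv
    haveI : Nontrivial N := (Subgroup.nontrivial_iff_ne_bot N).mpr hN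
    have hMN : ⁅N, N⁆ < N := by
      have h := Subgroup.map_lt_map_iff_of_injective N.subtype_injective |>.mpr
        (Group.IsSolvable.commutator_lt_top_of_nontrivial N)
      rwa [Subgroup.map_subtype_commutator, ← MonoidHom.range_eq_map, Subgroup.range_subtype] at h
    set M := ⁅N, N⁆ with hM
    by_cases hM0 : M = ⊥
    · haveI : IsMulCommutative N := Subgroup.commutator_self_eq_bot_iff.mp (hM ▸ hM0)
      have cA : (Nat.card N).Coprime N.index := by
        have : N.index = Nat.card H := by
          apply Nat.eq_of_mul_eq_mul_left (Nat.card_pos (α := N))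
          rw [Subgroup.card_mul_index, hcN]
        rw [this]; exact cH
      refine exists_conj_of_abelian N cA ?_ ?_ <;> refine Subgroup.isComplement'_of_coprime ?_ ?_
      · exact hcN.symm
      · exact cH
      · exact hcK.symm
      · exact cK
    haveI : M.Normal := by rw [hM]; infer_instance
    set f := QuotientGroup.mk' M with hf
    have hlt : Nat.card (G ⧸ M) < Nat.card G := by
      rw [Subgroup.card_eq_card_quotient_mul_card_subgroup M]
      exact lt_mul_of_one_lt_right Nat.card_pos (Subgroup.one_lt_card_iff_ne_bot M |>.mpr hM0)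
    haveI : (N.map f).Normal := Subgroup.Normal.map ‹_› f (QuotientGroup.mk'_surjective M)
    obtain ⟨y, hy, hye⟩ := IH _ hlt rfl (N.map f) (H.map f) (K.map f)
      (coprime_of_dvd cH (Subgroup.card_map_dvd ..) (Subgroup.card_map_dvd ..))
      (coprime_of_dvd cK (Subgroup.card_map_dvd ..) (Subgroup.card_map_dvd ..))
      (by rw [← Subgroup.map_sup, sH, Subgroup.map_top_of_surjective f (QuotientGroup.mk'_surjective M)])
      (by rw [← Subgroup.map_sup, sK, Subgroup.map_top_of_surjective f (QuotientGroup.mk'_surjective M)])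
      (Or.inl (isSolvable_map f hsolv))
    obtain ⟨x, hx, rfl⟩ := Subgroup.mem_map.mp hy
    rw [← map_conj_smul] at hye
    have hc := congrArg (Subgroup.comap f) hye
    rw [Subgroup.comap_map_eq, Subgroup.comap_map_eq, hf, QuotientGroup.ker_mk', sup_comm _ M,
      sup_comm _ M] at hc
    have cM : (Nat.card M).Coprime (Nat.card K) :=
      cK.coprime_dvd_left (Subgroup.card_dvd_of_le hMN.le)
    have hne : M ⊔ MulAut.conj x • H ≠ ⊤ := by
      intro htop
      rw [hc] at htop
      have h1 := card_sup_of_coprime (Subgroup.le_normalizer_of_normal (H := M) (K := K)) cM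
      rw [htop, Subgroup.card_top, hcK] at h1
      have h2 := Nat.eq_of_mul_eq_mul_right Nat.card_pos h1
      exact hMN.ne (Subgroup.eq_of_le_of_card_ge hMN.le h2.le)
    obtain ⟨m, hm, hme⟩ := rel M (MulAut.conj x • H) K Subgroup.le_normalizer_of_normal
      Subgroup.le_normalizer_of_normal (by rw [card_conj_smul, ← hHK]; exact cM) cM hc hne
      (Or.inl (isSolvable_of_le hMN.le hsolv))
    exact ⟨m * x, mul_mem (hMN.le hm) hx, by rw [map_mul, mul_smul, hme]⟩
  · -- `H` solvable
    by_cases hH1 : H = ⊥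
    · subst hH1
      rw [Subgroup.card_bot] at hHK
      exact ⟨1, one_mem _, by rw [map_one, one_smul, Subgroup.eq_bot_of_card_eq K hHK]⟩
    by_cases hp : (Nat.card H).Prime
    · haveI := Fact.mk hp
      have hfac : Nat.card H = Nat.card H ^ (Nat.card G).factorization (Nat.card H) := by
        rw [hcN, Nat.factorization_mul Nat.card_pos.ne' Nat.card_pos.ne', Finsupp.add_apply,
          Nat.factorization_eq_zero_of_not_dvd ((Nat.Prime.coprime_iff_not_dvd hp).mp cH.symm),
          hp.factorization_self, zero_add, pow_one]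
      obtain ⟨g, hg⟩ := MulAction.exists_smul_eq G (Sylow.ofCard H hfac)
        (Sylow.ofCard K (hHK.trans hfac))
      have hg' : MulAut.conj g • H = K := congrArg Sylow.toSubgroup hg
      have hgm : g ∈ N ⊔ H := by rw [sH]; trivial
      obtain ⟨x, hx, h, hh, rfl⟩ := Subgroup.mem_sup_of_normal_left.mp hgm
      refine ⟨x, hx, ?_⟩
      rw [map_mul, mul_smul, conj_smul_eq_self_of_mem_normalizer (Subgroup.le_normalizer hh)] at hg'
      exact hg'
    haveI := hsolv
    haveI : Nontrivial H := (Subgroup.nontrivial_iff_ne_bot H).mpr hH1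
    obtain ⟨H₁, hH₁n, hH₁b, hH₁t⟩ : ∃ H₁ : Subgroup H, H₁.Normal ∧ H₁ ≠ ⊥ ∧ H₁ ≠ ⊤ := by
      by_cases hc : commutator H = ⊥
      · obtain ⟨p, hpp, hpd⟩ := Nat.exists_prime_and_dvd
          (Finite.one_lt_card (α := H)).ne'
        haveI := Fact.mk hpp
        obtain ⟨z, hz⟩ := exists_prime_orderOf_dvd_card' p hpd
        refine ⟨Subgroup.zpowers z, Subgroup.Normal.of_commutator_le _ (H := Subgroup.zpowers z) (by rw [hc]; exact bot_le), ?_, ?_⟩
        · rw [Subgroup.zpowers_ne_bot]
          rintro rfl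
          simp at hz
          exact hpp.ne_one hz.symm
        · intro h
          have := Nat.card_zpowers z
          rw [h, Subgroup.card_top, hz] at this
          exact hp (this ▸ hpp)
      · exact ⟨commutator H, inferInstance, hc, (Group.IsSolvable.commutator_lt_top_of_nontrivial H).ne⟩
    set H' := H₁.map H.subtype with hH'
    have hH'H : H' ≤ H := Subgroup.map_subtype_le H₁
    have hH'n : H ≤ Subgroup.normalizer (H' : Set G) := by
      haveI := hH₁n
      have := Subgroup.le_normalizer_map H.subtype (H := H₁)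
      rwa [Subgroup.normalizer_eq_top_iff.mpr hH₁n, ← MonoidHom.range_eq_map, Subgroup.range_subtype] at this
    set L := N ⊔ H' with hL
    haveI hLn : L.Normal := by
      refine Subgroup.normalizer_eq_top_iff.mp (top_le_iff.mp ?_)
      rw [← sH]
      refine sup_le (le_trans le_sup_left Subgroup.le_normalizer) fun h hh => ?_
      rw [mem_normalizer_iff_conj_smul, hL, sup_conj_smul, Subgroup.Normal.conj_smul_eq_self,
        conj_smul_eq_self_of_mem_normalizer (hH'n hh)]
    have cH' : (Nat.card N).Coprime (Nat.card H') :=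
      cH.coprime_dvd_right (Subgroup.card_dvd_of_le hH'H)
    have hL_lt : L ≠ ⊤ := by
      intro htop
      have h1 := card_sup_of_coprime (Subgroup.le_normalizer_of_normal (H := N) (K := H')) cH'
      rw [← hL, htop, Subgroup.card_top, hcN] at h1
      have h2 := Nat.eq_of_mul_eq_mul_left Nat.card_pos h1
      have h3 := Subgroup.eq_of_le_of_card_ge hH'H h2.le
      apply hH₁t
      rw [← Subgroup.comap_map_eq_self_of_injective H.subtype_injective H₁, ← hH', h3]
      exact Subgroup.subgroupOf_self H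
    have hHL : H' = H ⊓ L := by
      refine le_antisymm (le_inf hH'H le_sup_right) fun x ⟨hxH, hxL⟩ => ?_
      obtain ⟨a, ha, b, hb, rfl⟩ := Subgroup.mem_sup_of_normal_left.mp hxL
      have hab : a ∈ N ⊓ H :=
        Subgroup.mem_inf.mpr ⟨ha, by simpa using mul_mem (show a * b ∈ H from hxH) (inv_mem (hH'H hb))⟩
      rw [inf_eq_bot_of_coprime_card cH, Subgroup.mem_bot] at hab
      simpa [hab] using hb
    set D := K ⊓ L with hD
    have hND : N ⊔ D = L := by
      refine le_antisymm (sup_le le_sup_left inf_le_right) fun x hx => ?_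
      have : x ∈ N ⊔ K := by rw [sK]; trivial
      obtain ⟨a, ha, b, hb, rfl⟩ := Subgroup.mem_sup_of_normal_left.mp this
      refine mul_mem (Subgroup.mem_sup_left ha) (Subgroup.mem_sup_right ⟨hb, ?_⟩)
      simpa using mul_mem (inv_mem (Subgroup.mem_sup_left ha : a ∈ L)) hx
    obtain ⟨x, hx, hxe⟩ := rel N H' D Subgroup.le_normalizer_of_normal Subgroup.le_normalizer_of_normal
      cH' (cK.coprime_dvd_right (Subgroup.card_dvd_of_le inf_le_left)) (hL.symm.trans hND.symm)
      hL_lt (Or.inr (isSolvable_of_le hH'H hsolv))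
    set H₂ := MulAut.conj x • H with hH₂
    have hD2 : D = H₂ ⊓ L := by
      rw [← hxe, hHL, Subgroup.smul_inf, Subgroup.Normal.conj_smul_eq_self x L, hH₂]
    have hKY : K ≤ Subgroup.normalizer (D : Set G) :=
      le_normalizer_inf Subgroup.le_normalizer_of_normal
    have hH₂Y : H₂ ≤ Subgroup.normalizer (D : Set G) :=
      hD2 ▸ le_normalizer_inf Subgroup.le_normalizer_of_normal
    have sH₂ : N ⊔ H₂ = ⊤ := by
      have h1 := sup_conj_smul (g := x) (N := N) (H := H)
      rw [sH, Subgroup.Normal.conj_smul_eq_self x ⊤, Subgroup.Normal.conj_smul_eq_self x N] at h1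
      exact h1.symm
    have cH₂ : (Nat.card N).Coprime (Nat.card H₂) := by rw [card_conj_smul]; exact cH
    have hs₂ : Group.IsSolvable H₂ := isSolvable_conj_smul hsolv
    set Y := Subgroup.normalizer (D : Set G) with hY
    by_cases hYt : Y = ⊤
    · haveI : D.Normal := Subgroup.normalizer_eq_top_iff.mp hYt
      have hD0 : D ≠ ⊥ := by
        intro h
        apply hH₁b
        have h1 : Nat.card D = Nat.card H' := by rw [← hxe, card_conj_smul]
        rw [h, Subgroup.card_bot, hH', Subgroup.card_map_of_injective H.subtype_injective] at h1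
        exact Subgroup.eq_bot_of_card_eq _ h1.symm
      set f := QuotientGroup.mk' D with hf
      have hlt : Nat.card (G ⧸ D) < Nat.card G := by
        rw [Subgroup.card_eq_card_quotient_mul_card_subgroup D]
        exact lt_mul_of_one_lt_right Nat.card_pos (Subgroup.one_lt_card_iff_ne_bot D |>.mpr hD0)
      haveI : (N.map f).Normal := Subgroup.Normal.map ‹_› f (QuotientGroup.mk'_surjective D)
      obtain ⟨y, hy, hye⟩ := IH _ hlt rfl (N.map f) (H₂.map f) (K.map f)
        (coprime_of_dvd cH₂ (Subgroup.card_map_dvd ..) (Subgroup.card_map_dvd ..))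
        (coprime_of_dvd cK (Subgroup.card_map_dvd ..) (Subgroup.card_map_dvd ..))
        (by rw [← Subgroup.map_sup, sH₂, Subgroup.map_top_of_surjective f (QuotientGroup.mk'_surjective D)])
        (by rw [← Subgroup.map_sup, sK, Subgroup.map_top_of_surjective f (QuotientGroup.mk'_surjective D)])
        (Or.inr (isSolvable_map f hs₂))
      obtain ⟨z, hz, rfl⟩ := Subgroup.mem_map.mp hy
      rw [← map_conj_smul] at hye
      have hc := congrArg (Subgroup.comap f) hye
      have hDz : D ≤ MulAut.conj z • H₂ := by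
        rw [← Subgroup.Normal.conj_smul_eq_self z D]
        exact Subgroup.map_mono (hD2 ▸ inf_le_left)
      rw [Subgroup.comap_map_eq, Subgroup.comap_map_eq, hf, QuotientGroup.ker_mk',
        sup_eq_left.mpr hDz, sup_eq_left.mpr (inf_le_left : D ≤ K)] at hc
      exact ⟨z * x, mul_mem hz hx, by rw [map_mul, mul_smul]; exact hc⟩
    · have e : ∀ {L' : Subgroup G}, N ⊔ L' = ⊤ → L' ≤ Y → (N ⊓ Y) ⊔ L' = Y := fun h1 h2 =>
        inf_sup_eq_of_le Subgroup.le_normalizer_of_normal h2 (h1 ▸ le_top)
      have hnY : ∀ {L' : Subgroup G}, L' ≤ Y →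
          L' ≤ Subgroup.normalizer ((N ⊓ Y : Subgroup G) : Set G) := by
        intro L' hL'
        refine le_trans hL' ?_
        rw [inf_comm]
        exact le_normalizer_inf Subgroup.le_normalizer_of_normal
      obtain ⟨z, hz, hze⟩ := rel (N ⊓ Y) H₂ K (hnY hH₂Y) (hnY hKY)
        (cH₂.coprime_dvd_left (Subgroup.card_dvd_of_le inf_le_left))
        (cK.coprime_dvd_left (Subgroup.card_dvd_of_le inf_le_left))
        ((e sH₂ hH₂Y).trans (e sK hKY).symm) (by rw [e sH₂ hH₂Y]; exact hYt) (Or.inr hs₂)
      exact ⟨z * x, mul_mem hz.1 hx, by rw [map_mul, mul_smul]; exact hze⟩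

/-- **Schur–Zassenhaus, conjugacy.** If `H` and `K` normalize `N`, have order prime to that of `N`,
`N ⊔ H = N ⊔ K` and `N` or `H` is solvable, then an element of `N` conjugates `H` to `K`. -/
theorem exists_conj_of_coprime [Finite G] {N H K : Subgroup G}
    (nH : H ≤ Subgroup.normalizer (N : Set G))
    (cH : (Nat.card N).Coprime (Nat.card H)) (cK : (Nat.card N).Coprime (Nat.card K))
    (hsup : N ⊔ H = N ⊔ K) (hs : Group.IsSolvable N ∨ Group.IsSolvable H) :
    ∃ x ∈ N, MulAut.conj x • H = K := by
  set X := N ⊔ H with hX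
  have hNX : N ≤ X := le_sup_left
  have hHX : H ≤ X := le_sup_right
  have hKX : K ≤ X := hsup ▸ le_sup_right
  haveI : (N.subgroupOf X).Normal := by
    rw [Subgroup.normal_subgroupOf_iff_le_normalizer hNX]
    exact sup_le Subgroup.le_normalizer nH
  have e : ∀ {L : Subgroup G}, L ≤ X → Nat.card (L.subgroupOf X) = Nat.card L :=
    fun hL => Nat.card_congr (Subgroup.subgroupOfEquivOfLe hL).toEquiv
  have hs' : Group.IsSolvable (N.subgroupOf X) ∨ Group.IsSolvable (H.subgroupOf X) := by
    rcases hs with h | h <;> haveI := h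
    · exact Or.inl (Group.isSolvable_of_isSolvable_injective (f := (Subgroup.subgroupOfEquivOfLe hNX).toMonoidHom) (Subgroup.subgroupOfEquivOfLe hNX).injective)
    · exact Or.inr (Group.isSolvable_of_isSolvable_injective (f := (Subgroup.subgroupOfEquivOfLe hHX).toMonoidHom) (Subgroup.subgroupOfEquivOfLe hHX).injective)
  obtain ⟨x, hx, hxe⟩ := exists_conj_top _ rfl (N.subgroupOf X) (H.subgroupOf X) (K.subgroupOf X)
    (by rw [e hNX, e hHX]; exact cH) (by rw [e hNX, e hKX]; exact cK)
    (by rw [← Subgroup.subgroupOf_sup hNX hHX, ← hX, Subgroup.subgroupOf_self])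
    (by rw [← Subgroup.subgroupOf_sup hNX hKX, ← hsup, Subgroup.subgroupOf_self]) hs'
  refine ⟨(x : G), hx, ?_⟩
  have := congrArg (Subgroup.map X.subtype) hxe
  rwa [map_conj_smul, Subgroup.map_subgroupOf_eq_of_le hHX,
    Subgroup.map_subgroupOf_eq_of_le hKX] at this

/-- Existence half, relative form: a subgroup normalizing `N` contains a complement to `N ⊓ S`
whenever the relative index is prime to the order. -/
theorem exists_complement_of_coprime [Finite G] {N S : Subgroup G}
    (nS : S ≤ Subgroup.normalizer (N : Set G))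
    (hc : (Nat.card ↥(N ⊓ S)).Coprime (N.relIndex S)) :
    ∃ B : Subgroup G, B ≤ S ∧ (N ⊓ S) ⊔ B = S ∧ (N ⊓ S) ⊓ B = ⊥ ∧ Nat.card B = N.relIndex S := by
  haveI : (N.subgroupOf S).Normal := Subgroup.normal_subgroupOf_of_le_normalizer nS
  have hmap : (N.subgroupOf S).map S.subtype = N ⊓ S := Subgroup.subgroupOf_map_subtype N S
  have hcard : Nat.card (N.subgroupOf S) = Nat.card ↥(N ⊓ S) := by
    rw [← hmap, Subgroup.card_map_of_injective S.subtype_injective]
  obtain ⟨B, hB⟩ := Subgroup.exists_right_complement'_of_coprime (N := N.subgroupOf S)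
    (by rw [hcard]; exact hc)
  refine ⟨B.map S.subtype, Subgroup.map_subtype_le B, ?_, ?_, ?_⟩
  · rw [← hmap, ← Subgroup.map_sup, hB.sup_eq_top, ← MonoidHom.range_eq_map, Subgroup.range_subtype]
  · rw [← hmap, ← Subgroup.map_inf _ _ _ S.subtype_injective, hB.disjoint.eq_bot, Subgroup.map_bot]
  · rw [Subgroup.card_map_of_injective S.subtype_injective]
    exact (hB.symm.index_eq_card).symm

end CfsgLib.Coprime
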