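import Mathlib
import Cfsg.Agent.Lib.Coprime.SchurZassenhaus

/-!
Coprime action of a subgroup `A` on a subgroup `K` it normalizes: fixed points in sets acted on,
in cosets and in quotients, invariant Sylow subgroups, stabilizing a chain, and the `P × Q` lemma.
-/

set_option autoImplicit false
set_option linter.style.haveILetI false

open Pointwise
open scoped commutatorElement

namespace CfsgLib.Coprime

variable {G : Type*} [Group G]

/-! ### Generalities -/

theorem commute_of_mem_normalizer {A K : Subgroup G}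
    (hAK : A ≤ Subgroup.normalizer (K : Set G)) (hd : K ⊓ A = ⊥) {z : G} (hz : z ∈ K)
    (hzA : z ∈ Subgroup.normalizer (A : Set G)) : z ∈ Subgroup.centralizer (A : Set G) := by
  intro a ha
  have h1 : z * a * z⁻¹ * a⁻¹ ∈ A :=
    mul_mem ((Subgroup.mem_normalizer_iff.mp hzA a).mp ha) (inv_mem ha)
  have h2 : z * (a * z⁻¹ * a⁻¹) ∈ K :=
    mul_mem hz ((Subgroup.mem_normalizer_iff.mp (hAK ha) _).mp (inv_mem hz))
  rw [show z * (a * z⁻¹ * a⁻¹) = z * a * z⁻¹ * a⁻¹ by group] at h2
  have h3 : z * a * z⁻¹ * a⁻¹ ∈ K ⊓ A := Subgroup.mem_inf.mpr ⟨h2, h1⟩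
  rw [hd, Subgroup.mem_bot, mul_inv_eq_one, mul_inv_eq_iff_eq_mul] at h3
  exact h3.symm

theorem commutator_le_left_of_le_normalizer {A K : Subgroup G}
    (hAK : A ≤ Subgroup.normalizer (K : Set G)) : ⁅K, A⁆ ≤ K := by
  refine Subgroup.commutator_le.mpr fun k hk a ha => ?_
  rw [commutatorElement_def, show k * a * k⁻¹ * a⁻¹ = k * (a * k⁻¹ * a⁻¹) by group]
  exact mul_mem hk ((Subgroup.mem_normalizer_iff.mp (hAK ha) _).mp (inv_mem hk))

theorem conj_smul_commutator (g : G) (H K : Subgroup G) :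
    MulAut.conj g • ⁅H, K⁆ = ⁅MulAut.conj g • H, MulAut.conj g • K⁆ :=
  Subgroup.map_commutator H K _

theorem le_normalizer_commutator {A H K : Subgroup G}
    (hH : A ≤ Subgroup.normalizer (H : Set G)) (hK : A ≤ Subgroup.normalizer (K : Set G)) :
    A ≤ Subgroup.normalizer ((⁅H, K⁆ : Subgroup G) : Set G) := by
  intro a ha
  rw [mem_normalizer_iff_conj_smul, conj_smul_commutator,
    conj_smul_eq_self_of_mem_normalizer (hH ha), conj_smul_eq_self_of_mem_normalizer (hK ha)]

theorem le_normalizer_inf_of_le {A H K : Subgroup G}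
    (hH : A ≤ Subgroup.normalizer (H : Set G)) (hK : A ≤ Subgroup.normalizer (K : Set G)) :
    A ≤ Subgroup.normalizer ((H ⊓ K : Subgroup G) : Set G) := by
  intro a ha
  rw [mem_normalizer_iff_conj_smul, Subgroup.smul_inf,
    conj_smul_eq_self_of_mem_normalizer (hH ha), conj_smul_eq_self_of_mem_normalizer (hK ha)]

theorem le_normalizer_sup_of_le {A H K : Subgroup G}
    (hH : A ≤ Subgroup.normalizer (H : Set G)) (hK : A ≤ Subgroup.normalizer (K : Set G)) :
    A ≤ Subgroup.normalizer ((H ⊔ K : Subgroup G) : Set G) := by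
  intro a ha
  rw [mem_normalizer_iff_conj_smul, sup_conj_smul,
    conj_smul_eq_self_of_mem_normalizer (hH ha), conj_smul_eq_self_of_mem_normalizer (hK ha)]

theorem le_normalizer_centralizer {A H : Subgroup G} (hH : A ≤ Subgroup.normalizer (H : Set G)) :
    A ≤ Subgroup.normalizer ((Subgroup.centralizer (H : Set G) : Subgroup G) : Set G) := by
  intro a ha
  refine Subgroup.mem_normalizer_iff.mpr fun x => ⟨fun hx h hh => ?_, fun hx h hh => ?_⟩
  · have h2 := hx _ ((Subgroup.mem_normalizer_iff''.mp (hH ha) h).mp hh)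
    calc h * (a * x * a⁻¹) = a * ((a⁻¹ * h * a) * x) * a⁻¹ := by group
      _ = a * (x * (a⁻¹ * h * a)) * a⁻¹ := by rw [h2]
      _ = a * x * a⁻¹ * h := by group
  · have h2 := hx _ ((Subgroup.mem_normalizer_iff.mp (hH ha) h).mp hh)
    calc h * x = a⁻¹ * ((a * h * a⁻¹) * (a * x * a⁻¹)) * a := by group
      _ = a⁻¹ * ((a * x * a⁻¹) * (a * h * a⁻¹)) * a := by rw [h2]
      _ = x * h := by group

theorem mem_centralizer_singleton_zpowers {g x : G}
    (h : x ∈ Subgroup.centralizer ({g} : Set G)) :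
    x ∈ Subgroup.centralizer ((Subgroup.zpowers g : Subgroup G) : Set G) := by
  have hxg : Commute x g := (Subgroup.mem_centralizer_singleton_iff.mp h)
  intro y hy
  obtain ⟨n, rfl⟩ := Subgroup.mem_zpowers_iff.mp hy
  exact (hxg.zpow_right n).eq.symm

theorem relIndex_sup_of_le_normalizer {K S : Subgroup G}
    (hS : S ≤ Subgroup.normalizer (K : Set G)) : K.relIndex (K ⊔ S) = K.relIndex S := by
  set X := Subgroup.normalizer (K : Set G) with hX
  have hKX : K ≤ X := Subgroup.le_normalizer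
  have h : (K.subgroupOf X).relIndex (K.subgroupOf X ⊔ S.subgroupOf X)
      = (K.subgroupOf X).relIndex (S.subgroupOf X) := Subgroup.relIndex_sup_left _ _
  rwa [← Subgroup.subgroupOf_sup hKX hS, Subgroup.relIndex_subgroupOf (sup_le hKX hS),
    Subgroup.relIndex_subgroupOf hS] at h

theorem card_sup_mul_card_inf {K S : Subgroup G} (hS : S ≤ Subgroup.normalizer (K : Set G)) :
    Nat.card ↥(K ⊔ S) * Nat.card ↥(K ⊓ S) = Nat.card K * Nat.card S := by
  have h1 := Subgroup.relIndex_mul_relIndex ⊥ K (K ⊔ S) bot_le le_sup_left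
  have h2 := Subgroup.relIndex_mul_relIndex ⊥ (K ⊓ S) S bot_le inf_le_right
  simp only [Subgroup.relIndex_bot_left] at h1 h2
  rw [Subgroup.inf_relIndex_right] at h2
  rw [← h1, ← h2, relIndex_sup_of_le_normalizer hS]
  ring

theorem relIndex_mul_card_inf (K S : Subgroup G) :
    K.relIndex S * Nat.card ↥(K ⊓ S) = Nat.card S := by
  have h2 := Subgroup.relIndex_mul_relIndex ⊥ (K ⊓ S) S bot_le inf_le_right
  simp only [Subgroup.relIndex_bot_left, Subgroup.inf_relIndex_right] at h2
  rw [mul_comm]; exact h2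

theorem conj_smul_eq_of_mem {g : G} {X : Subgroup G} (hg : g ∈ X) : MulAut.conj g • X = X :=
  conj_smul_eq_self_of_mem_normalizer (Subgroup.le_normalizer hg)

/-! ### Fixed points -/

/-- Glauberman's lemma: if `A` normalizes `K`, the orders are coprime, `A` or `K` is solvable and
`A` maps some point into its `K`-orbit, then `A` fixes a point of that orbit. -/
theorem exists_fixed_of_coprime [Finite G] {A K : Subgroup G}
    (hAK : A ≤ Subgroup.normalizer (K : Set G)) (hcop : (Nat.card A).Coprime (Nat.card K))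
    (hsolv : Group.IsSolvable A ∨ Group.IsSolvable K) {Ω : Type*} [MulAction G Ω] (ω₀ : Ω)
    (h : ∀ a ∈ A, ∃ k ∈ K, a • ω₀ = k • ω₀) :
    ∃ k ∈ K, ∀ a ∈ A, a • (k • ω₀) = k • ω₀ := by
  set S := MulAction.stabilizer G ω₀ ⊓ (K ⊔ A) with hS
  have hSN : S ≤ Subgroup.normalizer (K : Set G) :=
    inf_le_right.trans (sup_le Subgroup.le_normalizer hAK)
  have hKS : K ⊔ S = K ⊔ A := by
    refine le_antisymm (sup_le le_sup_left inf_le_right) (sup_le le_sup_left fun a ha => ?_)
    obtain ⟨k, hk, hka⟩ := h a ha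
    have h1 : k⁻¹ * a ∈ S := by
      refine Subgroup.mem_inf.mpr ⟨?_, mul_mem (inv_mem (Subgroup.mem_sup_left hk))
        (Subgroup.mem_sup_right ha)⟩
      rw [MulAction.mem_stabilizer_iff, mul_smul, hka, inv_smul_smul]
    have h2 := mul_mem (Subgroup.mem_sup_left (T := S) hk) (Subgroup.mem_sup_right (S := K) h1)
    rwa [mul_inv_cancel_left] at h2
  have hrel : K.relIndex S = Nat.card A := by
    rw [← relIndex_sup_of_le_normalizer hSN, hKS, relIndex_sup_of_le_normalizer hAK]
    have := relIndex_mul_card_inf K A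
    rwa [inf_eq_bot_of_coprime_card hcop.symm, Subgroup.card_bot, mul_one] at this
  obtain ⟨B, hBS, hsupB, -, hcB⟩ := exists_complement_of_coprime hSN
    (by rw [hrel]; exact hcop.symm.coprime_dvd_left (Subgroup.card_dvd_of_le inf_le_left))
  have hKB : K ⊔ A = K ⊔ B := by
    rw [← hKS, ← hsupB, ← sup_assoc, sup_eq_left.mpr (inf_le_left : K ⊓ S ≤ K)]
  obtain ⟨x, hx, hxe⟩ := exists_conj_of_coprime hAK hcop.symm
    (by rw [hcB, hrel]; exact hcop.symm) hKB hsolv.symm
  refine ⟨x⁻¹, inv_mem hx, fun a ha => ?_⟩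
  have h1 : x * a * x⁻¹ ∈ S := hBS (hxe ▸ conj_mem_conj_smul ha)
  have h2 := MulAction.mem_stabilizer_iff.mp (Subgroup.mem_inf.mp h1).1
  rw [eq_inv_smul_iff, ← mul_smul, ← mul_smul]
  exact h2

/-- Two `A`-fixed points in one `K`-orbit are moved into each other by an element of `C_K(A)`. -/
theorem exists_centralizer_smul [Finite G] {A K : Subgroup G}
    (hAK : A ≤ Subgroup.normalizer (K : Set G)) (hcop : (Nat.card A).Coprime (Nat.card K))
    (hsolv : Group.IsSolvable A ∨ Group.IsSolvable K) {Ω : Type*} [MulAction G Ω] {ω : Ω}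
    (hω : ∀ a ∈ A, a • ω = ω) {k : G} (hk : k ∈ K) (hkω : ∀ a ∈ A, a • (k • ω) = k • ω) :
    ∃ c ∈ K ⊓ Subgroup.centralizer (A : Set G), c • ω = k • ω := by
  set S := MulAction.stabilizer G ω with hS
  have hAS : A ≤ S := fun a ha => MulAction.mem_stabilizer_iff.mpr (hω a ha)
  set A' := MulAut.conj k⁻¹ • A with hA'
  have hA'S : A' ≤ S := by
    intro y hy
    have h1 := hkω _ (mem_conj_smul_iff.mp hy)
    rw [inv_inv, mul_smul, mul_smul, inv_smul_smul] at h1
    exact MulAction.mem_stabilizer_iff.mpr (smul_left_cancel k h1)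
  have hA'K : A' ≤ Subgroup.normalizer (K : Set G) := by
    intro y hy
    have h1 := hAK (mem_conj_smul_iff.mp hy)
    rw [inv_inv] at h1
    have hkn : k ∈ Subgroup.normalizer (K : Set G) := Subgroup.le_normalizer hk
    simpa [mul_assoc] using mul_mem (mul_mem (inv_mem hkn) h1) hkn
  have hN : A ≤ Subgroup.normalizer ((K ⊓ S : Subgroup G) : Set G) :=
    le_normalizer_inf_of_le hAK (hAS.trans Subgroup.le_normalizer)
  have hKA : K ⊔ A' = K ⊔ A := by
    have hkm : k⁻¹ ∈ K ⊔ A := inv_mem (Subgroup.mem_sup_left hk)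
    calc K ⊔ A' = MulAut.conj k⁻¹ • K ⊔ A' := by rw [conj_smul_eq_of_mem (inv_mem hk)]
      _ = MulAut.conj k⁻¹ • (K ⊔ A) := sup_conj_smul.symm
      _ = K ⊔ A := conj_smul_eq_of_mem hkm
  have hKY : K ⊓ ((K ⊔ A) ⊓ S) = K ⊓ S := by
    rw [← inf_assoc, inf_eq_left.mpr (le_sup_left : K ≤ K ⊔ A)]
  have e1 := inf_sup_eq_of_le (Y := (K ⊔ A) ⊓ S) hAK (le_inf le_sup_right hAS) inf_le_left
  have e2 := inf_sup_eq_of_le (Y := (K ⊔ A) ⊓ S) hA'K
    (le_inf (hKA ▸ le_sup_right) hA'S) (hKA.symm ▸ inf_le_left)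
  rw [hKY] at e1 e2
  have hsolv' : Group.IsSolvable ↥(K ⊓ S) ∨ Group.IsSolvable A :=
    hsolv.symm.imp_left (isSolvable_of_le inf_le_left)
  obtain ⟨y, hy, hye⟩ := exists_conj_of_coprime hN
    (hcop.symm.coprime_dvd_left (Subgroup.card_dvd_of_le inf_le_left))
    (by rw [hA', card_conj_smul]
        exact hcop.symm.coprime_dvd_left (Subgroup.card_dvd_of_le inf_le_left))
    (e1.trans e2.symm) hsolv'
  have hzK : k * y ∈ K := mul_mem hk (Subgroup.mem_inf.mp hy).1
  have hzA : k * y ∈ Subgroup.normalizer (A : Set G) := by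
    rw [mem_normalizer_iff_conj_smul, map_mul, mul_smul, hye, hA', ← mul_smul, ← map_mul,
      mul_inv_cancel, map_one, one_smul]
  refine ⟨k * y, Subgroup.mem_inf.mpr ⟨hzK,
    commute_of_mem_normalizer hAK (inf_eq_bot_of_coprime_card hcop.symm) hzK hzA⟩, ?_⟩
  rw [mul_smul, MulAction.mem_stabilizer_iff.mp (Subgroup.mem_inf.mp hy).2]

/-- An `A`-fixed coset `kN` of an `A`-invariant subgroup `N ≤ K` contains a fixed point.
`N` need not be normal in `K`. -/
theorem exists_centralizer_mem_coset [Finite G] {A K : Subgroup G}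
    (hAK : A ≤ Subgroup.normalizer (K : Set G)) (hcop : (Nat.card A).Coprime (Nat.card K))
    (hsolv : Group.IsSolvable A ∨ Group.IsSolvable K) {N : Subgroup G} (hNK : N ≤ K)
    (hNA : A ≤ Subgroup.normalizer (N : Set G)) {k : G} (hk : k ∈ K)
    (hfix : ∀ a ∈ A, k⁻¹ * (a * k * a⁻¹) ∈ N) :
    ∃ c ∈ K ⊓ Subgroup.centralizer (A : Set G), k⁻¹ * c ∈ N := by
  set M := N ⊔ A with hM
  have hω : ∀ a ∈ A, a • ((1 : G) : G ⧸ M) = ((1 : G) : G ⧸ M) := by
    intro a ha
    rw [MulAction.Quotient.smul_coe, smul_eq_mul, mul_one, QuotientGroup.eq, mul_one]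
    exact inv_mem (Subgroup.mem_sup_right ha)
  have hkω : ∀ a ∈ A, a • (k • ((1 : G) : G ⧸ M)) = k • ((1 : G) : G ⧸ M) := by
    intro a ha
    rw [← mul_smul]
    simp only [MulAction.Quotient.smul_coe, smul_eq_mul, mul_one]
    symm
    rw [QuotientGroup.eq, show k⁻¹ * (a * k) = k⁻¹ * (a * k * a⁻¹) * a by group]
    exact mul_mem (Subgroup.mem_sup_left (hfix a ha)) (Subgroup.mem_sup_right ha)
  obtain ⟨c, hc, hce⟩ := exists_centralizer_smul hAK hcop hsolv hω hk hkω
  refine ⟨c, hc, ?_⟩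
  simp only [MulAction.Quotient.smul_coe, smul_eq_mul, mul_one] at hce
  have h1 : k⁻¹ * c ∈ M := QuotientGroup.eq.mp hce.symm
  rw [hM, ← SetLike.mem_coe, Subgroup.coe_mul_of_right_le_normalizer_left N A hNA,
    Set.mem_mul] at h1
  obtain ⟨n, hn, a, ha, he⟩ := h1
  have haK : a ∈ K := by
    have : a = n⁻¹ * (k⁻¹ * c) := by rw [← he, inv_mul_cancel_left]
    rw [this]
    exact mul_mem (inv_mem (hNK hn)) (mul_mem (inv_mem hk) (Subgroup.mem_inf.mp hc).1)
  have ha1 : a ∈ K ⊓ A := Subgroup.mem_inf.mpr ⟨haK, ha⟩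
  rw [inf_eq_bot_of_coprime_card hcop.symm, Subgroup.mem_bot] at ha1
  rw [← he, ha1, mul_one]
  exact hn

/-- Fixed points in a homomorphic image are images of fixed points. -/
theorem map_inf_centralizer [Finite G] {A K : Subgroup G}
    (hAK : A ≤ Subgroup.normalizer (K : Set G)) (hcop : (Nat.card A).Coprime (Nat.card K))
    (hsolv : Group.IsSolvable A ∨ Group.IsSolvable K) {G' : Type*} [Group G'] (f : G →* G') :
    (K ⊓ Subgroup.centralizer (A : Set G)).map f
      = K.map f ⊓ Subgroup.centralizer ((A.map f : Subgroup G') : Set G') := by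
  apply le_antisymm
  · rintro _ ⟨x, hx, rfl⟩
    rw [SetLike.mem_coe, Subgroup.mem_inf] at hx
    refine Subgroup.mem_inf.mpr ⟨Subgroup.mem_map_of_mem f hx.1, ?_⟩
    rintro _ ⟨a, ha, rfl⟩
    rw [← map_mul, ← map_mul, hx.2 a ha]
  · rintro y hy
    obtain ⟨⟨k, hk, rfl⟩, hc⟩ := Subgroup.mem_inf.mp hy
    obtain ⟨c, hc', hcN⟩ := exists_centralizer_mem_coset hAK hcop hsolv
      (N := f.ker ⊓ K) inf_le_right
      (le_normalizer_inf_of_le Subgroup.le_normalizer_of_normal hAK) hk (fun a ha => by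
        refine Subgroup.mem_inf.mpr ⟨?_,
          mul_mem (inv_mem hk) ((Subgroup.mem_normalizer_iff.mp (hAK ha) k).mp hk)⟩
        have h1 := hc (f a) (Subgroup.mem_map_of_mem f ha)
        rw [MonoidHom.mem_ker]
        simp only [map_mul, map_inv]
        rw [h1]
        group)
    refine ⟨c, hc', ?_⟩
    have := (Subgroup.mem_inf.mp hcN).1
    rw [MonoidHom.mem_ker, map_mul, map_inv, inv_mul_eq_one] at this
    exact this.symm

/-- `K = [K, A] C_K(A)`. -/
theorem commutator_sup_centralizer [Finite G] {A K : Subgroup G}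
    (hAK : A ≤ Subgroup.normalizer (K : Set G)) (hcop : (Nat.card A).Coprime (Nat.card K))
    (hsolv : Group.IsSolvable A ∨ Group.IsSolvable K) :
    ⁅K, A⁆ ⊔ (K ⊓ Subgroup.centralizer (A : Set G)) = K := by
  refine le_antisymm (sup_le (commutator_le_left_of_le_normalizer hAK) inf_le_left) fun k hk => ?_
  obtain ⟨c, hc, hcN⟩ := exists_centralizer_mem_coset hAK hcop hsolv
    (commutator_le_left_of_le_normalizer hAK)
    (le_normalizer_commutator hAK Subgroup.le_normalizer) hk (fun a ha => by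
      rw [show k⁻¹ * (a * k * a⁻¹) = ⁅k⁻¹, a⁆ by rw [commutatorElement_def]; group]
      exact Subgroup.commutator_mem_commutator (inv_mem hk) ha)
  have h1 := mul_mem (Subgroup.mem_sup_right (S := ⁅K, A⁆) hc)
    (inv_mem (Subgroup.mem_sup_left (T := K ⊓ Subgroup.centralizer (A : Set G)) hcN))
  simpa [mul_assoc] using h1

/-- `[K, A, A] = [K, A]`. -/
theorem commutator_commutator_eq [Finite G] {A K : Subgroup G}
    (hAK : A ≤ Subgroup.normalizer (K : Set G)) (hcop : (Nat.card A).Coprime (Nat.card K))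
    (hsolv : Group.IsSolvable A ∨ Group.IsSolvable K) : ⁅⁅K, A⁆, A⁆ = ⁅K, A⁆ := by
  have hN := commutator_le_left_of_le_normalizer hAK
  refine le_antisymm (Subgroup.commutator_mono hN le_rfl) ?_
  refine Subgroup.commutator_le.mpr fun k hk a ha => ?_
  obtain ⟨c, hc, hcN⟩ := exists_centralizer_mem_coset hAK hcop hsolv hN
    (le_normalizer_commutator hAK Subgroup.le_normalizer) hk (fun b hb => by
      rw [show k⁻¹ * (b * k * b⁻¹) = ⁅k⁻¹, b⁆ by rw [commutatorElement_def]; group]
      exact Subgroup.commutator_mem_commutator (inv_mem hk) hb)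
  rw [Subgroup.mem_inf] at hc
  have hcA : c ∈ Subgroup.normalizer (A : Set G) := Subgroup.centralizer_le_normalizer _ hc.2
  have hcKA : MulAut.conj c • ⁅K, A⁆ = ⁅K, A⁆ := by
    rw [conj_smul_commutator, conj_smul_eq_of_mem hc.1, conj_smul_eq_self_of_mem_normalizer hcA]
  have hcM : MulAut.conj c • ⁅⁅K, A⁆, A⁆ = ⁅⁅K, A⁆, A⁆ := by
    rw [conj_smul_commutator, hcKA, conj_smul_eq_self_of_mem_normalizer hcA]
  have hn : c⁻¹ * k ∈ ⁅K, A⁆ := by simpa using inv_mem hcN
  rw [← hcM]
  have hca : a * c = c * a := hc.2 a ha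
  rw [mem_conj_smul_iff]
  convert Subgroup.commutator_mem_commutator hn ha using 1
  have hca2 : a⁻¹ * c = c * a⁻¹ := by
    rw [eq_mul_inv_iff_mul_eq, mul_assoc, ← hca, inv_mul_cancel_left]
  rw [commutatorElement_def, commutatorElement_def]
  calc c⁻¹ * (k * a * k⁻¹ * a⁻¹) * c = c⁻¹ * k * a * k⁻¹ * (a⁻¹ * c) := by group
    _ = c⁻¹ * k * a * k⁻¹ * (c * a⁻¹) := by rw [hca2]
    _ = c⁻¹ * k * a * (c⁻¹ * k)⁻¹ * a⁻¹ := by group

/-- A fixed point of a product of two invariant subgroups is a product of fixed points. -/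
theorem inf_centralizer_le_sup [Finite G] {A X Y : Subgroup G}
    (hXA : A ≤ Subgroup.normalizer (X : Set G)) (hYA : A ≤ Subgroup.normalizer (Y : Set G))
    (hYX : Y ≤ Subgroup.normalizer (X : Set G)) (hcop : (Nat.card A).Coprime (Nat.card X))
    (hsolv : Group.IsSolvable A ∨ Group.IsSolvable X) :
    (X ⊔ Y) ⊓ Subgroup.centralizer (A : Set G)
      ≤ (X ⊓ Subgroup.centralizer (A : Set G)) ⊔ (Y ⊓ Subgroup.centralizer (A : Set G)) := by
  intro k hk
  obtain ⟨hk1, hkC⟩ := Subgroup.mem_inf.mp hk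
  rw [← SetLike.mem_coe, Subgroup.coe_mul_of_right_le_normalizer_left X Y hYX, Set.mem_mul] at hk1
  obtain ⟨x, hx, y, hy, rfl⟩ := hk1
  obtain ⟨c, hc, hcN⟩ := exists_centralizer_mem_coset hXA hcop hsolv
    (N := X ⊓ Y) inf_le_left (le_normalizer_inf_of_le hXA hYA) hx (fun a ha => by
      have h2 : x⁻¹ * (a * x * a⁻¹) = y * (a * y⁻¹ * a⁻¹) := by
        calc x⁻¹ * (a * x * a⁻¹) = x⁻¹ * (a * (x * y)) * y⁻¹ * a⁻¹ := by group
          _ = x⁻¹ * ((x * y) * a) * y⁻¹ * a⁻¹ := by rw [hkC a ha]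
          _ = y * (a * y⁻¹ * a⁻¹) := by group
      refine Subgroup.mem_inf.mpr
        ⟨mul_mem (inv_mem hx) ((Subgroup.mem_normalizer_iff.mp (hXA ha) x).mp hx), ?_⟩
      rw [h2]
      exact mul_mem hy ((Subgroup.mem_normalizer_iff.mp (hYA ha) _).mp (inv_mem hy)))
  obtain ⟨hcX, hcC⟩ := Subgroup.mem_inf.mp hc
  have h3 : c⁻¹ * (x * y) ∈ Y := by
    have h4 := mul_mem (inv_mem (Subgroup.mem_inf.mp hcN).2) hy
    simpa [mul_assoc] using h4
  have h5 := mul_mem (Subgroup.mem_sup_left (T := Y ⊓ Subgroup.centralizer (A : Set G)) hc)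
    (Subgroup.mem_sup_right (S := X ⊓ Subgroup.centralizer (A : Set G))
      (Subgroup.mem_inf.mpr ⟨h3, mul_mem (inv_mem hcC) hkC⟩))
  rwa [mul_inv_cancel_left] at h5

theorem isSolvable_sup_of_le_normalizer {X Y : Subgroup G} (hX : Group.IsSolvable X)
    (hY : Group.IsSolvable Y) (hYX : Y ≤ Subgroup.normalizer (X : Set G)) :
    Group.IsSolvable ↥(X ⊔ Y) := by
  haveI := hX
  haveI := hY
  haveI hn : (X.subgroupOf (X ⊔ Y)).Normal :=
    (Subgroup.normal_subgroupOf_iff_le_normalizer le_sup_left).mpr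
      (sup_le Subgroup.le_normalizer hYX)
  let f : Y →* (↥(X ⊔ Y) ⧸ X.subgroupOf (X ⊔ Y)) :=
    (QuotientGroup.mk' _).comp (Subgroup.inclusion le_sup_right)
  have hf : Function.Surjective f := by
    intro q
    obtain ⟨⟨z, hz⟩, rfl⟩ := QuotientGroup.mk_surjective q
    have hz' := hz
    rw [← SetLike.mem_coe, Subgroup.coe_mul_of_right_le_normalizer_left X Y hYX, Set.mem_mul] at hz'
    obtain ⟨x, hx, y, hy, rfl⟩ := hz'
    refine ⟨⟨y, hy⟩, ?_⟩
    show QuotientGroup.mk _ = QuotientGroup.mk _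
    rw [QuotientGroup.eq, Subgroup.mem_subgroupOf]
    show y⁻¹ * (x * y) ∈ X
    rw [← mul_assoc]
    exact (Subgroup.mem_normalizer_iff''.mp (hYX hy) x).mp hx
  haveI : Group.IsSolvable (↥(X ⊔ Y) ⧸ X.subgroupOf (X ⊔ Y)) := Group.isSolvable_of_surjective hf
  refine Group.isSolvable_of_ker_le_range (Subgroup.inclusion (le_sup_left : X ≤ X ⊔ Y))
    (QuotientGroup.mk' (X.subgroupOf (X ⊔ Y))) ?_
  rw [QuotientGroup.ker_mk']
  intro z hz
  exact ⟨⟨z, hz⟩, rfl⟩

/-! ### Stabilizing chains -/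

theorem pow_conj_eq {a k d : G} (hk : a * k * a⁻¹ = d * k) (hd : a * d = d * a) :
    ∀ n : ℕ, a ^ n * k * (a ^ n)⁻¹ = d ^ n * k
  | 0 => by simp
  | n + 1 => by
    have hdn : a * d ^ n = d ^ n * a := (Commute.pow_right hd n).eq
    calc a ^ (n + 1) * k * (a ^ (n + 1))⁻¹
        = a * (a ^ n * k * (a ^ n)⁻¹) * a⁻¹ := by group
      _ = a * (d ^ n * k) * a⁻¹ := by rw [pow_conj_eq hk hd n]
      _ = a * d ^ n * k * a⁻¹ := by group
      _ = d ^ n * a * k * a⁻¹ := by rw [hdn]
      _ = d ^ n * (a * k * a⁻¹) := by group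
      _ = d ^ (n + 1) * k := by rw [hk, pow_succ]; group

/-- If `[K, A, A] = 1` and the orders are coprime then `[K, A] = 1`. -/
theorem commutator_eq_bot_of_commutator_commutator [Finite G] {A K : Subgroup G}
    (hAK : A ≤ Subgroup.normalizer (K : Set G)) (hcop : (Nat.card A).Coprime (Nat.card K))
    (h : ⁅⁅K, A⁆, A⁆ = ⊥) : ⁅K, A⁆ = ⊥ := by
  rw [Subgroup.commutator_comm, eq_bot_iff]
  refine Subgroup.commutator_le.mpr fun a ha k hk => ?_
  rw [Subgroup.mem_bot]
  set d := ⁅a, k⁆ with hd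
  have hdKA : d ∈ ⁅K, A⁆ :=
    Subgroup.commutator_comm K A ▸ Subgroup.commutator_mem_commutator ha hk
  have hda : a * d = d * a :=
    (Subgroup.commutator_eq_bot_iff_le_centralizer.mp h) hdKA a ha
  have hak : a * k * a⁻¹ = d * k := by rw [hd, commutatorElement_def]; group
  have h1 := pow_conj_eq hak hda (orderOf a)
  rw [pow_orderOf_eq_one, one_mul, inv_one, mul_one] at h1
  have h2 : orderOf d ∣ orderOf a := orderOf_dvd_of_pow_eq_one (right_eq_mul.mp h1)
  have h3 : orderOf d ∣ Nat.card K :=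
    Subgroup.orderOf_dvd_natCard K (commutator_le_left_of_le_normalizer hAK hdKA)
  have h4 := h2.trans (Subgroup.orderOf_dvd_natCard A ha)
  exact orderOf_eq_one_iff.mp (Nat.eq_one_of_dvd_coprimes hcop h4 h3)

/-- A coprime `A` stabilizing a descending chain from `K` to `⊥` centralizes `K`. -/
theorem commutator_eq_bot_of_chain [Finite G] {A : Subgroup G} (n : ℕ)
    (c : Fin (n + 1) → Subgroup G) (hlast : c (Fin.last n) = ⊥) (hanti : Antitone c)
    (hA : ∀ i, A ≤ Subgroup.normalizer ((c i : Subgroup G) : Set G))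
    (hcop : (Nat.card A).Coprime (Nat.card (c 0)))
    (htriv : ∀ i : Fin n, ⁅c i.castSucc, A⁆ ≤ c i.succ) : ⁅c 0, A⁆ = ⊥ := by
  suffices ∀ i : Fin (n + 1), ⁅c i, A⁆ = ⊥ from this 0
  intro i
  induction i using Fin.reverseInduction with
  | last => rw [hlast, Subgroup.commutator_bot_left]
  | cast i ih =>
    refine commutator_eq_bot_of_commutator_commutator (hA _)
      (hcop.coprime_dvd_right (Subgroup.card_dvd_of_le (hanti (Fin.zero_le _)))) ?_
    rw [eq_bot_iff, ← ih]
    exact Subgroup.commutator_mono (htriv i) le_rfl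

/-! ### Invariant Sylow subgroups -/

theorem map_subtype_conj_smul_sylow {K : Subgroup G} {p : ℕ} (k : K) (P : Sylow p K) :
    ((k • P : Sylow p K) : Subgroup K).map K.subtype
      = MulAut.conj (k : G) • (P : Subgroup K).map K.subtype := by
  rw [Sylow.coe_subgroup_smul, map_conj_smul]
  rfl

theorem exists_invariant_sylow [Finite G] {A K : Subgroup G}
    (hAK : A ≤ Subgroup.normalizer (K : Set G)) (hcop : (Nat.card A).Coprime (Nat.card K))
    (hsolv : Group.IsSolvable A ∨ Group.IsSolvable K) (p : ℕ) [Fact p.Prime] :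
    ∃ P : Sylow p K, A ≤ Subgroup.normalizer ((P : Subgroup K).map K.subtype : Set G) := by
  classical
  letI : MulAction G (Subgroup G) := MulAction.compHom _ (MulAut.conj : G →* MulAut G)
  let P₀ : Sylow p K := default
  set ω := (P₀ : Subgroup K).map K.subtype with hω
  have horb : ∀ a ∈ A, ∃ k ∈ K, a • ω = k • ω := by
    intro a ha
    have hle : MulAut.conj a • ω ≤ K := by
      calc MulAut.conj a • ω ≤ MulAut.conj a • K :=
            Subgroup.map_mono (Subgroup.map_subtype_le _)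
        _ = K := conj_smul_eq_self_of_mem_normalizer (hAK ha)
    have hcard : Nat.card ((MulAut.conj a • ω).subgroupOf K) = p ^ (Nat.card K).factorization p := by
      rw [Nat.card_congr (Subgroup.subgroupOfEquivOfLe hle).toEquiv, card_conj_smul, hω,
        Subgroup.card_map_of_injective K.subtype_injective, P₀.card_eq_multiplicity]
    obtain ⟨k, hk⟩ := MulAction.exists_smul_eq K P₀ (Sylow.ofCard _ hcard)
    refine ⟨k, k.2, ?_⟩
    show MulAut.conj a • ω = MulAut.conj (k : G) • ω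
    rw [hω, ← map_subtype_conj_smul_sylow k P₀, hk, Sylow.coe_ofCard,
      Subgroup.map_subgroupOf_eq_of_le hle]
  obtain ⟨k, hk, hfix⟩ := exists_fixed_of_coprime hAK hcop hsolv ω horb
  refine ⟨(⟨k, hk⟩ : K) • P₀, fun a ha => ?_⟩
  rw [map_subtype_conj_smul_sylow, mem_normalizer_iff_conj_smul]
  exact hfix a ha

theorem invariant_sylow_conj [Finite G] {A K : Subgroup G}
    (hAK : A ≤ Subgroup.normalizer (K : Set G)) (hcop : (Nat.card A).Coprime (Nat.card K))
    (hsolv : Group.IsSolvable A ∨ Group.IsSolvable K) {p : ℕ} [Fact p.Prime] (P Q : Sylow p K)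
    (hP : A ≤ Subgroup.normalizer ((P : Subgroup K).map K.subtype : Set G))
    (hQ : A ≤ Subgroup.normalizer ((Q : Subgroup K).map K.subtype : Set G)) :
    ∃ c : K, (c : G) ∈ Subgroup.centralizer (A : Set G) ∧ c • P = Q := by
  classical
  letI : MulAction G (Subgroup G) := MulAction.compHom _ (MulAut.conj : G →* MulAut G)
  obtain ⟨k, hk⟩ := MulAction.exists_smul_eq K P Q
  set ω := (P : Subgroup K).map K.subtype with hω
  have hQe : (Q : Subgroup K).map K.subtype = MulAut.conj (k : G) • ω := by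
    rw [← hk, map_subtype_conj_smul_sylow]
  obtain ⟨c, hc, hce⟩ := exists_centralizer_smul hAK hcop hsolv (ω := ω)
    (fun a ha => conj_smul_eq_self_of_mem_normalizer (hP ha)) k.2
    (fun a ha => by
      show MulAut.conj a • (MulAut.conj (k : G) • ω) = MulAut.conj (k : G) • ω
      rw [← hQe]
      exact conj_smul_eq_self_of_mem_normalizer (hQ ha))
  obtain ⟨hcK, hcC⟩ := Subgroup.mem_inf.mp hc
  refine ⟨⟨c, hcK⟩, hcC, Sylow.ext (Subgroup.map_injective K.subtype_injective ?_)⟩
  rw [map_subtype_conj_smul_sylow, hQe]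
  exact hce

/-- A `p`-subgroup that is a Sylow subgroup of its normalizer is a Sylow subgroup. -/
theorem not_dvd_relIndex_of_normalizer [Finite G] {p : ℕ} [hp : Fact p.Prime] {P K : Subgroup G}
    (hPK : P ≤ K) (hP : IsPGroup p P)
    (h : ∀ Q : Subgroup G, IsPGroup p Q → P ≤ Q → Q ≤ K →
      Q ≤ Subgroup.normalizer (P : Set G) → Q = P) :
    ∃ S : Sylow p K, (S : Subgroup K).map K.subtype = P := by
  obtain ⟨S, hS⟩ := (hP.comap_of_injective K.subtype K.subtype_injective).exists_le_sylow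
  refine ⟨S, ?_⟩
  set S' := (S : Subgroup K).map K.subtype with hS'
  have hPS : P ≤ S' := by
    rw [hS', ← Subgroup.map_subgroupOf_eq_of_le hPK]
    exact Subgroup.map_mono hS
  by_contra hne
  have hlt : P < S' := lt_of_le_of_ne hPS (Ne.symm hne)
  have hS'p : IsPGroup p S' := S.2.map _
  haveI := hS'p.isNilpotent
  have hltop : P.subgroupOf S' < ⊤ := lt_top_iff_ne_top.mpr fun he =>
    hlt.not_ge (Subgroup.subgroupOf_eq_top.mp he)
  have hgrow := Group.normalizerCondition_of_isNilpotent (P.subgroupOf S') hltop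
  obtain ⟨x, hx, hxP⟩ := SetLike.exists_of_lt hgrow
  have hxN : (x : G) ∈ Subgroup.normalizer (P : Set G) := by
    rw [mem_normalizer_iff_conj_smul]
    have h1 := congrArg (Subgroup.map S'.subtype) (mem_normalizer_iff_conj_smul.mp hx)
    rwa [map_conj_smul, Subgroup.map_subgroupOf_eq_of_le hPS] at h1
  have hQ : Subgroup.zpowers (x : G) ⊔ P ≤ S' :=
    sup_le (Subgroup.zpowers_le.mpr x.2) hPS
  have hQN : Subgroup.zpowers (x : G) ⊔ P ≤ Subgroup.normalizer (P : Set G) :=
    sup_le (Subgroup.zpowers_le.mpr hxN) Subgroup.le_normalizer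
  have he := h _ (hS'p.to_le hQ) le_sup_right (hQ.trans (Subgroup.map_subtype_le _)) hQN
  exact hxP (he ▸ Subgroup.mem_sup_left (Subgroup.mem_zpowers (x : G)))

/-- An invariant `p`-subgroup lies in an invariant Sylow subgroup. -/
theorem exists_invariant_sylow_ge [Finite G] {A K : Subgroup G}
    (hAK : A ≤ Subgroup.normalizer (K : Set G)) (hcop : (Nat.card A).Coprime (Nat.card K))
    (hsolv : Group.IsSolvable A ∨ Group.IsSolvable K) {p : ℕ} [hp : Fact p.Prime] {U : Subgroup G}
    (hUK : U ≤ K) (hU : IsPGroup p U) (hUA : A ≤ Subgroup.normalizer (U : Set G)) :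
    ∃ P : Sylow p K, U ≤ (P : Subgroup K).map K.subtype ∧
      A ≤ Subgroup.normalizer ((P : Subgroup K).map K.subtype : Set G) := by
  obtain ⟨M, hUM, hM⟩ := Finite.exists_le_maximal
    (p := fun W : Subgroup G => W ≤ K ∧ IsPGroup p W ∧ A ≤ Subgroup.normalizer (W : Set G))
    (a := U) ⟨hUK, hU, hUA⟩
  obtain ⟨hMK, hMp, hMA⟩ := hM.prop
  set T := Subgroup.normalizer (M : Set G) ⊓ K with hT
  have hMT : M ≤ T := le_inf Subgroup.le_normalizer hMK
  have hTA : A ≤ Subgroup.normalizer (T : Set G) := by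
    refine le_normalizer_inf_of_le (fun a ha => ?_) hAK
    exact Subgroup.le_normalizer (hMA ha)
  obtain ⟨R, hR⟩ := exists_invariant_sylow hTA
    (hcop.coprime_dvd_right (Subgroup.card_dvd_of_le inf_le_right))
    (hsolv.imp_right (isSolvable_of_le inf_le_right)) p
  set R' := (R : Subgroup T).map T.subtype with hR'
  have hR'T : R' ≤ T := Subgroup.map_subtype_le _
  have hRM : IsPGroup p ↥(R' ⊔ M) :=
    IsPGroup.to_sup_of_normal_right' (R.2.map _) hMp (hR'T.trans inf_le_left)
  have hMR : M ≤ R' := by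
    have h1 : (R : Subgroup T) ≤ (R' ⊔ M).subgroupOf T := by
      intro x hx
      exact Subgroup.mem_sup_left (Subgroup.mem_map_of_mem _ hx)
    have h2 := R.3 (hRM.comap_of_injective T.subtype T.subtype_injective) h1
    intro x hx
    exact ⟨⟨x, hMT hx⟩, h2 ▸ (Subgroup.mem_sup_right hx : x ∈ R' ⊔ M), rfl⟩
  have hMeq : R' = M := le_antisymm
    (hM.2 ⟨hR'T.trans inf_le_right, R.2.map _, hR⟩ hMR) hMR
  obtain ⟨S, hS⟩ := not_dvd_relIndex_of_normalizer hMK hMp (fun Q hQ hMQ hQK hQN => by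
    have hQT : Q ≤ T := le_inf hQN hQK
    have h1 : (R : Subgroup T) ≤ Q.subgroupOf T := by
      intro x hx
      exact hMQ (hMeq ▸ Subgroup.mem_map_of_mem _ hx)
    have h2 := R.3 (hQ.comap_of_injective T.subtype T.subtype_injective) h1
    refine le_antisymm (fun x hx => hMeq ▸ ?_) hMQ
    exact ⟨⟨x, hQT hx⟩, h2 ▸ (hx : x ∈ Q), rfl⟩)
  exact ⟨S, hS.symm ▸ hUM, hS.symm ▸ hMA⟩

/-! ### The `P × Q` lemma -/

theorem commutator_lt_of_isNilpotent {X U P : Subgroup G} [Group.IsNilpotent X] (hUX : U ≤ X)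
    (hPX : P ≤ X) (hPU : P ≤ Subgroup.normalizer (U : Set G)) (hU : U ≠ ⊥) : ⁅U, P⁆ < U := by
  refine lt_of_le_of_ne (commutator_le_left_of_le_normalizer hPU) fun he => hU ?_
  have h1 : ∀ n, U.subgroupOf X ≤ (⊤ : Subgroup X).lowerCentralSeries n := by
    intro n
    induction n with
    | zero => exact le_top
    | succ n ih =>
      rw [Subgroup.lowerCentralSeries_succ]
      refine le_trans (le_of_eq ?_) (Subgroup.commutator_mono ih (le_top (a := P.subgroupOf X)))
      apply Subgroup.map_injective X.subtype_injective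
      rw [Subgroup.map_commutator, Subgroup.map_subgroupOf_eq_of_le hUX,
        Subgroup.map_subgroupOf_eq_of_le hPX, he]
  obtain ⟨n, hn⟩ := Subgroup.nilpotent_iff_lowerCentralSeries.mp ‹Group.IsNilpotent X›
  have h2 := h1 n
  rw [hn, le_bot_iff, Subgroup.subgroupOf_eq_bot, disjoint_iff, inf_eq_left.mpr hUX] at h2
  exact h2

/-- Thompson's `P × Q` lemma. -/
theorem pxq [Finite G] {p : ℕ} [hp : Fact p.Prime] {P Q : Subgroup G} (hP : IsPGroup p P)
    (hQ : (Nat.card Q).Coprime p) (hPQ : P ≤ Subgroup.centralizer (Q : Set G)) :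
    ∀ {U : Subgroup G}, IsPGroup p U → P ≤ Subgroup.normalizer (U : Set G) →
      Q ≤ Subgroup.normalizer (U : Set G) →
      U ⊓ Subgroup.centralizer (P : Set G) ≤ Subgroup.centralizer (Q : Set G) →
      Q ≤ Subgroup.centralizer (U : Set G) := by
  intro U
  induction U using WellFoundedLT.induction with
  | ind U IH =>
  intro hU hPU hQU hC
  by_cases hU1 : U = ⊥
  · subst hU1
    intro q _ u hu
    rw [SetLike.mem_coe, Subgroup.mem_bot] at hu
    simp [hu]
  haveI : Group.IsNilpotent ↥(P ⊔ U) := (IsPGroup.to_sup_of_normal_right' hP hU hPU).isNilpotent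
  have hlt : ⁅U, P⁆ < U := commutator_lt_of_isNilpotent (X := P ⊔ U) le_sup_right le_sup_left hPU hU1
  have hQP : Q ≤ Subgroup.normalizer (P : Set G) := fun q hq =>
    Subgroup.centralizer_le_normalizer _ fun x hx => (hPQ hx q hq).symm
  have hW := IH _ hlt (hU.to_le hlt.le)
    (le_normalizer_commutator hPU Subgroup.le_normalizer) (le_normalizer_commutator hQU hQP)
    (le_trans (inf_le_inf_right _ hlt.le) hC)
  have h1 : ⁅⁅U, P⁆, Q⁆ = ⊥ :=
    Subgroup.commutator_eq_bot_iff_le_centralizer.mpr fun w hw q hq => (hW hq w hw).symm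
  have h2 : ⁅⁅P, Q⁆, U⁆ = ⊥ := by
    rw [Subgroup.commutator_eq_bot_iff_le_centralizer.mpr hPQ, Subgroup.commutator_bot_left]
  have h3 : ⁅⁅Q, U⁆, P⁆ = ⊥ := Subgroup.commutator_commutator_eq_bot_of_rotate h1 h2
  have hUQ : ⁅Q, U⁆ ≤ U := by
    rw [Subgroup.commutator_comm]; exact commutator_le_left_of_le_normalizer hQU
  have h4 : ⁅Q, U⁆ ≤ Subgroup.centralizer (Q : Set G) :=
    (le_inf hUQ (Subgroup.commutator_eq_bot_iff_le_centralizer.mp h3)).trans hC
  have hcop : (Nat.card Q).Coprime (Nat.card U) := by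
    obtain ⟨n, hn⟩ := IsPGroup.iff_card.mp hU
    rw [hn]
    exact hQ.pow_right n
  have h5 := commutator_eq_bot_of_commutator_commutator hQU hcop (by
    rw [Subgroup.commutator_comm U Q]
    exact Subgroup.commutator_eq_bot_iff_le_centralizer.mpr h4)
  rw [Subgroup.commutator_comm] at h5
  exact Subgroup.commutator_eq_bot_iff_le_centralizer.mp h5

/-! ### Action trivial on the Frattini quotient -/

/-- An automorphism of order prime to `|Φ(K)|` inducing the identity on `K/Φ(K)` is trivial. -/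
theorem mulAut_eq_one_of_frattini {K : Type*} [Group K] [Finite K] (φ : MulAut K)
    (hcop : (orderOf φ).Coprime (Nat.card (frattini K)))
    (h : ∀ k, k⁻¹ * φ k ∈ frattini K) : φ = 1 := by
  classical
  haveI := Fintype.ofFinite K
  let F := K → frattini K
  let act : Subgroup.zpowers φ → F → F := fun ψ f k =>
    ⟨k⁻¹ * (ψ : MulAut K) (k * f k), by
      have hpow : ∀ m : ℤ, ∀ k, k⁻¹ * (φ ^ m : MulAut K) k ∈ frattini K := by
        intro m
        induction m using Int.induction_on with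
        | zero => simp
        | succ i ih =>
          intro k
          rw [zpow_add_one, MulAut.mul_apply]
          simpa [mul_assoc] using mul_mem (h k) (ih (φ k))
        | pred i ih =>
          intro k
          rw [zpow_sub_one, MulAut.mul_apply]
          have h1 := inv_mem (h (φ⁻¹ k))
          rw [MulAut.apply_inv_self, mul_inv_rev, inv_inv] at h1
          simpa [mul_assoc] using mul_mem h1 (ih (φ⁻¹ k))
      have hψ : ∀ k, k⁻¹ * (ψ : MulAut K) k ∈ frattini K := by
        obtain ⟨m, hm⟩ := Subgroup.mem_zpowers_iff.mp ψ.2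
        rw [← hm]
        exact hpow m
      rw [map_mul, ← mul_assoc]
      exact mul_mem (hψ k)
        (Subgroup.characteristic_iff_map_le.mp inferInstance (ψ : MulAut K)
          (Subgroup.mem_map_of_mem _ (f k).2))⟩
  letI : MulAction (Subgroup.zpowers φ) F :=
    { smul := act
      one_smul := fun f => funext fun k => Subtype.ext (by
        show k⁻¹ * (k * (f k : K)) = f k
        rw [inv_mul_cancel_left])
      mul_smul := fun ψ χ f => funext fun k => Subtype.ext (by
        show k⁻¹ * ((ψ : MulAut K) * χ) (k * f k)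
          = k⁻¹ * (ψ : MulAut K) (k * (k⁻¹ * (χ : MulAut K) (k * f k)))
        rw [mul_inv_cancel_left, MulAut.mul_apply]) }
  have hfree : ∀ f : F, MulAction.stabilizer (Subgroup.zpowers φ) f = ⊥ := by
    intro f
    rw [eq_bot_iff]
    intro ψ hψ
    rw [Subgroup.mem_bot]
    have hfix : ∀ k, (ψ : MulAut K) (k * f k) = k * f k := fun k => by
      have := congrArg (fun g : F => (k : K) * (g k : K)) (MulAction.mem_stabilizer_iff.mp hψ)
      simpa [show ∀ g, (ψ • g : F) k = act ψ g k from fun _ => rfl, act] using this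
    have htop : Subgroup.closure (Set.range fun k => k * (f k : K)) = ⊤ := by
      refine frattini_nongenerating (eq_top_iff.mpr fun k _ => ?_)
      have := mul_mem (Subgroup.mem_sup_left (T := frattini K)
        (Subgroup.subset_closure (Set.mem_range_self k) :
          k * (f k : K) ∈ Subgroup.closure (Set.range fun k => k * (f k : K))))
        (inv_mem (Subgroup.mem_sup_right (S := Subgroup.closure (Set.range fun k => k * (f k : K)))
          (f k).2))
      simpa using this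
    apply Subtype.ext
    apply MulEquiv.toMonoidHom_injective
    exact MonoidHom.eq_of_eqOn_dense htop (by rintro _ ⟨k, rfl⟩; exact hfix k)
  have hdvd : Nat.card (Subgroup.zpowers φ) ∣ Nat.card F := by
    rw [Nat.card_congr (MulAction.selfEquivOrbitsQuotientProd hfree), Nat.card_prod]
    exact dvd_mul_left _ _
  rw [Nat.card_zpowers, Nat.card_fun] at hdvd
  exact orderOf_eq_one_iff.mp (Nat.eq_one_of_dvd_coprimes (hcop.pow_right _) dvd_rfl hdvd)

/-- Coprime action trivial on `K/Φ(K)` is trivial. -/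
theorem le_centralizer_of_frattini [Finite G] {A K : Subgroup G}
    (hAK : A ≤ Subgroup.normalizer (K : Set G))
    (hcop : (Nat.card A).Coprime (Nat.card (frattini K)))
    (htriv : ∀ a ∈ A, ∀ k ∈ K, a * k * a⁻¹ * k⁻¹ ∈ (frattini K).map K.subtype) :
    A ≤ Subgroup.centralizer (K : Set G) := by
  intro a ha k hk
  let φ : MulAut K := K.normalizerMonoidHom ⟨a, hAK ha⟩
  have hdiv : orderOf φ ∣ Nat.card A := by
    refine (orderOf_map_dvd _ _).trans ?_
    rw [← Subgroup.orderOf_coe]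
    exact Subgroup.orderOf_dvd_natCard A ha
  have hφ := mulAut_eq_one_of_frattini φ (hcop.coprime_dvd_left hdiv) fun x => by
    obtain ⟨y, hy, he⟩ := htriv a ha x x.2
    have h1 : φ x * x⁻¹ ∈ frattini K := by
      have e : φ x * x⁻¹ = y := Subtype.ext he.symm
      rw [e]
      exact hy
    exact (Subgroup.Normal.mem_comm (inferInstance : (frattini K).Normal) h1)
  have h3 : φ ⟨k, hk⟩ = ⟨k, hk⟩ := by rw [hφ]; rfl
  have h2 : a * k * a⁻¹ = k := congrArg Subtype.val h3
  exact (mul_inv_eq_iff_eq_mul.mp h2).symm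

end CfsgLib.Coprime
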