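import Mathlib
import Cfsg.Agent.Lib.Coprime.Action

/-!
Coprime action: the abelian decomposition `V = C_V(A) × [V, A]`, invariant complements, and
generation by the centralizers of the elements (or hyperplanes) of a noncyclic abelian group.
-/

set_option autoImplicit false
set_option linter.style.haveILetI false

open Pointwise
open scoped commutatorElement

namespace CfsgLib.Coprime

variable {G : Type*} [Group G]

/-! ### Abelian groups acted on -/

/-- The action of `A` on `V` by conjugation. -/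
def conjAct {A V : Subgroup G} (h : A ≤ Subgroup.normalizer (V : Set G)) : A →* MulAut V :=
  V.normalizerMonoidHom.comp (Subgroup.inclusion h)

theorem coe_conjAct {A V : Subgroup G} (h : A ≤ Subgroup.normalizer (V : Set G)) (a : A) (v : V) :
    ((conjAct h a v : V) : G) = a * v * (a : G)⁻¹ := rfl

theorem isSolvable_of_isMulCommutative (V : Subgroup G) [IsMulCommutative V] :
    Group.IsSolvable V :=
  Group.isSolvable_of_comm fun a b => mul_comm' a b

/-- `C_V(A) ∩ [V, A] = 1` for coprime action on an abelian `V`. -/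
theorem centralizer_inf_commutator_eq_bot [Finite G] {A V : Subgroup G} [IsMulCommutative V]
    (hAV : A ≤ Subgroup.normalizer (V : Set G)) (hcop : (Nat.card A).Coprime (Nat.card V)) :
    (V ⊓ Subgroup.centralizer (A : Set G)) ⊓ ⁅V, A⁆ = ⊥ := by
  classical
  haveI := Fintype.ofFinite A
  let φ := conjAct hAV
  letI : CommGroup V := { (inferInstance : Group V) with mul_comm := mul_comm' }
  let τ : V →* V := ∏ a : A, (φ a).toMonoidHom
  have hτ0 : ∀ v, τ v = ∏ a : A, φ a v := fun v =>
    MonoidHom.finsetProd_apply _ Finset.univ v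
  have hτ : ∀ (b : A) (v : V), τ (φ b v) = τ v := by
    intro b v
    rw [hτ0, hτ0]
    exact Fintype.prod_equiv (Equiv.mulRight b) _ _ fun a => by
      simp [map_mul, MulAut.mul_apply]
  have hker : ⁅V, A⁆ ≤ τ.ker.map V.subtype := by
    refine Subgroup.commutator_le.mpr fun v hv a ha => ?_
    refine ⟨⟨v, hv⟩ * φ ⟨a, ha⟩ ⟨v⁻¹, inv_mem hv⟩, ?_, ?_⟩
    · rw [SetLike.mem_coe, MonoidHom.mem_ker, map_mul, hτ, ← map_mul]
      have : (⟨v, hv⟩ : V) * ⟨v⁻¹, inv_mem hv⟩ = 1 := Subtype.ext (mul_inv_cancel v)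
      rw [this, map_one]
    · show v * (a * v⁻¹ * a⁻¹) = ⁅v, a⁆
      rw [commutatorElement_def]; group
  rw [eq_bot_iff]
  intro x hx
  obtain ⟨hx1, hx2⟩ := Subgroup.mem_inf.mp hx
  obtain ⟨hxV, hxC⟩ := Subgroup.mem_inf.mp hx1
  obtain ⟨w, hw, he⟩ := hker hx2
  have hwC : ∀ a : A, φ a w = w := fun a => Subtype.ext (by
    rw [coe_conjAct]
    have := hxC a a.2
    rw [← he] at this
    exact mul_inv_eq_iff_eq_mul.mpr this)
  have h1 : w ^ Nat.card A = 1 := by
    rw [← MonoidHom.mem_ker.mp hw, hτ0, Finset.prod_congr rfl fun a _ => hwC a, Finset.prod_const,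
      Finset.card_univ, Nat.card_eq_fintype_card]
  have h2 : orderOf w = 1 := Nat.eq_one_of_dvd_coprimes hcop (orderOf_dvd_of_pow_eq_one h1)
    (orderOf_dvd_natCard w)
  rw [Subgroup.mem_bot, ← he, orderOf_eq_one_iff.mp h2]
  rfl

theorem centralizer_sup_commutator_eq [Finite G] {A V : Subgroup G} [IsMulCommutative V]
    (hAV : A ≤ Subgroup.normalizer (V : Set G)) (hcop : (Nat.card A).Coprime (Nat.card V)) :
    (V ⊓ Subgroup.centralizer (A : Set G)) ⊔ ⁅V, A⁆ = V := by
  rw [sup_comm]
  exact commutator_sup_centralizer hAV hcop (Or.inr (isSolvable_of_isMulCommutative V))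

/-- Maschke: an invariant direct factor of an abelian group has an invariant complement. -/
theorem exists_invariant_complement [Finite G] {A V U W : Subgroup G} [IsMulCommutative V]
    (hAV : A ≤ Subgroup.normalizer (V : Set G)) (hcop : (Nat.card A).Coprime (Nat.card V))
    (hUV : U ≤ V) (hAU : A ≤ Subgroup.normalizer (U : Set G)) (hWV : W ≤ V) (hUW : U ⊓ W = ⊥)
    (hsup : U ⊔ W = V) :
    ∃ W' : Subgroup G, W' ≤ V ∧ A ≤ Subgroup.normalizer (W' : Set G) ∧ U ⊓ W' = ⊥ ∧ U ⊔ W' = V := by
  classical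
  haveI := Fintype.ofFinite A
  letI : CommGroup V := { (inferInstance : Group V) with mul_comm := mul_comm' }
  let φ := conjAct hAV
  set U' := U.subgroupOf V with hU'
  set W₀ := W.subgroupOf V with hW₀
  have hbot : U' ⊓ W₀ = ⊥ := by
    rw [hU', hW₀, Subgroup.subgroupOf, Subgroup.subgroupOf, ← Subgroup.comap_inf, hUW]
    exact Subgroup.bot_subgroupOf V
  have htop : U' ⊔ W₀ = ⊤ := by
    rw [hU', hW₀, ← Subgroup.subgroupOf_sup hUV hWV, hsup, Subgroup.subgroupOf_self]
  let f : U' × W₀ →* V := U'.subtype.coprod W₀.subtype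
  have hf : Function.Bijective f := by
    constructor
    · rw [injective_iff_map_eq_one]
      rintro ⟨u, w⟩ h
      have h' : (u : V) * w = 1 := h
      have hu : (u : V) ∈ U' ⊓ W₀ :=
        Subgroup.mem_inf.mpr ⟨u.2, by rw [eq_inv_of_mul_eq_one_left h']; exact inv_mem w.2⟩
      rw [hbot, Subgroup.mem_bot] at hu
      rw [hu, one_mul] at h'
      exact Prod.ext (Subtype.ext hu) (Subtype.ext h')
    · intro v
      have hv : v ∈ U' ⊔ W₀ := by rw [htop]; trivial
      obtain ⟨u, hu, w, hw, rfl⟩ := Subgroup.mem_sup.mp hv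
      exact ⟨(⟨u, hu⟩, ⟨w, hw⟩), rfl⟩
  let e := MulEquiv.ofBijective f hf
  let π : V →* V := U'.subtype.comp ((MonoidHom.fst U' W₀).comp e.symm.toMonoidHom)
  have hπU : ∀ v, π v ∈ U' := fun v => (e.symm v).1.2
  have hπid : ∀ v ∈ U', π v = v := by
    intro v hv
    have h1 : e.symm v = (⟨v, hv⟩, 1) := by
      rw [MulEquiv.symm_apply_eq]
      show v = v * 1
      rw [mul_one]
    show ((e.symm v).1 : V) = v
    rw [h1]
  have hφU : ∀ (a : A) (v : V), v ∈ U' → φ a v ∈ U' := fun a v hv =>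
    (Subgroup.mem_normalizer_iff.mp (hAU a.2) _).mp hv
  let ρ : V →* V := ∏ a : A, (φ a).toMonoidHom.comp (π.comp (φ a⁻¹).toMonoidHom)
  have hρ : ∀ v, ρ v = ∏ a : A, φ a (π (φ a⁻¹ v)) := fun v =>
    MonoidHom.finsetProd_apply _ Finset.univ v
  have hρU : ∀ v, ρ v ∈ U' := fun v => by
    rw [hρ]; exact Subgroup.prod_mem U' fun a _ => hφU a _ (hπU _)
  have hρid : ∀ v ∈ U', ρ v = v ^ Nat.card A := by
    intro v hv
    rw [hρ, Nat.card_eq_fintype_card, ← Finset.card_univ, ← Finset.prod_const]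
    refine Finset.prod_congr rfl fun a _ => ?_
    rw [hπid _ (hφU _ v hv), ← MulAut.mul_apply, ← map_mul, mul_inv_cancel, map_one,
      MulAut.one_apply]
  have hρeq : ∀ (b : A) (v : V), ρ (φ b v) = φ b (ρ v) := by
    intro b v
    rw [hρ, hρ, map_prod]
    refine Fintype.prod_equiv (Equiv.mulLeft b⁻¹) _ _ fun a => ?_
    simp only [Equiv.coe_mulLeft, ← MulAut.mul_apply, ← map_mul, mul_inv_cancel_left, mul_inv_rev,
      inv_inv]
  refine ⟨ρ.ker.map V.subtype, Subgroup.map_subtype_le _, ?_, ?_, ?_⟩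
  · intro a ha
    rw [mem_normalizer_iff_conj_smul]
    refine Subgroup.eq_of_le_of_card_ge ?_ (card_conj_smul a _).ge
    rintro y hy
    obtain ⟨v, hv, he⟩ := mem_conj_smul_iff.mp hy
    refine ⟨φ ⟨a, ha⟩ v, ?_, ?_⟩
    · rw [SetLike.mem_coe, MonoidHom.mem_ker, hρeq, MonoidHom.mem_ker.mp hv, map_one]
    · show a * (v : G) * a⁻¹ = y
      rw [show (v : G) = a⁻¹ * y * a from he]; group
  · rw [eq_bot_iff]
    intro x hx
    obtain ⟨hxU, v, hv, rfl⟩ := Subgroup.mem_inf.mp hx
    have hvU : v ∈ U' := hxU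
    have h1 := (hρid v hvU).symm.trans (MonoidHom.mem_ker.mp hv)
    have h2 : orderOf v = 1 := Nat.eq_one_of_dvd_coprimes hcop (orderOf_dvd_of_pow_eq_one h1)
      (orderOf_dvd_natCard v)
    rw [Subgroup.mem_bot, orderOf_eq_one_iff.mp h2]
    rfl
  · refine le_antisymm (sup_le hUV (Subgroup.map_subtype_le _)) fun x hx => ?_
    set v : V := ⟨x, hx⟩
    obtain ⟨u, hu⟩ := (powCoprime (hcop.symm.coprime_dvd_left (Subgroup.card_subgroup_dvd_card U'))).surjective
      ⟨ρ v, hρU v⟩
    have hu' : (u : V) ^ Nat.card A = ρ v := congrArg Subtype.val hu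
    have h1 : (u : V)⁻¹ * v ∈ ρ.ker := by
      rw [MonoidHom.mem_ker, map_mul, map_inv, hρid _ u.2, hu', inv_mul_cancel]
    have h2 := mul_mem (Subgroup.mem_sup_left (T := ρ.ker.map V.subtype) (u.2 : ((u : V) : G) ∈ U))
      (Subgroup.mem_sup_right (S := U) (Subgroup.mem_map_of_mem V.subtype h1))
    simpa [v] using h2

/-- A coprime `A` centralizing every element of prime order of an abelian `V` centralizes `V`. -/
theorem le_centralizer_of_prime_order [Finite G] {A V : Subgroup G} [IsMulCommutative V]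
    (hAV : A ≤ Subgroup.normalizer (V : Set G)) (hcop : (Nat.card A).Coprime (Nat.card V))
    (hΩ : ∀ v ∈ V, (orderOf v).Prime → ∀ a ∈ A, a * v = v * a) :
    A ≤ Subgroup.centralizer (V : Set G) := by
  rw [← Subgroup.commutator_eq_bot_iff_le_centralizer, Subgroup.commutator_comm]
  by_contra hne
  haveI : Nontrivial ↥⁅V, A⁆ := (Subgroup.nontrivial_iff_ne_bot _).mpr hne
  obtain ⟨p, hp, hpd⟩ := Nat.exists_prime_and_dvd (Finite.one_lt_card (α := ↥⁅V, A⁆)).ne'
  haveI := Fact.mk hp
  obtain ⟨v, hv⟩ := exists_prime_orderOf_dvd_card' p hpd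
  rw [← Subgroup.orderOf_coe] at hv
  have hvV : (v : G) ∈ V := commutator_le_left_of_le_normalizer hAV v.2
  have h : (v : G) ∈ (V ⊓ Subgroup.centralizer (A : Set G)) ⊓ ⁅V, A⁆ :=
    Subgroup.mem_inf.mpr ⟨Subgroup.mem_inf.mpr ⟨hvV, fun a ha => hΩ v hvV (hv ▸ hp) a ha⟩, v.2⟩
  rw [centralizer_inf_commutator_eq_bot hAV hcop, Subgroup.mem_bot] at h
  rw [h, orderOf_one] at hv
  exact hp.ne_one hv.symm

/-! ### Generation by centralizers -/

theorem exists_prime_card_pow_eq_one_gt (A : Type*) [CommGroup A] [Finite A] (hA : ¬ IsCyclic A) :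
    ∃ p, p.Prime ∧ p < Nat.card (powMonoidHom p : A →* A).ker := by
  classical
  haveI := Fintype.ofFinite A
  by_contra hne
  push Not at hne
  apply hA
  have key : ∀ n, 0 < n → Nat.card (powMonoidHom n : A →* A).ker ≤ n := by
    intro n
    induction n using Nat.strong_induction_on with
    | _ n IH =>
    intro hn
    rcases Nat.eq_or_lt_of_le (Nat.one_le_iff_ne_zero.mpr hn.ne') with h1 | h1
    · subst h1
      refine le_of_eq (Nat.card_eq_one_iff_unique.mpr ⟨⟨fun a b => Subtype.ext ?_⟩, ⟨1⟩⟩)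
      have ha := MonoidHom.mem_ker.mp a.2
      have hb := MonoidHom.mem_ker.mp b.2
      rw [powMonoidHom_apply, pow_one] at ha hb
      rw [ha, hb]
    · obtain ⟨p, hp, m, rfl⟩ := Nat.exists_prime_and_dvd (ne_of_gt h1)
      have hm : 0 < m := Nat.pos_of_mul_pos_left hn
      set K := (powMonoidHom (p * m) : A →* A).ker
      let g : K →* (powMonoidHom m : A →* A).ker :=
        { toFun := fun x => ⟨(x : A) ^ p, by
            have h := MonoidHom.mem_ker.mp x.2
            rw [powMonoidHom_apply, pow_mul] at h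
            exact h⟩
          map_one' := Subtype.ext (one_pow p)
          map_mul' := fun x y => Subtype.ext (mul_pow (x : A) y p) }
      have h2 : Nat.card g.ker ≤ Nat.card (powMonoidHom p : A →* A).ker :=
        Nat.card_le_card_of_injective
          (fun x => ⟨((x : K) : A), congrArg Subtype.val (MonoidHom.mem_ker.mp x.2)⟩)
          (fun x y h => Subtype.ext (Subtype.ext (congrArg Subtype.val h :)))
      have h3 : Nat.card g.range ≤ Nat.card (powMonoidHom m : A →* A).ker :=
        Subgroup.card_le_card_group _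
      have h4 := g.ker.card_mul_index
      rw [Subgroup.index_ker] at h4
      rw [← h4]
      exact Nat.mul_le_mul (h2.trans (hne p hp))
        (h3.trans (IH m (lt_mul_of_one_lt_left hm hp.one_lt) hm))
  refine isCyclic_of_card_pow_eq_one_le fun n hn => le_trans (le_of_eq ?_) (key n hn)
  rw [← Fintype.card_subtype, Nat.card_eq_fintype_card]
  exact Fintype.card_congr (Equiv.subtypeEquivRight fun a => by
    rw [MonoidHom.mem_ker, powMonoidHom_apply])

/-- A noncyclic abelian subgroup contains two independent elements of the same prime order. -/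
theorem exists_pair_of_not_isCyclic [Finite G] (A : Subgroup G) [IsMulCommutative A]
    (hA : ¬ IsCyclic A) : ∃ p, p.Prime ∧ ∃ x ∈ A, ∃ y ∈ A,
      x ^ p = 1 ∧ y ^ p = 1 ∧ y ≠ 1 ∧ x ∉ Subgroup.zpowers y := by
  letI : CommGroup A := { (inferInstance : Group A) with mul_comm := mul_comm' }
  obtain ⟨p, hp, hcard⟩ := exists_prime_card_pow_eq_one_gt A hA
  haveI := Fact.mk hp
  set K := (powMonoidHom p : A →* A).ker
  haveI : Nontrivial K := Finite.one_lt_card_iff_nontrivial.mp (hp.one_lt.trans hcard)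
  obtain ⟨y, hy⟩ := exists_ne (1 : K)
  have hyp : ((y : A) : G) ^ p = 1 := congrArg Subtype.val (MonoidHom.mem_ker.mp y.2)
  have hy1 : ((y : A) : G) ≠ 1 := fun h => hy (Subtype.ext (Subtype.ext h))
  obtain ⟨x, hx⟩ : ∃ x : K, ((x : A) : G) ∉ Subgroup.zpowers ((y : A) : G) := by
    by_contra hne
    push Not at hne
    have h := Nat.card_le_card_of_injective
      (fun x : K => (⟨((x : A) : G), hne x⟩ : Subgroup.zpowers ((y : A) : G)))
      (fun a b h => Subtype.ext (Subtype.ext (congrArg Subtype.val h :)))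
    rw [Nat.card_zpowers, orderOf_eq_prime hyp hy1] at h
    exact absurd hcard (not_lt.mpr h)
  exact ⟨p, hp, (x : A), (x : A).2, (y : A), (y : A).2,
    congrArg Subtype.val (MonoidHom.mem_ker.mp x.2), hyp, hy1, hx⟩

/-- The key step: the centralizers generate `K` modulo `[K, K]`. -/
theorem sup_commutator_eq_top [Finite G] {A K Y : Subgroup G} [IsMulCommutative A]
    (hAK : A ≤ Subgroup.normalizer (K : Set G)) (hcop : (Nat.card A).Coprime (Nat.card K))
    {p : ℕ} [hp : Fact p.Prime] {x y : G} (hx : x ∈ A) (hy : y ∈ A) (hxp : x ^ p = 1)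
    (hyp : y ^ p = 1) (hy1 : y ≠ 1) (hxy : x ∉ Subgroup.zpowers y)
    (hY : ∀ g ∈ A, g ≠ 1 → K ⊓ Subgroup.centralizer ({g} : Set G) ≤ Y) :
    Y.subgroupOf K ⊔ commutator K = ⊤ := by
  classical
  let φ := conjAct hAK
  set Ybar := (Y.subgroupOf K).map (Abelianization.of (G := K)) with hYbar
  let ψ : ZMod p × ZMod p → A := fun a => (⟨x, hx⟩ : A) ^ a.1.val * (⟨y, hy⟩ : A) ^ a.2.val
  have hx' : (⟨x, hx⟩ : A) ^ p = 1 := Subtype.ext hxp
  have hy' : (⟨y, hy⟩ : A) ^ p = 1 := Subtype.ext hyp
  have hψ : ∀ a b, ψ (a + b) = ψ a * ψ b := by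
    intro a b
    simp only [ψ, Prod.fst_add, Prod.snd_add, ZMod.val_add]
    rw [← pow_eq_pow_mod _ hx', ← pow_eq_pow_mod _ hy', pow_add, pow_add]
    exact Commute.mul_mul_mul_comm (mul_comm' _ _) _ _
  have hψ0 : ψ 0 = 1 := by simp [ψ]
  let act : A → Abelianization K →* Abelianization K := fun a => Abelianization.map (φ a).toMonoidHom
  have hact : ∀ a b v, act (a * b) v = act a (act b v) := by
    intro a b v
    obtain ⟨k, rfl⟩ := QuotientGroup.mk_surjective v
    show Abelianization.of (φ (a * b) k) = act a (Abelianization.of (φ b k))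
    rw [map_mul, MulAut.mul_apply]
    rfl
  have hact1 : ∀ v, act 1 v = v := by
    intro v
    obtain ⟨k, rfl⟩ := QuotientGroup.mk_surjective v
    show Abelianization.of (φ 1 k) = Abelianization.of k
    rw [map_one, MulAut.one_apply]
  have hfix : ∀ g : A, g ≠ 1 → ∀ w, act g w = w → w ∈ Ybar := by
    intro g hg w hw
    obtain ⟨k, rfl⟩ := QuotientGroup.mk_surjective w
    have hcomm : k⁻¹ * φ g k ∈ commutator K := by
      rw [← Abelianization.ker_of, MonoidHom.mem_ker, map_mul, map_inv, inv_mul_eq_one]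
      exact hw.symm
    set N := (commutator K).map K.subtype with hN
    have hNK : N ≤ K := Subgroup.map_subtype_le _
    set Z := Subgroup.zpowers (g : G)
    have hZ : Z ≤ A := Subgroup.zpowers_le.mpr g.2
    have hZN : Z ≤ Subgroup.normalizer (N : Set G) := by
      rw [hN, Subgroup.map_subtype_commutator]
      exact le_normalizer_commutator (hZ.trans hAK) (hZ.trans hAK)
    have hgn : ∀ n : ℤ, (k : G)⁻¹ * ((g : G) ^ n * k * ((g : G) ^ n)⁻¹) ∈ N := by
      intro n
      induction n using Int.induction_on with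
      | zero => simp
      | succ i ih =>
        have h1 := (Subgroup.mem_normalizer_iff.mp (hZN (Subgroup.mem_zpowers _)) _).mp ih
        have h2 : (k : G)⁻¹ * (g * k * (g : G)⁻¹) ∈ N := ⟨_, hcomm, rfl⟩
        rw [add_comm, zpow_one_add]
        convert mul_mem h2 h1 using 1
        group
      | pred i ih =>
        have hg' := hZN (inv_mem (Subgroup.mem_zpowers (g : G)))
        have h1 := (Subgroup.mem_normalizer_iff.mp hg' _).mp ih
        have h2 : (k : G)⁻¹ * (g * k * (g : G)⁻¹) ∈ N := ⟨_, hcomm, rfl⟩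
        have h3 := (Subgroup.mem_normalizer_iff.mp hg' _).mp (inv_mem h2)
        rw [sub_eq_add_neg, add_comm, zpow_add, zpow_neg_one]
        convert mul_mem h3 h1 using 1
        group
    obtain ⟨c, hc, hck⟩ := exists_centralizer_mem_coset (A := Z) (hZ.trans hAK)
      (hcop.coprime_dvd_left (Subgroup.card_dvd_of_le hZ))
      (Or.inl (Group.isSolvable_of_comm fun a b => mul_comm' a b)) hNK hZN k.2
      (fun a ha => by
        obtain ⟨n, rfl⟩ := Subgroup.mem_zpowers_iff.mp ha
        exact hgn n)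
    obtain ⟨hcK, hcC⟩ := Subgroup.mem_inf.mp hc
    have hcY : c ∈ Y := hY g g.2 (fun h => hg (Subtype.ext h))
      (Subgroup.mem_inf.mpr ⟨hcK, fun z hz => by
        rw [Set.mem_singleton_iff] at hz; subst hz; exact hcC _ (Subgroup.mem_zpowers _)⟩)
    obtain ⟨d, hd, hde⟩ := hck
    refine ⟨⟨c, hcK⟩, hcY, ?_⟩
    have : (⟨c, hcK⟩ : K) = k * d := Subtype.ext (by
      show c = (k : G) * (d : G)
      rw [show (d : G) = (k : G)⁻¹ * c from hde, mul_inv_cancel_left])
    rw [this, map_mul]
    rw [show Abelianization.of d = 1 from MonoidHom.mem_ker.mp (by rw [Abelianization.ker_of]; exact hd),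
      mul_one]
    rfl
  have hx1 : ∀ i : ZMod p, ψ (1, i) ≠ 1 := by
    intro i h
    have h' : x ^ (1 : ZMod p).val * y ^ i.val = 1 := congrArg Subtype.val h
    rw [ZMod.val_one, pow_one, mul_eq_one_iff_eq_inv] at h'
    exact hxy (h' ▸ inv_mem (pow_mem (Subgroup.mem_zpowers y) _))
  have hy0 : ψ (0, 1) ≠ 1 := by
    intro h
    have h' : x ^ (0 : ZMod p).val * y ^ (1 : ZMod p).val = 1 := congrArg Subtype.val h
    rw [ZMod.val_one, ZMod.val_zero, pow_zero, pow_one, one_mul] at h'
    exact hy1 h'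
  have hpow : ∀ v, v ^ p ∈ Ybar := by
    intro v
    let f : ZMod p × ZMod p → Abelianization K := fun a => act (ψ a) v
    have hshift : ∀ a b, act (ψ a) (f b) = f (a + b) := fun a b => by
      show act (ψ a) (act (ψ b) v) = act (ψ (a + b)) v
      rw [hψ a b, hact (ψ a) (ψ b) v]
    have hline : ∀ i : ZMod p, ∏ j, f (j, i * j) ∈ Ybar := fun i => hfix _ (hx1 i) _ (by
      rw [map_prod]
      refine Fintype.prod_equiv (Equiv.addLeft 1) _ _ fun j => ?_
      rw [hshift, Prod.mk_add_mk, Equiv.coe_addLeft, mul_add, mul_one])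
    let T : ZMod p → Abelianization K := fun j => ∏ k, f (j, k)
    have hT0 : T 0 ∈ Ybar := hfix _ hy0 _ (by
      rw [map_prod]
      refine Fintype.prod_equiv (Equiv.addLeft 1) _ _ fun j => ?_
      rw [hshift, Prod.mk_add_mk, Equiv.coe_addLeft, add_zero])
    have hT : ∏ j, T j ∈ Ybar := hfix _ hy0 _ (by
      rw [map_prod]
      refine Finset.prod_congr rfl fun j _ => ?_
      rw [map_prod]
      refine Fintype.prod_equiv (Equiv.addLeft 1) _ _ fun k => ?_
      rw [hshift, Prod.mk_add_mk, Equiv.coe_addLeft, zero_add])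
    have hrest : ∏ j ∈ Finset.univ.erase 0, T j ∈ Ybar := by
      rw [← Finset.mul_prod_erase Finset.univ T (Finset.mem_univ 0)] at hT
      exact (Subgroup.mul_mem_cancel_left Ybar hT0).mp hT
    have hP : ∏ i, ∏ j, f (j, i * j) ∈ Ybar := Subgroup.prod_mem Ybar fun i _ => hline i
    rw [Finset.prod_comm, ← Finset.mul_prod_erase Finset.univ _ (Finset.mem_univ 0)] at hP
    have h0 : ∏ i : ZMod p, f (0, i * 0) = v ^ p := by
      have : ∀ i : ZMod p, f (0, i * 0) = v := fun i => by
        rw [mul_zero]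
        show act (ψ 0) v = v
        rw [hψ0, hact1]
      rw [Finset.prod_congr rfl fun i _ => this i, Finset.prod_const, Finset.card_univ, ZMod.card]
    have h1 : ∏ j ∈ Finset.univ.erase 0, ∏ i : ZMod p, f (j, i * j)
        = ∏ j ∈ Finset.univ.erase 0, T j := by
      refine Finset.prod_congr rfl fun j hj => ?_
      exact Fintype.prod_equiv (Equiv.mulRight₀ j (Finset.ne_of_mem_erase hj)) _ _ fun i => rfl
    rw [h0, h1] at hP
    exact (Subgroup.mul_mem_cancel_right Ybar hrest).mp hP
  have hcp : (Nat.card (Abelianization K)).Coprime p := by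
    refine (hcop.symm.coprime_dvd_left (Subgroup.card_quotient_dvd_card _)).coprime_dvd_right ?_
    exact orderOf_eq_prime hyp hy1 ▸ Subgroup.orderOf_dvd_natCard A hy
  have htop : Ybar = ⊤ := top_le_iff.mp fun v _ => by
    obtain ⟨u, rfl⟩ := (powCoprime hcp).surjective v
    exact hpow u
  have := congrArg (Subgroup.comap (Abelianization.of (G := K))) htop
  rwa [hYbar, Subgroup.comap_map_eq, Subgroup.comap_top, Abelianization.ker_of] at this

/-- A solvable coprimely acted group is generated by centralizers. -/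
theorem le_of_centralizer_le_of_isSolvable [Finite G] {A : Subgroup G} [IsMulCommutative A]
    (hA : ¬ IsCyclic A) (Y : Subgroup G) :
    ∀ (K : Subgroup G), Group.IsSolvable K → A ≤ Subgroup.normalizer (K : Set G) →
      (Nat.card A).Coprime (Nat.card K) →
      (∀ g ∈ A, g ≠ 1 → K ⊓ Subgroup.centralizer ({g} : Set G) ≤ Y) → K ≤ Y := by
  intro K
  induction K using WellFoundedLT.induction with
  | ind K IH =>
  intro hs hAK hcop hY
  rcases eq_or_ne K ⊥ with rfl | hK
  · exact bot_le
  obtain ⟨p, hp, x, hx, y, hy, hxp, hyp, hy1, hxy⟩ := exists_pair_of_not_isCyclic A hA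
  haveI := Fact.mk hp
  have h1 := sup_commutator_eq_top hAK hcop hx hy hxp hyp hy1 hxy hY
  haveI := hs
  haveI : Nontrivial K := (Subgroup.nontrivial_iff_ne_bot K).mpr hK
  have hlt : ⁅K, K⁆ < K := by
    have h := Subgroup.map_lt_map_iff_of_injective K.subtype_injective |>.mpr
      (Group.IsSolvable.commutator_lt_top_of_nontrivial K)
    rwa [Subgroup.map_subtype_commutator, ← MonoidHom.range_eq_map, Subgroup.range_subtype] at h
  have h2 := IH _ hlt (isSolvable_of_le hlt.le hs) (le_normalizer_commutator hAK hAK)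
    (hcop.coprime_dvd_right (Subgroup.card_dvd_of_le hlt.le))
    (fun g hg hg1 => (inf_le_inf_right _ hlt.le).trans (hY g hg hg1))
  have h3 : commutator K ≤ Y.subgroupOf K := by
    intro z hz
    exact h2 (Subgroup.map_subtype_commutator K ▸ Subgroup.mem_map_of_mem K.subtype hz)
  rw [sup_eq_left.mpr h3, Subgroup.subgroupOf_eq_top] at h1
  exact h1

/-- **Generation by centralizers**: a noncyclic abelian `A` acting coprimely on `K` has `K`
generated by the `C_K(a)`, `a ≠ 1`. -/
theorem le_of_centralizer_le [Finite G] {A K Y : Subgroup G} [IsMulCommutative A]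
    (hA : ¬ IsCyclic A) (hAK : A ≤ Subgroup.normalizer (K : Set G))
    (hcop : (Nat.card A).Coprime (Nat.card K))
    (hY : ∀ g ∈ A, g ≠ 1 → K ⊓ Subgroup.centralizer ({g} : Set G) ≤ Y) : K ≤ Y := by
  suffices Nat.card K ∣ Nat.card ↥(K ⊓ Y) by
    have h := Subgroup.eq_of_le_of_card_ge (inf_le_left : K ⊓ Y ≤ K) (Nat.le_of_dvd Nat.card_pos this)
    exact inf_eq_left.mp h
  rw [← Nat.factorization_le_iff_dvd Nat.card_pos.ne' Nat.card_pos.ne']
  intro q
  by_cases hq : q.Prime
  swap
  · simp [Nat.factorization_eq_zero_of_not_prime _ hq]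
  haveI := Fact.mk hq
  obtain ⟨Q, hQ⟩ := exists_invariant_sylow hAK hcop (Or.inl (isSolvable_of_isMulCommutative A)) q
  set Q' := (Q : Subgroup K).map K.subtype
  have hQK : Q' ≤ K := Subgroup.map_subtype_le _
  haveI := (Q.2.map K.subtype).isNilpotent
  have h1 : Q' ≤ Y := le_of_centralizer_le_of_isSolvable hA Y Q' inferInstance hQ
    (hcop.coprime_dvd_right (Subgroup.card_dvd_of_le hQK))
    (fun g hg hg1 => (inf_le_inf_right _ hQK).trans (hY g hg hg1))
  have h2 : q ^ (Nat.card K).factorization q ∣ Nat.card ↥(K ⊓ Y) := by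
    rw [← Q.card_eq_multiplicity, ← Subgroup.card_map_of_injective K.subtype_injective]
    exact Subgroup.card_dvd_of_le (le_inf hQK h1)
  exact (hq.pow_dvd_iff_le_factorization Nat.card_pos.ne').mp h2

theorem iSup_centralizer_eq [Finite G] {A K : Subgroup G} [IsMulCommutative A]
    (hA : ¬ IsCyclic A) (hAK : A ≤ Subgroup.normalizer (K : Set G))
    (hcop : (Nat.card A).Coprime (Nat.card K)) :
    (⨆ a ∈ {a : G | a ∈ A ∧ a ≠ 1}, K ⊓ Subgroup.centralizer ({a} : Set G)) = K :=
  le_antisymm (iSup₂_le fun _ _ => inf_le_left) (le_of_centralizer_le hA hAK hcop fun g hg hg1 =>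
    le_iSup₂ (f := fun a (_ : a ∈ {a : G | a ∈ A ∧ a ≠ 1}) =>
      K ⊓ Subgroup.centralizer ({a} : Set G)) g ⟨hg, hg1⟩)

/-! ### Generation by hyperplane centralizers -/

theorem not_isCyclic_of_exponent [Finite G] {p : ℕ} {A : Subgroup G} (hA : ∀ a ∈ A, a ^ p = 1)
    (hp : 0 < p) (h : p < Nat.card A) : ¬ IsCyclic A := by
  intro hc
  obtain ⟨g, hg⟩ := IsCyclic.exists_ofOrder_eq_natCard (α := A)
  rw [← Subgroup.orderOf_coe] at hg
  have := Nat.le_of_dvd hp (orderOf_dvd_of_pow_eq_one (hA g g.2))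
  rw [hg] at this
  omega

/-- An elementary abelian `A` of rank at least two acting coprimely: `K` is generated by the
centralizers of the subgroups of index at most `p`. -/
theorem le_of_hyperplane_centralizer_le [Finite G] {p : ℕ} [hp : Fact p.Prime] :
    ∀ {A K Y : Subgroup G}, IsMulCommutative A → (∀ a ∈ A, a ^ p = 1) → p ^ 2 ≤ Nat.card A →
      A ≤ Subgroup.normalizer (K : Set G) → (Nat.card A).Coprime (Nat.card K) →
      (∀ B ≤ A, B.relIndex A ≤ p → K ⊓ Subgroup.centralizer (B : Set G) ≤ Y) → K ≤ Y := by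
  intro A
  induction A using WellFoundedLT.induction with
  | ind A IH =>
  intro K Y hcomm hexp hcard hAK hcop hY
  haveI := hcomm
  have hpA : p < Nat.card A := by nlinarith [hp.out.two_le]
  refine le_of_centralizer_le (not_isCyclic_of_exponent hexp hp.out.pos hpA) hAK hcop
    fun a ha ha1 => ?_
  obtain ⟨B, hB, hBmax⟩ : ∃ B : Subgroup G, B ≤ A ⊓ ⊤ ∧ Maximal (fun B => B ≤ A ∧ a ∉ B) B := by
    obtain ⟨B, -, hB⟩ := Finite.exists_le_maximal (p := fun B : Subgroup G => B ≤ A ∧ a ∉ B)
      (a := ⊥) ⟨bot_le, by simpa using ha1⟩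
    exact ⟨B, le_inf hB.prop.1 le_top, hB⟩
  obtain ⟨hBA, haB⟩ := hBmax.prop
  have hcA : ∀ u ∈ A, ∀ v ∈ A, u * v = v * u := fun u hu v hv =>
    congrArg Subtype.val (mul_comm' (⟨u, hu⟩ : A) ⟨v, hv⟩)
  have hnorm : ∀ {U V : Subgroup G}, U ≤ A → V ≤ A → U ≤ Subgroup.normalizer (V : Set G) :=
    fun hU hV u hu => Subgroup.centralizer_le_normalizer _ fun v hv => hcA v (hV hv) u (hU hu)
  set Z := Subgroup.zpowers a with hZ
  have hZA : Z ≤ A := Subgroup.zpowers_le.mpr ha
  have hZcard : Nat.card Z = p := by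
    rw [hZ, Nat.card_zpowers, orderOf_eq_prime (hexp a ha) ha1]
  have hBZ : B ⊓ Z = ⊥ := by
    rcases (Nat.dvd_prime hp.out).mp (hZcard ▸ Subgroup.card_dvd_of_le (inf_le_right : B ⊓ Z ≤ Z))
      with h | h
    · exact Subgroup.eq_bot_of_card_eq _ h
    · exfalso
      have := Subgroup.eq_of_le_of_card_ge (inf_le_right : B ⊓ Z ≤ Z) (by rw [h, hZcard])
      exact haB ((inf_eq_right.mp this) (Subgroup.mem_zpowers a))
  have hsupA : B ⊔ Z = A := by
    refine le_antisymm (sup_le hBA hZA) fun x hx => ?_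
    by_cases hxB : x ∈ B
    · exact Subgroup.mem_sup_left hxB
    have hxA : B ⊔ Subgroup.zpowers x ≤ A := sup_le hBA (Subgroup.zpowers_le.mpr hx)
    have hnot : a ∈ B ⊔ Subgroup.zpowers x := by
      by_contra hne
      exact hxB (hBmax.2 ⟨hxA, hne⟩ le_sup_left (Subgroup.mem_sup_right (Subgroup.mem_zpowers x)))
    rw [← SetLike.mem_coe, Subgroup.coe_mul_of_right_le_normalizer_left B _
      (hnorm (Subgroup.zpowers_le.mpr hx) hBA), Set.mem_mul] at hnot
    obtain ⟨b, hb, z, hz, hbz⟩ := hnot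
    have hx1 : x ≠ 1 := fun h => hxB (h ▸ one_mem B)
    haveI : Fact (Nat.card (Subgroup.zpowers x)).Prime :=
      ⟨by rw [Nat.card_zpowers, orderOf_eq_prime (hexp x hx) hx1]; exact hp.out⟩
    rcases (Subgroup.zpowers z).subgroupOf (Subgroup.zpowers x) |>.eq_bot_or_eq_top_of_prime_card
      with h | h
    · exfalso
      have h1 : z ∈ (⊥ : Subgroup G) := by
        have : (⟨z, hz⟩ : Subgroup.zpowers x) ∈ (⊥ : Subgroup (Subgroup.zpowers x)) :=
          h ▸ Subgroup.mem_zpowers z
        rw [Subgroup.mem_bot] at this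
        exact Subgroup.mem_bot.mpr (congrArg Subtype.val this)
      rw [Subgroup.mem_bot] at h1
      rw [h1, mul_one] at hbz
      exact haB (hbz ▸ hb)
    · have h1 : x ∈ Subgroup.zpowers z := Subgroup.subgroupOf_eq_top.mp h (Subgroup.mem_zpowers x)
      refine (Subgroup.zpowers_le.mpr ?_ : Subgroup.zpowers z ≤ B ⊔ Z) h1
      rw [show z = b⁻¹ * a by rw [← hbz, inv_mul_cancel_left]]
      exact mul_mem (inv_mem (Subgroup.mem_sup_left hb)) (Subgroup.mem_sup_right (Subgroup.mem_zpowers a))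
  have hcardA : Nat.card A = Nat.card B * p := by
    rw [← hsupA, card_sup_of_normalizer (hnorm hZA hBA) hBZ, hZcard]
  have hrel : ∀ {B₀ : Subgroup G}, B₀ ≤ B → (B₀ ⊔ Z).relIndex A ≤ B₀.relIndex B := by
    intro B₀ h0
    have hdis : B₀ ⊓ Z = ⊥ := eq_bot_iff.mpr (hBZ ▸ inf_le_inf_right Z h0)
    have e1 := relIndex_mul_card_inf (B₀ ⊔ Z) A
    rw [inf_eq_left.mpr (sup_le (h0.trans hBA) hZA),
      card_sup_of_normalizer (hnorm hZA (h0.trans hBA)) hdis, hZcard, hcardA] at e1
    have e2 := relIndex_mul_card_inf B₀ B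
    rw [inf_eq_left.mpr h0] at e2
    rw [← e2] at e1
    have : (B₀ ⊔ Z).relIndex A = B₀.relIndex B :=
      Nat.eq_of_mul_eq_mul_right (Nat.mul_pos Nat.card_pos hp.out.pos)
        (e1.trans (mul_assoc _ _ _))
    exact this.le
  by_cases hsmall : Nat.card B = p
  · refine le_trans (le_inf inf_le_left ?_) (hY Z hZA ?_)
    · exact fun x hx => mem_centralizer_singleton_zpowers (Subgroup.mem_inf.mp hx).2
    · have e1 := relIndex_mul_card_inf Z A
      rw [inf_eq_left.mpr hZA, hZcard, hcardA, hsmall] at e1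
      exact (Nat.eq_of_mul_eq_mul_right hp.out.pos e1).le
  have hBlt : B < A := lt_of_le_of_ne hBA fun h => haB (h ▸ ha)
  have hB2 : p ^ 2 ≤ Nat.card B := by
    obtain ⟨n, hn⟩ := IsPGroup.iff_card.mp (show IsPGroup p B from fun b =>
      ⟨1, Subtype.ext (by rw [pow_one]; exact hexp b (hBA b.2))⟩)
    rw [hn] at hsmall ⊢
    refine Nat.pow_le_pow_right hp.out.pos ?_
    rcases n with _ | _ | n
    · rw [hn, pow_zero, one_mul] at hcardA; omega
    · simp at hsmall
    · omega
  have hBcomm : IsMulCommutative B :=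
    ⟨⟨fun u v => Subtype.ext (hcA u (hBA u.2) v (hBA v.2))⟩⟩
  have hBC : B ≤ Subgroup.normalizer
      ((K ⊓ Subgroup.centralizer ({a} : Set G) : Subgroup G) : Set G) := by
    refine le_normalizer_inf_of_le (hBA.trans hAK) fun b hb => Subgroup.le_normalizer ?_
    intro z hz
    rw [Set.mem_singleton_iff] at hz; subst hz
    exact hcA _ ha b (hBA hb)
  refine IH B hBlt hBcomm (fun b hb => hexp b (hBA hb)) hB2 hBC
    ((hcop.coprime_dvd_left (Subgroup.card_dvd_of_le hBA)).coprime_dvd_right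
      (Subgroup.card_dvd_of_le inf_le_left)) fun B₀ hB₀ hidx => ?_
  refine le_trans ?_ (hY (B₀ ⊔ Z) (sup_le (hB₀.trans hBA) hZA) ((hrel hB₀).trans hidx))
  intro x hx
  obtain ⟨hx1, hxB₀⟩ := Subgroup.mem_inf.mp hx
  obtain ⟨hxK, hxa⟩ := Subgroup.mem_inf.mp hx1
  refine Subgroup.mem_inf.mpr ⟨hxK, fun y hy => ?_⟩
  rw [Subgroup.coe_mul_of_right_le_normalizer_left B₀ Z (hnorm hZA (hB₀.trans hBA))] at hy
  obtain ⟨u, hu, v, hv, rfl⟩ := Set.mem_mul.mp hy
  exact (Commute.mul_left (hxB₀ u hu) (mem_centralizer_singleton_zpowers hxa v hv)).eq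

/-! ### Centralizer of prime index -/

/-- If `C_K(A)` has prime index `p` in `K` then `[K, A]` has order `p`. -/
theorem card_commutator_of_relIndex_prime [Finite G] {A K : Subgroup G}
    (hAK : A ≤ Subgroup.normalizer (K : Set G)) (hcop : (Nat.card A).Coprime (Nat.card K))
    (hsolv : Group.IsSolvable A ∨ Group.IsSolvable K) {p : ℕ} [hp : Fact p.Prime]
    (hidx : (K ⊓ Subgroup.centralizer (A : Set G)).relIndex K = p) : Nat.card ↥⁅K, A⁆ = p := by
  set C := K ⊓ Subgroup.centralizer (A : Set G) with hC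
  obtain ⟨P, hP⟩ := exists_invariant_sylow hAK hcop hsolv p
  set P' := (P : Subgroup K).map K.subtype with hP'def
  have hPK : P' ≤ K := Subgroup.map_subtype_le _
  have hPp : IsPGroup p P' := P.2.map _
  set D := C ⊓ P' with hD
  have hDidx : C.relIndex P' = p := by
    have h1 : C.relIndex P' ≤ p := hidx ▸ Subgroup.relIndex_le_of_le_right hPK (by
      rw [hidx]; exact hp.out.ne_zero)
    have h2 : C.relIndex P' ≠ 1 := by
      intro h
      rw [Subgroup.relIndex_eq_one] at h
      have h3 : P'.relIndex C * C.relIndex K = P'.relIndex K :=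
        Subgroup.relIndex_mul_relIndex P' C K h inf_le_left
      have h4 : P'.relIndex K = (P : Subgroup K).index := by
        rw [hP'def, Subgroup.relIndex, Subgroup.subgroupOf,
          Subgroup.comap_map_eq_self_of_injective K.subtype_injective]
      exact P.not_dvd_index ⟨P'.relIndex C, by rw [← h4, ← h3, hidx, mul_comm]⟩
    obtain ⟨n, hn⟩ := hPp.index (C.subgroupOf P')
    change C.relIndex P' = p ^ n at hn
    rw [hn] at h1 h2 ⊢
    rcases n with _ | _ | n
    · simp at h2
    · simp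
    · exfalso
      have := Nat.pow_lt_pow_right hp.out.one_lt (show 1 < n + 1 + 1 by omega)
      rw [pow_one] at this
      omega
  have hfac : ∀ k ∈ K, ∃ u ∈ P', u⁻¹ * k ∈ C := by
    intro k hk
    have hsurj : Function.Surjective (Subgroup.quotientSubgroupOfEmbeddingOfLE C hPK) := by
      refine ((Nat.bijective_iff_injective_and_card _).mpr
        ⟨(Subgroup.quotientSubgroupOfEmbeddingOfLE C hPK).injective, ?_⟩).2
      show C.relIndex P' = C.relIndex K
      rw [hDidx, hidx]
    obtain ⟨q, hq⟩ := hsurj (QuotientGroup.mk (⟨k, hk⟩ : K))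
    obtain ⟨u, rfl⟩ := QuotientGroup.mk_surjective q
    rw [Subgroup.quotientSubgroupOfEmbeddingOfLE_apply_mk, QuotientGroup.eq] at hq
    exact ⟨u, u.2, hq⟩
  have hKA : ⁅K, A⁆ = ⁅P', A⁆ := by
    refine le_antisymm (Subgroup.commutator_le.mpr fun k hk a ha => ?_)
      (Subgroup.commutator_mono hPK le_rfl)
    obtain ⟨u, hu, hc⟩ := hfac k hk
    convert Subgroup.commutator_mem_commutator hu ha using 1
    have hc' := (Subgroup.mem_inf.mp hc).2 a ha
    rw [commutatorElement_def, commutatorElement_def]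
    calc k * a * k⁻¹ * a⁻¹ = u * ((u⁻¹ * k) * a) * k⁻¹ * a⁻¹ := by group
      _ = u * (a * (u⁻¹ * k)) * k⁻¹ * a⁻¹ := by rw [hc']
      _ = u * a * u⁻¹ * a⁻¹ := by group
  rw [hKA]
  set N := ⁅P', A⁆ with hN
  have hNP : N ≤ P' := commutator_le_left_of_le_normalizer hP
  have hDA : ⁅D, A⁆ = ⊥ := Subgroup.commutator_eq_bot_iff_le_centralizer.mpr
    (inf_le_left.trans inf_le_right)
  have hPD : P' ≤ Subgroup.normalizer (D : Set G) := by
    haveI : Group.IsNilpotent P' := hPp.isNilpotent
    have hn : (D.subgroupOf P').Normal := by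
      refine Subgroup.normal_of_index_eq_minFac_card ?_
      change D.relIndex P' = _
      rw [hD, Subgroup.inf_relIndex_right, hDidx]
      obtain ⟨n, hn⟩ := IsPGroup.iff_card.mp hPp
      rw [hn, Nat.pow_minFac, hp.out.minFac_eq]
      rintro rfl
      have := Subgroup.card_dvd_of_le (bot_le : (⊥ : Subgroup G) ≤ P')
      have h5 := relIndex_mul_card_inf C P'
      rw [hDidx, hn, pow_zero] at h5
      exact hp.out.ne_one (Nat.eq_one_of_mul_eq_one_right h5)
    exact (Subgroup.normal_subgroupOf_iff_le_normalizer inf_le_right).mp hn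
  have h3 : ⁅⁅A, P'⁆, D⁆ = ⊥ := Subgroup.commutator_commutator_eq_bot_of_rotate
    (by rw [eq_bot_iff, ← hDA, Subgroup.commutator_comm P' D]
        exact Subgroup.commutator_mono (commutator_le_left_of_le_normalizer hPD) le_rfl)
    (by rw [hDA, Subgroup.commutator_bot_left])
  have hND : N ≤ Subgroup.centralizer (D : Set G) := by
    rw [hN, Subgroup.commutator_comm]
    exact Subgroup.commutator_eq_bot_iff_le_centralizer.mp h3
  have hcopP : (Nat.card A).Coprime (Nat.card P') :=
    hcop.coprime_dvd_right (Subgroup.card_dvd_of_le hPK)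
  have hsP : Group.IsSolvable A ∨ Group.IsSolvable P' := hsolv.imp_right (isSolvable_of_le hPK)
  have hNN : ⁅N, A⁆ = N := commutator_commutator_eq hP hcopP hsP
  have hNn : A ≤ Subgroup.normalizer (N : Set G) :=
    le_normalizer_commutator hP Subgroup.le_normalizer
  have hrelN : D.relIndex N ∣ p := by
    have h1 : D.relIndex N = C.relIndex N := by
      rw [hD, ← Subgroup.inf_relIndex_right (C ⊓ P') N, inf_assoc, inf_eq_right.mpr hNP,
        Subgroup.inf_relIndex_right]
    have h2 : C.relIndex N ≤ p := (Subgroup.relIndex_le_of_le_right hNP (by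
      rw [hDidx]; exact hp.out.ne_zero)).trans hDidx.le
    obtain ⟨n, hn⟩ := (hPp.to_le hNP).index (C.subgroupOf N)
    change C.relIndex N = p ^ n at hn
    rw [hn] at h2
    rw [h1, hn]
    rcases n with _ | _ | n
    · simp
    · simp
    · exfalso
      have := Nat.pow_lt_pow_right hp.out.one_lt (show 1 < n + 1 + 1 by omega)
      rw [pow_one] at this
      omega
  haveI : IsMulCommutative N := by
    have hcenter : D.subgroupOf N ≤ Subgroup.center N := fun z hz =>
      Subgroup.mem_center_iff.mpr fun g => Subtype.ext (hND g.2 z hz).symm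
    have hnorm : (D.subgroupOf N).Normal :=
      Subgroup.normal_subgroupOf_of_le_normalizer (hNP.trans hPD)
    haveI : IsCyclic (N ⧸ D.subgroupOf N) := by
      rcases (Nat.dvd_prime hp.out).mp hrelN with h | h
      · haveI : Subsingleton (N ⧸ D.subgroupOf N) :=
          (Nat.card_eq_one_iff_unique.mp (h : Nat.card (N ⧸ D.subgroupOf N) = 1)).1
        exact isCyclic_of_subsingleton
      · exact isCyclic_of_prime_card (h : Nat.card (N ⧸ D.subgroupOf N) = p)
    exact MonoidHom.isMulCommutative_of_isCyclic_of_ker_le_center (QuotientGroup.mk' (D.subgroupOf N))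
      (by rw [QuotientGroup.ker_mk']; exact hcenter)
  have hfix := centralizer_inf_commutator_eq_bot hNn
    (hcopP.coprime_dvd_right (Subgroup.card_dvd_of_le hNP))
  rw [hNN] at hfix
  have hDN : D ⊓ N = ⊥ := by
    rw [eq_bot_iff, ← hfix]
    exact le_inf (le_inf inf_le_right (inf_le_left.trans (inf_le_left.trans inf_le_right))) inf_le_right
  have hcardN := relIndex_mul_card_inf D N
  rw [hDN, Subgroup.card_bot, mul_one] at hcardN
  rcases (Nat.dvd_prime hp.out).mp hrelN with h | h
  · exfalso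
    rw [h] at hcardN
    have hN1 : N = ⊥ := Subgroup.eq_bot_of_card_eq _ hcardN.symm
    have h6 : P' ≤ C := le_inf hPK (Subgroup.commutator_eq_bot_iff_le_centralizer.mp hN1)
    rw [Subgroup.relIndex_eq_one.mpr h6] at hDidx
    exact hp.out.ne_one hDidx.symm
  · rw [← hcardN, h]

end CfsgLib.Coprime
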