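import Mathlib

/-! In a noncyclic `p`-group, `p` odd, some abelian subgroup is noncyclic. -/

set_option autoImplicit false

namespace Cfsg.Agent.NoncyclicAbelian

variable {p : ℕ} [Fact p.Prime]

theorem mul_pow_of_central {P : Type*} [Group P] {x y c : P} (hc : ∀ g : P, g * c = c * g)
    (hyx : y * x = c * (x * y)) : ∀ n : ℕ,
      y ^ n * x = c ^ n * (x * y ^ n) ∧ (x * y) ^ n = c ^ n.choose 2 * (x ^ n * y ^ n) := by
  intro n
  have hcn : ∀ (k : ℕ) (g : P), g * c ^ k = c ^ k * g := fun k g => (Commute.pow_right (hc g) k)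
  induction n with
  | zero => simp
  | succ n ih =>
    refine ⟨?_, ?_⟩
    · calc y ^ (n + 1) * x = y ^ n * (y * x) := by rw [pow_succ, mul_assoc]
        _ = c * (y ^ n * x * y) := by rw [hyx, ← mul_assoc (y ^ n), hc, mul_assoc c, ← mul_assoc (y ^ n)]
        _ = c * (c ^ n * (x * y ^ n) * y) := by rw [ih.1]
        _ = c ^ (n + 1) * (x * y ^ (n + 1)) := by rw [pow_succ' c, pow_succ y]; simp only [mul_assoc]
    · calc (x * y) ^ (n + 1) = c ^ n.choose 2 * (x ^ n * (y ^ n * x) * y) := by
            rw [pow_succ, ih.2]; simp only [mul_assoc]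
        _ = c ^ n.choose 2 * (x ^ n * c ^ n * (x * y ^ n) * y) := by
            rw [ih.1]; simp only [mul_assoc]
        _ = c ^ n.choose 2 * c ^ n * (x ^ (n + 1) * y ^ (n + 1)) := by
            rw [hcn n (x ^ n), pow_succ x, pow_succ y]; simp only [mul_assoc]
        _ = c ^ (n + 1).choose 2 * (x ^ (n + 1) * y ^ (n + 1)) := by
            have : (n + 1).choose 2 = n.choose 2 + n := by
              rw [show (2 : ℕ) = 1 + 1 from rfl, Nat.choose_succ_succ' n 1, Nat.choose_one_right,
                add_comm]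
            rw [← pow_add, this]

theorem exists_noncyclic_abelian_aux (hp : p ≠ 2) (n : ℕ) :
    ∀ (P : Type*) [Group P] [Finite P], Nat.card P = n → IsPGroup p P → ¬ IsCyclic P →
      ∃ A : Subgroup P, IsMulCommutative A ∧ ¬ IsCyclic A := by
  induction n using Nat.strong_induction_on with
  | h n ih =>
    intro P _ _ hn hP hnc
    have hpp : p.Prime := Fact.out
    by_cases hM : ∃ M : Subgroup P, IsCoatom M ∧ ¬ IsCyclic M
    · obtain ⟨M, hM, hMc⟩ := hM
      have hlt : Nat.card M < n := by
        rw [← hn, ← M.index_mul_card]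
        exact lt_mul_left Nat.card_pos (Subgroup.one_lt_index_of_ne_top hM.1)
      obtain ⟨A, hA, hAc⟩ := ih _ hlt M rfl (hP.to_subgroup M) hMc
      refine ⟨A.map M.subtype, Subgroup.map_isMulCommutative A M.subtype, fun h => hAc ?_⟩
      exact isCyclic_of_surjective (Subgroup.equivMapOfInjective A _ M.subtype_injective).symm
        (MulEquiv.surjective _)
    push Not at hM
    haveI := hP.isNilpotent
    have hnorm : ∀ M : Subgroup P, IsCoatom M → M.Normal := fun M hM =>
      Subgroup.NormalizerCondition.normal_of_coatom M Group.normalizerCondition_of_isNilpotent hM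
    have hidx : ∀ M : Subgroup P, IsCoatom M → M.index = p := by
      intro M hM
      obtain ⟨k, hk⟩ := hP.index M
      rcases Nat.lt_or_ge k 2 with h | h
      · rcases Nat.lt_or_ge k 1 with h' | h'
        · obtain rfl : k = 0 := by omega
          exact absurd (Subgroup.index_eq_one.mp (by simpa using hk)) hM.1
        · obtain rfl : k = 1 := by omega
          simpa using hk
      · exfalso
        haveI := hnorm M hM
        have hQ : IsPGroup p (P ⧸ M) := hP.to_quotient M
        haveI : Fact p.Prime := ⟨hpp⟩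
        obtain ⟨K, hK⟩ := Sylow.exists_subgroup_card_pow_prime p (n := 1) (G := P ⧸ M)
          (by rw [← Subgroup.index_eq_card, hk]; exact pow_dvd_pow p (by omega))
        rw [pow_one] at hK
        have hlt : M < K.comap (QuotientGroup.mk' M) := by
          refine lt_of_le_of_ne (QuotientGroup.le_comap_mk' M K) fun he => ?_
          have hKb : K = ⊥ := by
            rw [← Subgroup.map_comap_eq_self_of_surjective (QuotientGroup.mk'_surjective M) K, ← he,
              Subgroup.map_eq_bot_iff, QuotientGroup.ker_mk']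
          rw [hKb, Subgroup.card_bot] at hK
          exact hpp.one_lt.ne hK
        have ht := hM.2 _ hlt
        have : K = ⊤ := by
          rw [← Subgroup.map_comap_eq_self_of_surjective (QuotientGroup.mk'_surjective M) K, ht,
            Subgroup.map_top_of_surjective _ (QuotientGroup.mk'_surjective M)]
        rw [this, Subgroup.card_top, ← Subgroup.index_eq_card, hk] at hK
        have := Nat.pow_lt_pow_right hpp.one_lt (show 1 < k by omega)
        rw [pow_one] at this
        omega
    -- two maximal subgroups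
    have hne : Nontrivial P := by
      by_contra h
      haveI := not_nontrivial_iff_subsingleton.mp h
      exact hnc isCyclic_of_subsingleton
    obtain ⟨M₁, hM₁, -⟩ := (IsCoatomic.eq_top_or_exists_le_coatom (⊥ : Subgroup P)).resolve_left
      bot_ne_top
    obtain ⟨x₀, hx₀⟩ : ∃ x₀, x₀ ∉ M₁ := by
      by_contra h
      push Not at h
      exact hM₁.1 (eq_top_iff.mpr fun x _ => h x)
    have hz : Subgroup.zpowers x₀ ≠ ⊤ := fun h =>
      hnc ⟨⟨x₀, fun y => by rw [← Subgroup.mem_zpowers_iff] at *; simp [h]⟩⟩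
    obtain ⟨M₂, hM₂, hx₂⟩ := (IsCoatomic.eq_top_or_exists_le_coatom _).resolve_left hz
    haveI hN1 := hnorm M₁ hM₁
    haveI hN2 := hnorm M₂ hM₂
    have hne12 : M₁ ≠ M₂ := fun h => hx₀ (h ▸ hx₂ (Subgroup.mem_zpowers x₀))
    have htop : M₁ ⊔ M₂ = ⊤ := by
      apply hM₁.2
      refine lt_of_le_of_ne le_sup_left fun h => hne12 ?_
      have h2 : M₂ ≤ M₁ := h ▸ le_sup_right
      exact (hM₂.le_iff_eq hM₁.1).mp h2
    set Z := M₁ ⊓ M₂ with hZ
    have hcent : ∀ z ∈ Z, ∀ g : P, g * z = z * g := by
      intro z hz g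
      have hcy1 := hM M₁ hM₁
      have hcy2 := hM M₂ hM₂
      have hle : M₁ ⊔ M₂ ≤ Subgroup.centralizer {z} := by
        refine sup_le ?_ ?_ <;> intro m hm <;> rw [Subgroup.mem_centralizer_singleton_iff]
        · letI := hcy1.commGroup
          exact congrArg Subtype.val (mul_comm (⟨m, hm⟩ : M₁) ⟨z, hz.1⟩)
        · letI := hcy2.commGroup
          exact congrArg Subtype.val (mul_comm (⟨m, hm⟩ : M₂) ⟨z, hz.2⟩)
      exact Subgroup.mem_centralizer_singleton_iff.mp (hle (htop ▸ Subgroup.mem_top g))
    have hpow : ∀ x : P, x ^ p ∈ Z := fun x => by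
      refine ⟨?_, ?_⟩
      · exact hidx M₁ hM₁ ▸ M₁.pow_index_mem x
      · exact hidx M₂ hM₂ ▸ M₂.pow_index_mem x
    have hcomm : ∀ x y : P, y * x * y⁻¹ * x⁻¹ ∈ Z := by
      intro x y
      have h : ∀ M : Subgroup P, IsCoatom M → y * x * y⁻¹ * x⁻¹ ∈ M := by
        intro M hM
        haveI := hnorm M hM
        haveI : Fact (Nat.card (P ⧸ M)).Prime :=
          ⟨by rw [← Subgroup.index_eq_card, hidx M hM]; exact hpp⟩
        haveI : IsCyclic (P ⧸ M) := isCyclic_of_prime_card rfl
        letI := IsCyclic.commGroup (α := P ⧸ M)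
        rw [← QuotientGroup.eq_one_iff]
        simp only [QuotientGroup.mk_mul, QuotientGroup.mk_inv]
        rw [mul_comm (↑y : P ⧸ M) ↑x]
        group
      exact ⟨h M₁ hM₁, h M₂ hM₂⟩
    have hmulpow : ∀ x y : P, (x * y) ^ p = x ^ p * y ^ p := by
      intro x y
      set c := y * x * y⁻¹ * x⁻¹ with hc
      have hyx : y * x = c * (x * y) := by rw [hc]; group
      have hcc := hcent c (hcomm x y)
      have h1 := (mul_pow_of_central hcc hyx p).1
      have hcp : c ^ p = 1 := by
        rw [← hcent (y ^ p) (hpow y) x] at h1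
        exact mul_eq_right.mp h1.symm
      rw [(mul_pow_of_central hcc hyx p).2]
      obtain ⟨m, hm⟩ : p ∣ p.choose 2 := hpp.dvd_choose_self two_ne_zero
        (lt_of_le_of_ne hpp.two_le (Ne.symm hp))
      rw [hm, pow_mul, hcp, one_pow, one_mul]
    let φ : P →* P := MonoidHom.mk' (fun x => x ^ p) hmulpow
    have hrange : φ.range ≤ Z := by
      rintro _ ⟨x, rfl⟩
      exact hpow x
    have hker : p ^ 2 ∣ Nat.card φ.ker := by
      have h1 : Nat.card φ.ker * Nat.card φ.range = Nat.card P := by
        rw [← φ.ker.card_mul_index, Subgroup.index_ker]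
      obtain ⟨d, hd⟩ := Subgroup.card_dvd_of_le hrange
      have h3 : Nat.card P = p ^ 2 * Nat.card Z := by
        have hP1 : Nat.card P = p * Nat.card M₁ := by rw [← hidx M₁ hM₁, M₁.index_mul_card]
        have hrel : (M₂).relIndex M₁ = p := by
          rw [← Subgroup.relIndex_sup_left M₁ M₂, sup_comm M₂ M₁, htop, Subgroup.relIndex_top_right,
            hidx M₂ hM₂]
        have h4 := Subgroup.relIndex_mul_relIndex ⊥ Z M₁ bot_le inf_le_left
        simp only [Subgroup.relIndex_bot_left] at h4
        rw [hZ, inf_comm, Subgroup.inf_relIndex_right, hrel] at h4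
        rw [hP1, ← h4, hZ, inf_comm]
        ring
      rw [h3, hd] at h1
      refine ⟨d, Nat.eq_of_mul_eq_mul_right (Nat.card_pos : 0 < Nat.card φ.range) ?_⟩
      rw [h1]
      ring
    obtain ⟨A, hA⟩ := Sylow.exists_subgroup_card_pow_prime p hker
    refine ⟨A.map φ.ker.subtype, ?_, fun h => ?_⟩
    · haveI : IsMulCommutative A := IsPGroup.isMulCommutative_of_card_eq_prime_sq hA
      exact Subgroup.map_isMulCommutative A _
    · haveI : IsCyclic A := isCyclic_of_surjective
        (Subgroup.equivMapOfInjective A _ φ.ker.subtype_injective).symm (MulEquiv.surjective _)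
      obtain ⟨g, hg⟩ := IsCyclic.exists_generator (α := A)
      have ho : orderOf g = Nat.card A := orderOf_eq_card_of_forall_mem_zpowers hg
      have h1 : g ^ p = 1 := by
        apply Subtype.ext; apply Subtype.ext
        exact MonoidHom.mem_ker.mp (g : φ.ker).2
      have := Nat.le_of_dvd hpp.pos (orderOf_dvd_of_pow_eq_one h1)
      rw [ho, hA] at this
      nlinarith [hpp.one_lt]

/-- A noncyclic `p`-group, `p` odd, has a noncyclic abelian subgroup. -/
theorem exists_noncyclic_abelian {P : Type*} [Group P] [Finite P] (hp : p ≠ 2) (hP : IsPGroup p P)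
    (hnc : ¬ IsCyclic P) : ∃ A : Subgroup P, IsMulCommutative A ∧ ¬ IsCyclic A :=
  exists_noncyclic_abelian_aux hp _ P rfl hP hnc

end Cfsg.Agent.NoncyclicAbelian
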