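import Mathlib

/-!
The Baer trick: a group of odd order and class at most two carries an abelian group structure
`x ∘ y = x * y * ⁅y, x⁆ ^ (1/2)` preserved by all its automorphisms.  Consequence (Thompson): if a
`p`-group `P` normalizes a `p'`-group `Q` of automorphisms of a `p`-group `K` of class at most
two, `p` odd, and `Q` is nontrivial on `K`, then some element fixed by `P` is moved by `Q`.
-/

set_option autoImplicit false
set_option linter.style.haveILetI false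

namespace CfsgLib.BaerTrick

open scoped commutatorElement

variable {K : Type*} [Group K]

/-- Wrapper carrying the Baer structure. -/
@[ext] structure BW (K : Type*) where
  /-- underlying element -/
  val : K

variable (hc : ∀ a b c : K, c * ⁅a, b⁆ = ⁅a, b⁆ * c) (m : ℕ)

include hc

theorem comm_pow (a b c : K) : c * ⁅a, b⁆ ^ m = ⁅a, b⁆ ^ m * c :=
  (Commute.pow_right (hc a b c) m).eq

theorem bil_left (a b c : K) : ⁅a * b, c⁆ = ⁅a, c⁆ * ⁅b, c⁆ := by
  have e : ⁅a * b, c⁆ = a * ⁅b, c⁆ * (c * a⁻¹ * c⁻¹) := by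
    simp only [commutatorElement_def]; group
  rw [e, hc b c a, hc b c ⁅a, c⁆]
  simp only [commutatorElement_def]; group

theorem bil_right (a b c : K) : ⁅a, b * c⁆ = ⁅a, b⁆ * ⁅a, c⁆ := by
  have e : ⁅a, b * c⁆ = ⁅a, b⁆ * (b * ⁅a, c⁆ * b⁻¹) := by
    simp only [commutatorElement_def]; group
  rw [e, hc a c b, mul_assoc ⁅a, c⁆, mul_inv_cancel, mul_one]

theorem pow_left (a b c d : K) : ⁅a * ⁅b, c⁆ ^ m, d⁆ = ⁅a, d⁆ := by
  have h : ⁅⁅b, c⁆ ^ m, d⁆ = 1 :=
    commutatorElement_eq_one_iff_commute.mpr (comm_pow hc m b c d).symm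
  rw [bil_left hc, h, mul_one]

theorem pow_right (a b c d : K) : ⁅d, a * ⁅b, c⁆ ^ m⁆ = ⁅d, a⁆ := by
  have h : ⁅d, ⁅b, c⁆ ^ m⁆ = 1 :=
    commutatorElement_eq_one_iff_commute.mpr (comm_pow hc m b c d)
  rw [bil_right hc, h, mul_one]

/-- The Baer group. -/
abbrev baerGroup (hm : ∀ x : K, x ^ (m + m) = x) : CommGroup (BW K) where
  mul x y := ⟨x.val * y.val * ⁅y.val, x.val⁆ ^ m⟩
  one := ⟨1⟩
  inv x := ⟨x.val⁻¹⟩
  mul_assoc x y z := by
    obtain ⟨x⟩ := x; obtain ⟨y⟩ := y; obtain ⟨z⟩ := z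
    refine BW.ext ?_
    show x * y * ⁅y, x⁆ ^ m * z * ⁅z, x * y * ⁅y, x⁆ ^ m⁆ ^ m
      = x * (y * z * ⁅z, y⁆ ^ m) * ⁅y * z * ⁅z, y⁆ ^ m, x⁆ ^ m
    rw [pow_right hc, pow_left hc, bil_right hc, bil_left hc,
      Commute.mul_pow (hc z y ⁅z, x⁆) m, Commute.mul_pow (hc z x ⁅y, x⁆) m,
      mul_assoc (x * y) _ z, ← comm_pow hc m y x z]
    simp only [mul_assoc]
    congr 3
    rw [← mul_assoc (⁅y, x⁆ ^ m), ← mul_assoc (⁅z, y⁆ ^ m)]
    rw [mul_assoc (⁅z, y⁆ ^ m)]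
    exact comm_pow hc m z y (⁅y, x⁆ ^ m * ⁅z, x⁆ ^ m)
  one_mul x := BW.ext (show 1 * x.val * ⁅x.val, 1⁆ ^ m = x.val by simp)
  mul_one x := BW.ext (show x.val * 1 * ⁅1, x.val⁆ ^ m = x.val by simp)
  inv_mul_cancel x := BW.ext
    (show x.val⁻¹ * x.val * ⁅x.val, x.val⁻¹⁆ ^ m = 1 by
      rw [commutatorElement_eq_one_iff_commute.mpr (Commute.inv_right (Commute.refl x.val))]
      simp)
  mul_comm x y := by
    obtain ⟨x⟩ := x; obtain ⟨y⟩ := y
    refine BW.ext ?_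
    show x * y * ⁅y, x⁆ ^ m = y * x * ⁅x, y⁆ ^ m
    have h1 : x * y = y * x * ⁅x, y⁆ := by
      rw [hc]; simp only [commutatorElement_def]; group
    have h2 : ⁅x, y⁆ * ⁅y, x⁆ ^ m = ⁅x, y⁆ ^ m := by
      rw [← commutatorElement_inv x y, inv_pow, mul_inv_eq_iff_eq_mul, ← pow_add, hm]
    rw [h1, mul_assoc, h2]

omit hc in
theorem exists_half [Finite K] (hodd : Odd (Nat.card K)) :
    ∃ m : ℕ, ∀ x : K, x ^ (m + m) = x := by
  obtain ⟨k, hk⟩ := hodd
  refine ⟨k + 1, fun x => ?_⟩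
  rw [show k + 1 + (k + 1) = Nat.card K + 1 by omega, pow_add, pow_card_eq_one', one_mul, pow_one]

/-- Thompson's lemma for class at most two. -/
theorem exists_fixed_moved [Finite K] {p : ℕ} [Fact p.Prime] (hp : p ≠ 2) (hK : IsPGroup p K)
    {Γ : Type*} [Group Γ] [Finite Γ] (f : Γ →* MulAut K) {P Q : Subgroup Γ} (hP : IsPGroup p P)
    (hQ : (Nat.card Q).Coprime p) (hPQ : P ≤ Subgroup.normalizer (Q : Set Γ))
    (hne : ∃ q ∈ Q, ∃ x : K, f q x ≠ x) :
    ∃ x : K, (∀ u ∈ P, f u x = x) ∧ ∃ q ∈ Q, f q x ≠ x := by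
  classical
  have hodd : Odd (Nat.card K) := by
    obtain ⟨n, hn⟩ := IsPGroup.iff_card.mp hK
    rw [hn]
    exact ((Fact.out : p.Prime).odd_of_ne_two hp).pow
  obtain ⟨m, hm⟩ := exists_half hodd
  letI := baerGroup hc m hm
  let F : Γ → BW K →* BW K := fun u =>
    MonoidHom.mk' (fun x => ⟨f u x.val⟩) (fun x y => BW.ext (by
      show f u (x.val * y.val * ⁅y.val, x.val⁆ ^ m)
        = f u x.val * f u y.val * ⁅f u y.val, f u x.val⁆ ^ m
      rw [map_mul, map_mul, map_pow, map_commutatorElement]))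
  have hF : ∀ u v x, F (u * v) x = F u (F v x) := fun u v x => BW.ext (by
    show f (u * v) x.val = f u (f v x.val)
    rw [map_mul, MulAut.mul_apply])
  have hF1 : ∀ x, F 1 x = x := fun x => BW.ext (by
    show f 1 x.val = x.val
    rw [map_one, MulAut.one_apply])
  have hpow : ∀ (x : BW K) (n : ℕ), (x ^ n).val = x.val ^ n := by
    intro x n
    induction n with
    | zero => rw [pow_zero, pow_zero]; rfl
    | succ n ih =>
      rw [pow_succ, pow_succ]
      show (x ^ n).val * x.val * ⁅x.val, (x ^ n).val⁆ ^ m = _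
      rw [ih, commutatorElement_eq_one_iff_commute.mpr (Commute.self_pow x.val n), one_pow, mul_one]
  haveI : Finite (BW K) := Finite.of_equiv K ⟨BW.mk, BW.val, fun _ => rfl, fun _ => rfl⟩
  haveI : Fintype Q := Fintype.ofFinite _
  let T : BW K →* BW K := ∏ q : Q, F q
  have hT : ∀ x, T x = ∏ q : Q, F q x := fun x => MonoidHom.finsetProd_apply _ _ _
  have hPT : ∀ u ∈ P, ∀ x, T (F u x) = F u (T x) := by
    intro u hu x
    rw [hT, hT, map_prod]
    have hu' := hPQ hu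
    refine Fintype.prod_equiv
      { toFun := fun (q : Q) => ⟨u⁻¹ * (q : Γ) * u, (Subgroup.mem_normalizer_iff''.mp hu' q).mp q.2⟩
        invFun := fun (q : Q) => ⟨u * (q : Γ) * u⁻¹, (Subgroup.mem_normalizer_iff.mp hu' q).mp q.2⟩
        left_inv := fun (q : Q) => Subtype.ext (show u * (u⁻¹ * (q : Γ) * u) * u⁻¹ = q by group)
        right_inv := fun (q : Q) => Subtype.ext (show u⁻¹ * (u * (q : Γ) * u⁻¹) * u = q by group) } _ _ fun q => ?_
    show F q (F u x) = F u (F (u⁻¹ * q * u) x)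
    rw [← hF, ← hF]
    congr 1
    rw [show u * (u⁻¹ * (q : Γ) * u) = q * u by group]
  obtain ⟨q₀, hq₀, x₀, hx₀⟩ := hne
  set S := T.ker
  have hy : F q₀ ⟨x₀⟩ * (⟨x₀⟩ : BW K)⁻¹ ∈ S := by
    rw [MonoidHom.mem_ker, map_mul, map_inv, mul_inv_eq_one, hT, hT]
    exact Fintype.prod_equiv (Equiv.mulRight ⟨q₀, hq₀⟩) _ _ fun q => by
      show F q (F q₀ _) = F (q * q₀ : Γ) _
      rw [hF]
  have hy1 : F q₀ ⟨x₀⟩ * (⟨x₀⟩ : BW K)⁻¹ ≠ 1 := by
    rw [Ne, mul_inv_eq_one]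
    exact fun h => hx₀ (congrArg BW.val h)
  letI : MulAction P S :=
    { smul := fun u s => ⟨F u s, by rw [MonoidHom.mem_ker, hPT u u.2, MonoidHom.mem_ker.mp s.2, map_one]⟩
      one_smul := fun s => Subtype.ext (hF1 s)
      mul_smul := fun u v s => Subtype.ext (hF u v s) }
  have hpS : p ∣ Nat.card S := by
    have hB : IsPGroup p (BW K) := fun x => by
      obtain ⟨k, hk⟩ := hK x.val
      exact ⟨k, BW.ext (by rw [hpow, hk]; rfl)⟩
    obtain ⟨n, hn⟩ := IsPGroup.iff_card.mp (hB.to_subgroup S)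
    rw [hn]
    refine dvd_pow_self p fun h0 => hy1 ?_
    rw [h0, pow_zero] at hn
    have := Subgroup.eq_bot_of_card_eq S hn
    rw [this, Subgroup.mem_bot] at hy
    exact hy
  obtain ⟨s, hs, hs1⟩ := hP.exists_fixed_point_of_prime_dvd_card_of_fixed_point S hpS
    (a := (1 : S)) (fun u => Subtype.ext (map_one (F u)))
  refine ⟨(s : BW K).val, fun u hu => congrArg (fun z : S => (z : BW K).val) (hs ⟨u, hu⟩), ?_⟩
  by_contra hfix
  push Not at hfix
  have h1 : (s : BW K) ^ Nat.card Q = 1 := by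
    have := MonoidHom.mem_ker.mp s.2
    rw [hT, Finset.prod_congr rfl fun (q : Q) _ => (BW.ext (hfix (q : Γ) q.2) : F q s = s),
      Finset.prod_const, Finset.card_univ, ← Nat.card_eq_fintype_card] at this
    exact this
  apply hs1
  refine Subtype.ext (BW.ext ?_)
  obtain ⟨n, hn⟩ := IsPGroup.iff_card.mp hK
  show (1 : K) = (s : BW K).val
  have h2 : (s : BW K).val ^ Nat.card Q = 1 := by rw [← hpow, h1]; rfl
  have h3 : orderOf (s : BW K).val ∣ Nat.card K := orderOf_dvd_natCard _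
  have h4 : orderOf (s : BW K).val ∣ Nat.card Q := orderOf_dvd_of_pow_eq_one h2
  have h5 : Nat.Coprime (Nat.card K) (Nat.card Q) := by rw [hn]; exact (hQ.symm).pow_left n
  exact (orderOf_eq_one_iff.mp (Nat.eq_one_of_dvd_coprimes h5 h3 h4)).symm

end CfsgLib.BaerTrick
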