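import Mathlib
import Cfsg.Agent.Lib.Coprime.Action
import Cfsg.Agent.Lib.Coprime.Generation

/-!
An abelian group `A` acting coprimely on a solvable group `Y = [Y, A]`: for `B ≤ A`, the fixed points
of `B` on `Y` are generated by their intersections with the `[C_Y(B₀), A]`, `B / B₀` cyclic.
-/

set_option autoImplicit false

namespace CfsgLib.Coprime.CommutatorFixed

open scoped commutatorElement

variable {G : Type*} [Group G]

theorem conj_mem {K : Subgroup G} {g x : G} (hg : g ∈ Subgroup.normalizer (K : Set G))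
    (hx : x ∈ K) : g * x * g⁻¹ ∈ K :=
  (Subgroup.mem_normalizer_iff.mp hg x).mp hx

theorem conj_inv_mem {K : Subgroup G} {g x : G} (hg : g ∈ Subgroup.normalizer (K : Set G))
    (hx : x ∈ K) : g⁻¹ * x * g ∈ K := by
  simpa using conj_mem (inv_mem hg) hx

/-- Generation by the fixed points of the subgroups with cyclic quotient. -/
theorem le_of_cyclic_quotient [Finite G] {B K Y : Subgroup G} [IsMulCommutative B]
    (hBK : B ≤ Subgroup.normalizer (K : Set G)) (hcop : (Nat.card B).Coprime (Nat.card K))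
    (hY : ∀ B₀ : Subgroup G, B₀ ≤ B →
      (∀ [(B₀.subgroupOf B).Normal], IsCyclic (↥B ⧸ B₀.subgroupOf B)) →
      K ⊓ Subgroup.centralizer (B₀ : Set G) ≤ Y) :
    K ≤ Y := by
  suffices h : ∀ E : Subgroup G, E ≤ B → K ⊓ Subgroup.centralizer (E : Set G) ≤ Y by
    intro x hx
    refine h ⊥ bot_le ⟨hx, fun e he => ?_⟩
    rw [SetLike.mem_coe, Subgroup.mem_bot] at he
    rw [he, one_mul, mul_one]
  intro E
  induction E using WellFoundedGT.induction with
  | ind E IH =>
  intro hEB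
  have hcomm : ∀ a ∈ B, ∀ b ∈ B, a * b = b * a := fun a ha b hb =>
    congrArg Subtype.val (mul_comm' (⟨a, ha⟩ : B) ⟨b, hb⟩)
  have hEn : (E.subgroupOf B).Normal := ⟨fun n hn g => by
    rwa [mul_comm' g n, mul_inv_cancel_right]⟩
  by_cases hcyc : IsCyclic (↥B ⧸ E.subgroupOf B)
  · exact hY E hEB hcyc
  set L := K ⊓ Subgroup.centralizer (E : Set G) with hL
  have hBE : B ≤ Subgroup.normalizer (E : Set G) := fun b hb =>
    Subgroup.centralizer_le_normalizer _ (fun e he => hcomm e (hEB he) b hb)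
  have hBL : B ≤ Subgroup.normalizer (L : Set G) :=
    le_normalizer_inf_of_le hBK (le_normalizer_centralizer hBE)
  have hLE : L ≤ Subgroup.normalizer (E : Set G) :=
    fun l hl => Subgroup.centralizer_le_normalizer _ hl.2
  let M := L ⊔ B
  have hME : M ≤ Subgroup.normalizer (E : Set G) := sup_le hLE hBE
  haveI : (E.subgroupOf M).Normal := by
    refine ⟨fun n hn g => ?_⟩
    rw [Subgroup.mem_subgroupOf] at hn ⊢
    exact conj_mem (hME g.2) hn
  let π : M →* M ⧸ E.subgroupOf M := QuotientGroup.mk' _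
  set L' := (L.subgroupOf M).map π with hL'
  set B' := (B.subgroupOf M).map π with hB'
  haveI : IsMulCommutative B' := by
    refine ⟨⟨?_⟩⟩
    rintro ⟨_, a, ha, rfl⟩ ⟨_, b, hb, rfl⟩
    apply Subtype.ext
    show π a * π b = π b * π a
    rw [← map_mul, ← map_mul]
    exact congrArg π (Subtype.ext (hcomm a ha b hb))
  have hnc : ¬ IsCyclic B' := by
    intro hc
    apply hcyc
    let f : ↥B →* B' := ((π.subgroupMap (B.subgroupOf M)).comp
      (Subgroup.subgroupOfEquivOfLe (le_sup_right : B ≤ M)).symm.toMonoidHom)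
    have hf : Function.Surjective f :=
      (π.subgroupMap_surjective _).comp
        (Subgroup.subgroupOfEquivOfLe (le_sup_right : B ≤ M)).symm.surjective
    have hker : f.ker = E.subgroupOf B := by
      ext b
      rw [MonoidHom.mem_ker, Subgroup.mem_subgroupOf, Subtype.ext_iff]
      show (QuotientGroup.mk' (E.subgroupOf M)) _ = 1 ↔ _
      rw [QuotientGroup.mk'_apply, QuotientGroup.eq_one_iff, Subgroup.mem_subgroupOf]
      rfl
    exact ((QuotientGroup.quotientMulEquivOfEq hker).symm.trans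
      (QuotientGroup.quotientKerEquivOfSurjective f hf)).isCyclic.mpr hc
  have hB'L' : B' ≤ Subgroup.normalizer (L' : Set (M ⧸ E.subgroupOf M)) := by
    rintro _ ⟨b, hb, rfl⟩
    refine Subgroup.le_normalizer_map π ⟨b, ?_, rfl⟩
    exact Subgroup.mem_normalizer_iff.mpr fun x =>
      Subgroup.mem_normalizer_iff.mp (hBL hb) x
  have hcard' : (Nat.card B').Coprime (Nat.card L') := by
    refine Nat.Coprime.coprime_dvd_left ?_ (hcop.coprime_dvd_right ?_)
    · refine (Subgroup.card_map_dvd _ _).trans ?_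
      rw [Nat.card_congr (Subgroup.subgroupOfEquivOfLe (le_sup_right : B ≤ M)).toEquiv]
    · refine (Subgroup.card_map_dvd _ _).trans ?_
      rw [Nat.card_congr (Subgroup.subgroupOfEquivOfLe (le_sup_left : L ≤ M)).toEquiv]
      exact Subgroup.card_dvd_of_le inf_le_left
  have hd : ∀ x, x ∈ K → x ∈ E → x = 1 := fun x hxK hxE => by
    have h1 : x ∈ K ⊓ B := ⟨hxK, hEB hxE⟩
    rwa [inf_eq_bot_of_coprime_card hcop.symm, Subgroup.mem_bot] at h1
  have key : L' ≤ ((L ⊓ Y).subgroupOf M).map π := by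
    refine le_of_centralizer_le hnc hB'L' hcard' ?_
    rintro _ ⟨b, hb, rfl⟩ hb1 _ ⟨⟨l, hl, rfl⟩, hlc⟩
    refine ⟨l, ⟨hl, ?_⟩, rfl⟩
    have hbE : (b : G) ∉ E := fun h => hb1 <| by
      show (QuotientGroup.mk' (E.subgroupOf M)) b = 1
      rw [QuotientGroup.mk'_apply, QuotientGroup.eq_one_iff, Subgroup.mem_subgroupOf]
      exact h
    have hcm : π l * π b = π b * π l := Subgroup.mem_centralizer_singleton_iff.mp hlc
    rw [← map_mul, ← map_mul] at hcm
    have hdiff : ((l * b)⁻¹ * (b * l) : M) ∈ E.subgroupOf M := QuotientGroup.eq.mp hcm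
    rw [Subgroup.mem_subgroupOf] at hdiff
    have hlb : (l : G) * b = b * l := by
      have hK : ((b : G)⁻¹ * (l : G)⁻¹ * b) * l ∈ K :=
        mul_mem (conj_inv_mem (hBK hb) (inv_mem hl.1)) hl.1
      have := hd _ hK (by simpa [mul_assoc] using hdiff)
      have h2 : ((l : G) * b)⁻¹ * (b * l) = 1 := by simpa [mul_assoc] using this
      exact inv_mul_eq_one.mp h2
    refine IH (E ⊔ Subgroup.zpowers (b : G)) ?_ (sup_le hEB ((Subgroup.zpowers_le).mpr hb))
      ⟨hl.1, ?_⟩
    · exact lt_of_le_of_ne le_sup_left fun h => hbE <| by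
        rw [h]; exact Subgroup.mem_sup_right (Subgroup.mem_zpowers _)
    · refine Subgroup.mem_centralizer_iff.mpr fun e he => ?_
      have hle : E ⊔ Subgroup.zpowers (b : G) ≤ Subgroup.centralizer ({(l : G)} : Set G) := by
        refine sup_le (fun e he => Subgroup.mem_centralizer_singleton_iff.mpr (hl.2 e he)) ?_
        exact Subgroup.zpowers_le.mpr (Subgroup.mem_centralizer_singleton_iff.mpr hlb.symm)
      exact Subgroup.mem_centralizer_singleton_iff.mp (hle he)
  intro x hx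
  obtain ⟨y, hy, hxy⟩ := key ⟨⟨x, Subgroup.mem_sup_left hx⟩, hx, rfl⟩
  have h1 := QuotientGroup.eq.mp hxy
  rw [Subgroup.mem_subgroupOf] at h1
  have h2 : (y : G)⁻¹ * x ∈ K := mul_mem (inv_mem hy.1.1) hx.1
  have h3 := inv_mul_eq_one.mp (hd _ h2 h1)
  exact h3 ▸ hy.2

/-- The linearity argument: if `U` and `B₀` act trivially on `W / S`, then the commutators of `U`
with a fixed point `k ∈ K₀` of `B₀` lie in `S`. -/
theorem commutator_mem [Finite G] {B₀ U W S K₀ : Subgroup G} {k : G}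
    (hBU : B₀ ≤ Subgroup.normalizer (U : Set G)) (hcop : (Nat.card B₀).Coprime (Nat.card U))
    (hsol : Group.IsSolvable B₀)
    (hSW : S ≤ W) (hS : ∀ u ∈ U, ∀ w ∈ W, ⁅u, w⁆ ∈ S) (hB : ∀ b ∈ B₀, ∀ w ∈ W, ⁅b, w⁆ ∈ S)
    (hUW : ∀ u ∈ U, ⁅u, k⁆ ∈ W) (hkB : ∀ b ∈ B₀, b * k = k * b)
    (hK : W ⊓ K₀ ≤ S) (hk : k ∈ K₀)
    (hnK : U ⊓ Subgroup.centralizer (B₀ : Set G) ≤ Subgroup.normalizer (K₀ : Set G)) :
    ∀ u ∈ U, ⁅u, k⁆ ∈ S := by
  have hconj : ∀ u ∈ U, ∀ s ∈ S, u * s * u⁻¹ ∈ S := fun u hu s hs => by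
    have h1 := mul_mem (hS u hu s (hSW hs)) hs
    rw [commutatorElement_def] at h1
    simpa using h1
  let T : Subgroup G :=
    { carrier := {u | u ∈ U ∧ ⁅u, k⁆ ∈ S}
      one_mem' := ⟨one_mem _, by rw [commutatorElement_one_left]; exact one_mem _⟩
      mul_mem' := fun {u v} hu hv => ⟨mul_mem hu.1 hv.1, by
        have := mul_mem (hconj u hu.1 _ hv.2) hu.2
        convert this using 1
        simp only [commutatorElement_def]; group⟩
      inv_mem' := fun {u} hu => ⟨inv_mem hu.1, by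
        have := hconj u⁻¹ (inv_mem hu.1) _ (inv_mem hu.2)
        convert this using 1
        simp only [commutatorElement_def]; group⟩ }
  suffices h : U ≤ T from fun u hu => (h hu).2
  refine (commutator_sup_centralizer hBU hcop (Or.inl hsol)).symm.le.trans (sup_le ?_ ?_)
  · refine Subgroup.commutator_le.mpr fun u hu b hb => ?_
    have hv : b * u⁻¹ * b⁻¹ ∈ U := conj_mem (hBU hb) (inv_mem hu)
    refine ⟨by
      rw [commutatorElement_def, show u * b * u⁻¹ * b⁻¹ = u * (b * u⁻¹ * b⁻¹) by group]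
      exact mul_mem hu hv, ?_⟩
    have h1 := hconj u hu _ (hB b hb _ (hUW u⁻¹ (inv_mem hu)))
    have hbk : b⁻¹ * k * b = k := by rw [mul_assoc, ← hkB b hb, ← mul_assoc]; group
    have hkb : k⁻¹ * b⁻¹ * k = b⁻¹ := by
      rw [mul_assoc, inv_mul_eq_iff_eq_mul]
      calc b⁻¹ * k = b⁻¹ * k * b * b⁻¹ := by group
        _ = k * b⁻¹ := by rw [hbk]
    have h2 : ⁅⁅u, b⁆, k⁆ = u * ⁅b, ⁅u⁻¹, k⁆⁆ * u⁻¹ := by
      calc ⁅⁅u, b⁆, k⁆ = u * b * u⁻¹ * (b⁻¹ * k * b) * u * b⁻¹ * u⁻¹ * k⁻¹ := by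
            simp only [commutatorElement_def]; group
        _ = u * b * u⁻¹ * k * u * (k⁻¹ * b⁻¹ * k) * u⁻¹ * k⁻¹ := by rw [hbk, hkb]
        _ = _ := by simp only [commutatorElement_def]; group
    rw [h2]
    exact h1
  · rintro u hu
    refine ⟨hu.1, hK ⟨hUW u hu.1, ?_⟩⟩
    show u * k * u⁻¹ * k⁻¹ ∈ K₀
    exact mul_mem (conj_mem (hnK hu) hk) (inv_mem hk)

theorem normalizer_commutator {U : Subgroup G} :
    U ≤ Subgroup.normalizer ((⁅U, U⁆ : Subgroup G) : Set G) :=
  le_normalizer_commutator Subgroup.le_normalizer Subgroup.le_normalizer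

variable [Finite G] {A B Y : Subgroup G} [IsMulCommutative A]

/-- `[C_Y(B₀), A]`. -/
def comK (A Y B₀ : Subgroup G) : Subgroup G :=
  ⁅Y ⊓ Subgroup.centralizer (B₀ : Set G), A⁆

omit [Finite G] in
theorem le_normalizer_fixed {B₀ : Subgroup G} (hB₀ : B₀ ≤ A)
    (hAY : A ≤ Subgroup.normalizer (Y : Set G)) :
    A ≤ Subgroup.normalizer ((Y ⊓ Subgroup.centralizer (B₀ : Set G) : Subgroup G) : Set G) :=
  le_normalizer_inf_of_le hAY (le_normalizer_centralizer fun a ha =>
    Subgroup.centralizer_le_normalizer _ fun e he =>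
      congrArg Subtype.val (mul_comm' (⟨e, hB₀ he⟩ : A) ⟨a, ha⟩))

theorem comK_le {B₀ : Subgroup G} (hB₀ : B₀ ≤ A) (hAY : A ≤ Subgroup.normalizer (Y : Set G)) :
    comK A Y B₀ ≤ Y ⊓ Subgroup.centralizer (B₀ : Set G) :=
  commutator_le_left_of_le_normalizer (le_normalizer_fixed hB₀ hAY)

omit [Finite G] [IsMulCommutative A] in
theorem fixed_le_normalizer_comK {B₀ : Subgroup G} (_hB₀ : B₀ ≤ A)
    (_hAY : A ≤ Subgroup.normalizer (Y : Set G)) :
    Y ⊓ Subgroup.centralizer (B₀ : Set G) ≤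
      Subgroup.normalizer ((comK A Y B₀ : Subgroup G) : Set G) := by
  intro c hc
  have key : ∀ g ∈ Y ⊓ Subgroup.centralizer (B₀ : Set G), ∀ x ∈ comK A Y B₀,
      g * x * g⁻¹ ∈ comK A Y B₀ := by
    intro g hg
    suffices h : comK A Y B₀ ≤ (comK A Y B₀).comap (MulAut.conj g).toMonoidHom from
      fun x hx => h hx
    refine Subgroup.commutator_le.mpr fun d hd a ha => ?_
    show g * ⁅d, a⁆ * g⁻¹ ∈ comK A Y B₀
    rw [show g * ⁅d, a⁆ * g⁻¹ = ⁅g * d, a⁆ * ⁅g, a⁆⁻¹ by
      simp only [commutatorElement_def]; group]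
    exact mul_mem (Subgroup.commutator_mem_commutator (mul_mem hg hd) ha)
      (inv_mem (Subgroup.commutator_mem_commutator hg ha))
  refine Subgroup.mem_normalizer_iff.mpr fun x => ⟨key c hc x, fun hx => ?_⟩
  simpa [mul_assoc] using key c⁻¹ (inv_mem hc) _ hx

theorem le_normalizer_comK {B₀ : Subgroup G} (hB₀ : B₀ ≤ A)
    (hAY : A ≤ Subgroup.normalizer (Y : Set G)) :
    A ≤ Subgroup.normalizer ((comK A Y B₀ : Subgroup G) : Set G) :=
  le_normalizer_commutator (le_normalizer_fixed hB₀ hAY) Subgroup.le_normalizer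

omit [Finite G] in
theorem le_normalizer_iSup {ι : Sort*} {H : Subgroup G} (f : ι → Subgroup G)
    (h : ∀ i, H ≤ Subgroup.normalizer (f i : Set G)) :
    H ≤ Subgroup.normalizer ((⨆ i, f i : Subgroup G) : Set G) := by
  intro g hg
  rw [mem_normalizer_iff_conj_smul, conj_smul_eq_map, Subgroup.map_iSup]
  exact iSup_congr fun i => mem_normalizer_iff_conj_smul.mp (h i hg)

/-- `Y = [Y, A]` is generated by the `[C_Y(B₀), A]`, and every term of the derived series is
generated by its intersections with them and the next term. -/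
theorem le_iSup_comK (hB : B ≤ A) (hcop : (Nat.card A).Coprime (Nat.card Y))
    (hAY : A ≤ Subgroup.normalizer (Y : Set G)) (hYA : ⁅Y, A⁆ = Y) :
    Y ≤ ⨆ B₀ : {B₀ : Subgroup G // B₀ ≤ B ∧
      ∀ [(B₀.subgroupOf B).Normal], IsCyclic (↥B ⧸ B₀.subgroupOf B)}, comK A Y B₀.1 := by
  set N := ⨆ B₀ : {B₀ : Subgroup G // B₀ ≤ B ∧
      ∀ [(B₀.subgroupOf B).Normal], IsCyclic (↥B ⧸ B₀.subgroupOf B)}, comK A Y B₀.1 with hN
  set C := Y ⊓ Subgroup.centralizer (A : Set G)
  haveI : IsMulCommutative B := ⟨⟨fun a b => Subtype.ext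
    (show (a : G) * b = b * a from
      (congrArg Subtype.val (mul_comm' (⟨a, hB a.2⟩ : A) ⟨b, hB b.2⟩) :))⟩⟩
  have hsol : Group.IsSolvable A := isSolvable_of_isMulCommutative A
  have hAN : A ≤ Subgroup.normalizer (N : Set G) :=
    le_normalizer_iSup _ fun B₀ => le_normalizer_comK (B₀.2.1.trans hB) hAY
  have hCN : C ≤ Subgroup.normalizer (N : Set G) :=
    le_normalizer_iSup _ fun B₀ => (inf_le_inf_left _ (Subgroup.centralizer_le
      (B₀.2.1.trans hB))).trans (fixed_le_normalizer_comK (B₀.2.1.trans hB) hAY)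
  have hgen : Y ≤ N ⊔ C := by
    refine le_of_cyclic_quotient (B := B) (hB.trans hAY)
      (hcop.coprime_dvd_left (Subgroup.card_dvd_of_le hB)) fun B₀ hB₀ hc => ?_
    refine (commutator_sup_centralizer (le_normalizer_fixed (hB₀.trans hB) hAY)
      (hcop.coprime_dvd_right (Subgroup.card_dvd_of_le inf_le_left)) (Or.inl hsol)).symm.le.trans
      (sup_le (le_trans ?_ le_sup_left) (le_trans (inf_le_inf_right _ inf_le_left) le_sup_right))
    exact le_iSup (fun B₀ : {B₀ : Subgroup G // B₀ ≤ B ∧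
      ∀ [(B₀.subgroupOf B).Normal], IsCyclic (↥B ⧸ B₀.subgroupOf B)} => comK A Y B₀.1)
      ⟨B₀, hB₀, hc⟩
  refine hYA.symm.le.trans (Subgroup.commutator_le.mpr fun y hy a ha => ?_)
  have hy' := hgen hy
  rw [← SetLike.mem_coe, Subgroup.coe_mul_of_right_le_normalizer_left N C hCN, Set.mem_mul] at hy'
  obtain ⟨n, hn, c, hc, rfl⟩ := hy'
  have hca : a * c = c * a := hc.2 a ha
  rw [show ⁅n * c, a⁆ = n * ((c * a * c⁻¹ * a⁻¹)) * a * n⁻¹ * a⁻¹ by
    simp only [commutatorElement_def]; group]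
  rw [← hca, show a * c * c⁻¹ * a⁻¹ = 1 by group, mul_one,
    show n * a * n⁻¹ * a⁻¹ = n * (a * n⁻¹ * a⁻¹) by group]
  exact mul_mem hn (conj_mem (hAN ha) (inv_mem hn))

variable {ι : Type*} (β : ι → Subgroup G)

/-- The inductive step along the derived series. -/
theorem step (hβ : ∀ i, β i ≤ A) (hcop : (Nat.card A).Coprime (Nat.card Y))
    (hAY : A ≤ Subgroup.normalizer (Y : Set G)) (hY : Y ≤ ⨆ i, comK A Y (β i))
    (hgen : ∀ K Z : Subgroup G, K ≤ Y → A ≤ Subgroup.normalizer (K : Set G) →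
      (∀ i, K ⊓ Subgroup.centralizer (β i : Set G) ≤ Z) → K ≤ Z)
    {U : Subgroup G} (hUY : U ≤ Y) (hAU : A ≤ Subgroup.normalizer (U : Set G))
    (hYU : Y ≤ Subgroup.normalizer (U : Set G))
    (hU : U ≤ (⨆ i, U ⊓ comK A Y (β i)) ⊔ ⁅U, U⁆) :
    ⁅U, U⁆ ≤ (⨆ i, ⁅U, U⁆ ⊓ comK A Y (β i)) ⊔ ⁅⁅U, U⁆, ⁅U, U⁆⁆ := by
  have hsol : Group.IsSolvable A := isSolvable_of_isMulCommutative A
  set W := ⁅U, U⁆ with hW
  set S := (⨆ i, W ⊓ comK A Y (β i)) ⊔ ⁅W, W⁆ with hS
  have hWU : W ≤ U := commutator_le_left_of_le_normalizer Subgroup.le_normalizer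
  have hWY : W ≤ Y := hWU.trans hUY
  have hYW : Y ≤ Subgroup.normalizer (W : Set G) := le_normalizer_commutator hYU hYU
  have hAW : A ≤ Subgroup.normalizer (W : Set G) := le_normalizer_commutator hAU hAU
  have hSW : S ≤ W := sup_le (iSup_le fun _ => inf_le_left)
    (commutator_le_left_of_le_normalizer Subgroup.le_normalizer)
  have hWS : ∀ u ∈ W, ∀ w ∈ W, ⁅u, w⁆ ∈ S := fun u hu w hw =>
    Subgroup.mem_sup_right (Subgroup.commutator_mem_commutator hu hw)
  have hWnS : W ≤ Subgroup.normalizer (S : Set G) := by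
    intro w hw
    have key : ∀ g ∈ W, ∀ s ∈ S, g * s * g⁻¹ ∈ S := fun g hg s hs => by
      have h1 := mul_mem (hWS g hg s (hSW hs)) hs
      rw [commutatorElement_def] at h1
      simpa using h1
    refine Subgroup.mem_normalizer_iff.mpr fun x => ⟨key w hw x, fun hx => ?_⟩
    simpa [mul_assoc] using key w⁻¹ (inv_mem hw) _ hx
  have hAS : A ≤ Subgroup.normalizer (S : Set G) :=
    le_normalizer_sup_of_le
      (le_normalizer_iSup _ fun i => le_normalizer_inf_of_le hAW (le_normalizer_comK (hβ i) hAY))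
      (le_normalizer_commutator hAW hAW)
  -- `A` is trivial on `W / S`
  have hgenW : W ≤ S ⊔ (W ⊓ Subgroup.centralizer (A : Set G)) := by
    refine hgen W _ hWY hAW fun i => ?_
    have hn : A ≤ Subgroup.normalizer
        ((W ⊓ Subgroup.centralizer (β i : Set G) : Subgroup G) : Set G) :=
      le_normalizer_fixed (hβ i) hAW
    refine (commutator_sup_centralizer hn (hcop.coprime_dvd_right
      (Subgroup.card_dvd_of_le (inf_le_left.trans hWY))) (Or.inl hsol)).symm.le.trans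
      (sup_le ?_ (le_trans (inf_le_inf_right _ inf_le_left) le_sup_right))
    refine le_trans (le_inf ((commutator_le_left_of_le_normalizer hn).trans inf_le_left) ?_)
      (le_trans (le_iSup (fun i => W ⊓ comK A Y (β i)) i)
        (le_sup_left.trans le_sup_left))
    exact Subgroup.commutator_mono (inf_le_inf_right _ hWY) le_rfl
  have hAWS : ∀ a ∈ A, ∀ w ∈ W, ⁅a, w⁆ ∈ S := by
    intro a ha w hw
    have hw' := hgenW hw
    rw [← SetLike.mem_coe, Subgroup.coe_mul_of_right_le_normalizer_left S _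
      (inf_le_left.trans hWnS), Set.mem_mul] at hw'
    obtain ⟨s, hs, c, hc, rfl⟩ := hw'
    have hca : a * c = c * a := hc.2 a ha
    rw [show ⁅a, s * c⁆ = a * s * (c * a⁻¹) * c⁻¹ * s⁻¹ by
      simp only [commutatorElement_def]; group,
      show c * a⁻¹ = a⁻¹ * c by
        rw [eq_inv_mul_iff_mul_eq, ← mul_assoc, hca, mul_inv_cancel_right],
      show a * s * (a⁻¹ * c) * c⁻¹ * s⁻¹ = a * s * a⁻¹ * s⁻¹ by group]
    exact mul_mem (conj_mem (hAS ha) hs) (inv_mem hs)
  have hKW : ∀ i, W ⊓ comK A Y (β i) ≤ S := fun i =>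
    le_trans (le_iSup (fun i => W ⊓ comK A Y (β i)) i) le_sup_left
  have hcopU : ∀ (i : ι) (V : Subgroup G), V ≤ Y →
      (Nat.card (β i)).Coprime (Nat.card V) := fun i V hV =>
    (hcop.coprime_dvd_left (Subgroup.card_dvd_of_le (hβ i))).coprime_dvd_right
      (Subgroup.card_dvd_of_le hV)
  have hsolβ : ∀ i, Group.IsSolvable (β i) := fun i => isSolvable_of_le (hβ i) hsol
  -- `Y` is trivial on `W / S`
  have hK1 : ∀ i, ∀ k ∈ comK A Y (β i), ∀ w ∈ W, ⁅w, k⁆ ∈ S := by
    intro i k hk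
    have hk' := comK_le (hβ i) hAY hk
    refine commutator_mem ((hβ i).trans hAW) (hcopU i W hWY) (hsolβ i) hSW hWS
      (fun b hb => hAWS b (hβ i hb)) (fun w hw => ?_) (fun b hb => hk'.2 b hb) (hKW i) hk
      ((inf_le_inf_right _ hWY).trans (fixed_le_normalizer_comK (hβ i) hAY))
    rw [commutatorElement_def, show w * k * w⁻¹ * k⁻¹ = w * (k * w⁻¹ * k⁻¹) by group]
    exact mul_mem hw (conj_mem (hYW hk'.1) (inv_mem hw))
  let T : Subgroup G :=
    { carrier := {y | y ∈ Y ∧ ∀ w ∈ W, ⁅w, y⁆ ∈ S}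
      one_mem' := ⟨one_mem _, fun w _ => by rw [commutatorElement_one_right]; exact one_mem _⟩
      mul_mem' := fun {x y} hx hy => ⟨mul_mem hx.1 hy.1, fun w hw => by
        have hxy : x⁻¹ * w * x ∈ W := conj_inv_mem (hYW hx.1) hw
        have h1 := hy.2 _ hxy
        have hs : ∀ s ∈ S, x * s * x⁻¹ ∈ S := fun s hs => by
          have h2 := mul_mem (inv_mem (hx.2 s (hSW hs))) hs
          rw [commutatorElement_def] at h2
          simpa [mul_assoc] using h2
        have h3 := mul_mem (hx.2 w hw) (hs _ h1)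
        have h4 : ⁅w, x * y⁆ = ⁅w, x⁆ * (x * ⁅w, y⁆ * x⁻¹) := by
          simp only [commutatorElement_def]; group
        rw [h4]
        exact mul_mem (hx.2 w hw) (hs _ (hy.2 w hw))⟩
      inv_mem' := fun {x} hx => ⟨inv_mem hx.1, fun w hw => by
        have h1 := hx.2 _ (conj_mem (hYW (inv_mem hx.1)) hw)
        have h2 := inv_mem h1
        convert h2 using 1
        simp only [commutatorElement_def]; group⟩ }
  have hYT : Y ≤ T := hY.trans (iSup_le fun i => fun k hk =>
      (⟨(comK_le (hβ i) hAY hk).1, hK1 i k hk⟩ : k ∈ T))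
  have hYS : ∀ y ∈ Y, ∀ w ∈ W, ⁅w, y⁆ ∈ S := fun y hy => (hYT hy).2
  have hYS' : ∀ y ∈ Y, ∀ w ∈ W, ⁅y, w⁆ ∈ S := fun y hy w hw => by
    rw [← commutatorElement_inv]; exact inv_mem (hYS y hy w hw)
  -- the commutator map `U × U → W / S`
  have hK2 : ∀ i, ∀ v ∈ U ⊓ comK A Y (β i), ∀ u ∈ U, ⁅u, v⁆ ∈ S := by
    intro i v hv
    exact commutator_mem ((hβ i).trans hAU) (hcopU i U hUY) (hsolβ i) hSW
      (fun u hu => hYS' u (hUY hu)) (fun b hb => hAWS b (hβ i hb))
      (fun u hu => Subgroup.commutator_mem_commutator hu hv.1)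
      (fun b hb => (comK_le (hβ i) hAY hv.2).2 b hb) (hKW i) hv.2
      ((inf_le_inf_right _ hUY).trans (fixed_le_normalizer_comK (hβ i) hAY))
  have hYconj : ∀ y ∈ Y, ∀ s ∈ S, y * s * y⁻¹ ∈ S := fun y hy s hs => by
    have h2 := mul_mem (hYS' y hy s (hSW hs)) hs
    rw [commutatorElement_def] at h2
    simpa using h2
  let T' : Subgroup G :=
    { carrier := {v | v ∈ U ∧ ∀ u ∈ U, ⁅u, v⁆ ∈ S}
      one_mem' := ⟨one_mem _, fun w _ => by rw [commutatorElement_one_right]; exact one_mem _⟩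
      mul_mem' := fun {x y} hx hy => ⟨mul_mem hx.1 hy.1, fun w hw => by
        have h4 : ⁅w, x * y⁆ = ⁅w, x⁆ * (x * ⁅w, y⁆ * x⁻¹) := by
          simp only [commutatorElement_def]; group
        rw [h4]
        exact mul_mem (hx.2 w hw) (hYconj x (hUY hx.1) _ (hy.2 w hw))⟩
      inv_mem' := fun {x} hx => ⟨inv_mem hx.1, fun w hw => by
        have h2 := hYconj x⁻¹ (hUY (inv_mem hx.1)) _ (inv_mem (hx.2 w hw))
        convert h2 using 1
        simp only [commutatorElement_def]; group⟩ }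
  have hUT : U ≤ T' := hU.trans (sup_le (iSup_le fun i => fun v hv => ⟨hv.1, hK2 i v hv⟩)
    (fun w hw => ⟨hWU hw, fun u hu => hYS' u (hUY hu) w hw⟩))
  exact Subgroup.commutator_le.mpr fun u hu v hv => (hUT hv).2 u hu

/-- Lifting fixed points through a product `H L` with `H` normalized by `L`. -/
theorem fixed_sup_le {H L : Subgroup G} (hLH : L ≤ Subgroup.normalizer (H : Set G))
    (hBH : B ≤ Subgroup.normalizer (H : Set G)) (hBL : B ≤ Subgroup.normalizer (L : Set G))
    (hcop : (Nat.card B).Coprime (Nat.card L)) (hsol : Group.IsSolvable B) :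
    (H ⊔ L) ⊓ Subgroup.centralizer (B : Set G) ≤
      (H ⊓ Subgroup.centralizer (B : Set G)) ⊔ (L ⊓ Subgroup.centralizer (B : Set G)) := by
  rintro x ⟨hx', hxB⟩
  have hx : x ∈ ((H ⊔ L : Subgroup G) : Set G) := hx'
  rw [Subgroup.coe_mul_of_right_le_normalizer_left H L hLH, Set.mem_mul] at hx
  obtain ⟨h, hh, l, hl, rfl⟩ := hx
  replace hh : h ∈ H := hh
  replace hl : l ∈ L := hl
  replace hxB : h * l ∈ Subgroup.centralizer (B : Set G) := hxB
  obtain ⟨c, hc, hcl⟩ := exists_centralizer_mem_coset hBL hcop (Or.inl hsol)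
    (N := L ⊓ H) inf_le_left (le_normalizer_inf_of_le hBL hBH) hl (fun b hb => by
      have h1 : b * (h * l) * b⁻¹ = h * l := by rw [hxB b hb]; group
      refine Subgroup.mem_inf.mpr ⟨mul_mem (inv_mem hl) (conj_mem (hBL hb) hl), ?_⟩
      have h2 : h⁻¹ * (b * h * b⁻¹) ∈ H := mul_mem (inv_mem hh) (conj_mem (hBH hb) hh)
      have h3 := conj_inv_mem (hLH hl) (inv_mem h2)
      convert h3 using 1
      have h4 : b * l * b⁻¹ = (b * h * b⁻¹)⁻¹ * (h * l) := by
        calc b * l * b⁻¹ = (b * h * b⁻¹)⁻¹ * (b * (h * l) * b⁻¹) := by group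
          _ = _ := by rw [h1]
      rw [h4]; group)
  replace hcl : l⁻¹ * c ∈ L ⊓ H := hcl
  have hcc : h * l * c⁻¹ ∈ H ⊓ Subgroup.centralizer (B : Set G) := by
    refine Subgroup.mem_inf.mpr ⟨?_, mul_mem hxB (inv_mem (Subgroup.mem_inf.mp hc).2)⟩
    have h1 := conj_mem (hLH hl) (inv_mem (Subgroup.mem_inf.mp hcl).2)
    have h2 := mul_mem hh h1
    convert h2 using 1
    group
  have h5 := mul_mem (Subgroup.mem_sup_left (T := L ⊓ Subgroup.centralizer (B : Set G)) hcc)
    (Subgroup.mem_sup_right (S := H ⊓ Subgroup.centralizer (B : Set G)) hc)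
  simpa using h5

/-- Main theorem. -/
theorem fixed_le_iSup (hB : B ≤ A) (hcop : (Nat.card A).Coprime (Nat.card Y))
    (hAY : A ≤ Subgroup.normalizer (Y : Set G)) (hYA : ⁅Y, A⁆ = Y) (hYs : Group.IsSolvable Y) :
    Y ⊓ Subgroup.centralizer (B : Set G) =
      ⨆ B₀ : {B₀ : Subgroup G // B₀ ≤ B ∧
        ∀ [(B₀.subgroupOf B).Normal], IsCyclic (↥B ⧸ B₀.subgroupOf B)},
        Y ⊓ Subgroup.centralizer (B : Set G) ⊓
          ⁅Y ⊓ Subgroup.centralizer ((B₀ : Subgroup G) : Set G), A⁆ := by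
  classical
  refine le_antisymm ?_ (iSup_le fun _ => inf_le_left)
  set J := {B₀ : Subgroup G // B₀ ≤ B ∧
        ∀ [(B₀.subgroupOf B).Normal], IsCyclic (↥B ⧸ B₀.subgroupOf B)}
  set D := ⨆ B₀ : J, Y ⊓ Subgroup.centralizer (B : Set G) ⊓
          ⁅Y ⊓ Subgroup.centralizer ((B₀ : Subgroup G) : Set G), A⁆ with hD
  haveI : IsMulCommutative B := ⟨⟨fun a b => Subtype.ext
    (show (a : G) * b = b * a from
      (congrArg Subtype.val (mul_comm' (⟨a, hB a.2⟩ : A) ⟨b, hB b.2⟩) :))⟩⟩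
  have hβ : ∀ i : J, i.1 ≤ A := fun i => i.2.1.trans hB
  have hgen : ∀ K Z : Subgroup G, K ≤ Y → A ≤ Subgroup.normalizer (K : Set G) →
      (∀ i : J, K ⊓ Subgroup.centralizer (i.1 : Set G) ≤ Z) → K ≤ Z := fun K Z hK hAK h =>
    le_of_cyclic_quotient (B := B) (hB.trans hAK)
      ((hcop.coprime_dvd_left (Subgroup.card_dvd_of_le hB)).coprime_dvd_right
        (Subgroup.card_dvd_of_le hK)) fun B₀ h₀ hc => h ⟨B₀, h₀, hc⟩
  have hY := le_iSup_comK hB hcop hAY hYA
  obtain ⟨U, hUdef⟩ : ∃ U : ℕ → Subgroup G, ∀ n, U n = (derivedSeries Y n).map Y.subtype :=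
    ⟨_, fun _ => rfl⟩
  have hU0 : U 0 = Y := by
    simp [hUdef, derivedSeries_zero, ← MonoidHom.range_eq_map]
  have hUs : ∀ n, U (n + 1) = ⁅U n, U n⁆ := fun n => by
    simp only [hUdef, derivedSeries_succ, Subgroup.map_commutator]
  have hprop : ∀ n, U n ≤ Y ∧ A ≤ Subgroup.normalizer (U n : Set G) ∧
      Y ≤ Subgroup.normalizer (U n : Set G) ∧
      U n ≤ (⨆ i : J, U n ⊓ comK A Y i.1) ⊔ ⁅U n, U n⁆ := by
    intro n
    induction n with
    | zero =>
      rw [hU0]
      refine ⟨le_rfl, hAY, Subgroup.le_normalizer, le_trans ?_ le_sup_left⟩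
      exact hY.trans (iSup_mono fun i =>
        le_inf ((comK_le (hβ i) hAY).trans inf_le_left) le_rfl)
    | succ n ih =>
      rw [hUs]
      exact ⟨(commutator_le_left_of_le_normalizer Subgroup.le_normalizer).trans ih.1,
        le_normalizer_commutator ih.2.1 ih.2.1, le_normalizer_commutator ih.2.2.1 ih.2.2.1,
        step (fun i : J => i.1) hβ hcop hAY hY hgen ih.1 ih.2.1 ih.2.2.1 ih.2.2.2⟩
  haveI := hYs
  obtain ⟨m, hm⟩ := Group.IsSolvable.solvable (G := Y)
  suffices h : ∀ j n, n + j = m → U n ⊓ Subgroup.centralizer (B : Set G) ≤ D by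
    simpa [hU0] using h m 0 (Nat.zero_add m)
  intro j
  induction j with
  | zero =>
    rintro n rfl
    simp only [Nat.add_zero] at hm
    simp [hUdef, hm]
  | succ j ih =>
    intro n hn
    obtain ⟨hnY, hnA, hnYn, hnU⟩ := hprop n
    have hnext : ⁅U n, U n⁆ ⊓ Subgroup.centralizer (B : Set G) ≤ D :=
      hUs n ▸ ih (n + 1) (by omega)
    have hsolB : Group.IsSolvable B := isSolvable_of_isMulCommutative B
    have key : ∀ s : Finset J, ((s.sup fun i => U n ⊓ comK A Y i.1) ⊔ ⁅U n, U n⁆) ⊓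
        Subgroup.centralizer (B : Set G) ≤ D := by
      intro s
      induction s using Finset.induction with
      | empty => simpa using hnext
      | insert i s hi ihs =>
        set H := (s.sup fun i => U n ⊓ comK A Y i.1) ⊔ ⁅U n, U n⁆ with hH
        set L := U n ⊓ comK A Y i.1 with hL
        have hHU : H ≤ U n := sup_le (Finset.sup_le fun _ _ => inf_le_left)
          (commutator_le_left_of_le_normalizer Subgroup.le_normalizer)
        have hUH : U n ≤ Subgroup.normalizer (H : Set G) := by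
          intro u hu
          have key : ∀ g ∈ U n, ∀ x ∈ H, g * x * g⁻¹ ∈ H := fun g hg x hx => by
            have h1 : ⁅g, x⁆ ∈ H := Subgroup.mem_sup_right
              (Subgroup.commutator_mem_commutator hg (hHU hx))
            have h2 := mul_mem h1 hx
            rw [commutatorElement_def] at h2
            simpa using h2
          refine Subgroup.mem_normalizer_iff.mpr fun x => ⟨key u hu x, fun hx => ?_⟩
          simpa [mul_assoc] using key u⁻¹ (inv_mem hu) _ hx
        have hAH : A ≤ Subgroup.normalizer (H : Set G) := by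
          refine le_normalizer_sup_of_le ?_ (le_normalizer_commutator hnA hnA)
          rw [Finset.sup_eq_iSup]
          exact le_normalizer_iSup _ fun i => le_normalizer_iSup _ fun _ =>
            le_normalizer_inf_of_le hnA (le_normalizer_comK (hβ i) hAY)
        have hAL : A ≤ Subgroup.normalizer (L : Set G) :=
          le_normalizer_inf_of_le hnA (le_normalizer_comK (hβ i) hAY)
        rw [Finset.sup_insert, sup_assoc, ← hH, sup_comm]
        refine (fixed_sup_le (inf_le_left.trans hUH) (hB.trans hAH) (hB.trans hAL)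
          ((hcop.coprime_dvd_left (Subgroup.card_dvd_of_le hB)).coprime_dvd_right
            (Subgroup.card_dvd_of_le (inf_le_left.trans hnY))) hsolB).trans
          (sup_le ihs (le_trans ?_ (le_iSup _ i)))
        exact le_inf (inf_le_inf_right _ (inf_le_left.trans hnY)) (inf_le_left.trans inf_le_right)
    haveI : Finite J := Subtype.finite
    haveI := Fintype.ofFinite J
    refine le_trans (inf_le_inf_right _ (hnU.trans (sup_le_sup_right ?_ _))) (key Finset.univ)
    refine iSup_le fun i => ?_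
    have h1 : i ∈ (Finset.univ : Finset J) := Finset.mem_univ i
    exact Finset.le_sup (f := fun i : J => U n ⊓ comK A Y i.1) h1

end CfsgLib.Coprime.CommutatorFixed
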