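import Mathlib
import Cfsg.Agent.Lib.Coprime.Action
import Cfsg.Agent.Lib.SmallClass.Power
import Cfsg.Agent.Lib.Transfer.SmallElements
import Cfsg.Agent.Lib.Critical.Basic

/-!
Let `b` have order dividing the odd prime `p`, normalize a `p`-group `R` and a `p'`-group `A` acting
on `R`, and act fixed point freely on `A`. If the elements of order `p` of `R` fixed by `b` lie in
one subgroup of order `p` centralized by `A`, then `A` centralizes `R`.
-/

set_option autoImplicit false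
set_option linter.style.haveILetI false

open scoped commutatorElement

namespace CfsgLib.Coprime.FpfFixedLine

variable {G : Type*} [Group G] [Finite G]

theorem mem_normalizer_of {K : Subgroup G} {g : G} (h : ∀ x ∈ K, g * x * g⁻¹ ∈ K) :
    g ∈ Subgroup.normalizer (K : Set G) := by
  have hle : K.map (MulAut.conj g).toMonoidHom ≤ K := by
    rintro _ ⟨x, hx, rfl⟩; exact h x hx
  have heq := Subgroup.eq_of_le_of_card_ge hle
    (Subgroup.card_map_of_injective (MulAut.conj g).injective).ge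
  refine Subgroup.mem_normalizer_iff.mpr fun x => ⟨h x, fun hx => ?_⟩
  rw [← heq] at hx
  obtain ⟨y, hy, hye⟩ := hx
  rwa [← (MulAut.conj g).injective hye]

theorem conj_mem {K : Subgroup G} {g x : G} (hg : g ∈ Subgroup.normalizer (K : Set G)) (hx : x ∈ K) :
    g * x * g⁻¹ ∈ K :=
  (Subgroup.mem_normalizer_iff.mp hg x).mp hx

theorem normalizes_commutator {H K : Subgroup G} {g : G} (hH : g ∈ Subgroup.normalizer (H : Set G))
    (hK : g ∈ Subgroup.normalizer (K : Set G)) : g ∈ Subgroup.normalizer ((⁅H, K⁆ : Subgroup G) : Set G) := by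
  refine mem_normalizer_of fun x hx => ?_
  have hle : ⁅H, K⁆ ≤ (⁅H, K⁆).comap (MulAut.conj g).toMonoidHom := by
    refine Subgroup.commutator_le.mpr fun a ha c hc => ?_
    show g * ⁅a, c⁆ * g⁻¹ ∈ ⁅H, K⁆
    rw [show g * ⁅a, c⁆ * g⁻¹ = ⁅g * a * g⁻¹, g * c * g⁻¹⁆ by simp only [commutatorElement_def]; group]
    exact Subgroup.commutator_mem_commutator (conj_mem hH ha) (conj_mem hK hc)
  exact hle hx

theorem normalizes_inf_centralizer {U A : Subgroup G} {g : G} (hU : g ∈ Subgroup.normalizer (U : Set G))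
    (hA : g ∈ Subgroup.normalizer (A : Set G)) :
    g ∈ Subgroup.normalizer ((U ⊓ Subgroup.centralizer (A : Set G) : Subgroup G) : Set G) := by
  refine mem_normalizer_of fun x hx => ⟨conj_mem hU hx.1, Subgroup.mem_centralizer_iff.mpr fun a ha => ?_⟩
  have hga : g⁻¹ * a * g ∈ A := by
    simpa using conj_mem (Subgroup.inv_mem _ hA) ha
  have := Subgroup.mem_centralizer_iff.mp hx.2 _ hga
  calc a * (g * x * g⁻¹) = g * ((g⁻¹ * a * g) * x) * g⁻¹ := by group
    _ = g * (x * (g⁻¹ * a * g)) * g⁻¹ := by rw [this]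
    _ = g * x * g⁻¹ * a := by group

theorem pow_coprime_eq_one {H : Type*} [Group H] {z : H} {m p : ℕ} [Fact p.Prime] (hm : m.Coprime p)
    (hzm : z ^ m = 1) (hzp : z ^ p = 1) : z = 1 :=
  orderOf_eq_one_iff.mp (Nat.eq_one_of_dvd_coprimes hm (orderOf_dvd_of_pow_eq_one hzm)
    (orderOf_dvd_of_pow_eq_one hzp))

variable {p : ℕ} [hp : Fact p.Prime]

/-- The core: no minimal `U`. -/
theorem no_minimal (hp2 : p ≠ 2) {A U : Subgroup G} {b b₁ : G} (hA : (Nat.card A).Coprime p)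
    (hUp : IsPGroup p U) (hAU : A ≤ Subgroup.normalizer (U : Set G)) (hbU : b ∈ Subgroup.normalizer (U : Set G))
    (hbA : b ∈ Subgroup.normalizer (A : Set G)) (hb : b ^ p = 1)
    (hfpf : ∀ a ∈ A, b * a = a * b → a = 1) (hb1 : b₁ ^ p = 1) (hb1A : ∀ a ∈ A, a * b₁ = b₁ * a)
    (hfix : ∀ y ∈ U, y ^ p = 1 → b * y = y * b → y ∈ Subgroup.zpowers b₁)
    (hmin : ∀ K : Subgroup G, K < U → A ≤ Subgroup.normalizer (K : Set G) →
      b ∈ Subgroup.normalizer (K : Set G) → A ≤ Subgroup.centralizer (K : Set G)) :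
    A ≤ Subgroup.centralizer (U : Set G) := by
  by_contra hne
  have hcop : (Nat.card A).Coprime (Nat.card U) := by
    obtain ⟨k, hk⟩ := IsPGroup.iff_card.mp hUp
    rw [hk]; exact hA.pow_right k
  have hA1 : A ≠ ⊥ := fun e => hne (e ▸ bot_le)
  have hb_ne : b ≠ 1 := by
    intro e
    obtain ⟨a, ha⟩ := Subgroup.ne_bot_iff_exists_ne_one.mp hA1
    exact ha (Subtype.ext (hfpf a a.2 (by rw [e, one_mul, mul_one])))
  have hob : orderOf b = p := orderOf_eq_prime hb hb_ne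
  have hU1 : U ≠ ⊥ := by
    rintro rfl
    exact hne fun a _ => Subgroup.mem_centralizer_iff.mpr fun x hx => by
      rw [Subgroup.mem_bot.mp hx, one_mul, mul_one]
  have hfixA : ∀ y ∈ U, y ^ p = 1 → b * y = y * b → ∀ a ∈ A, a * y = y * a := by
    intro y hy hyp hby a ha
    obtain ⟨i, rfl⟩ := Subgroup.mem_zpowers_iff.mp (hfix y hy hyp hby)
    exact ((show Commute a b₁ from hb1A a ha).zpow_right i).eq
  -- `U = [U, A]`
  have hK1le : ⁅U, A⁆ ≤ U := Subgroup.commutator_le.mpr fun u hu a ha => by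
    rw [show ⁅u, a⁆ = u * (a * u⁻¹ * a⁻¹) by simp only [commutatorElement_def]; group]
    exact U.mul_mem hu (conj_mem (hAU ha) (U.inv_mem hu))
  have hUA : ⁅U, A⁆ = U := by
    by_contra h
    have h1 := hmin _ (lt_of_le_of_ne hK1le h) (fun a ha => normalizes_commutator (hAU ha) (Subgroup.le_normalizer ha))
      (normalizes_commutator hbU hbA)
    have h2 : ⁅⁅U, A⁆, A⁆ = ⊥ :=
      Subgroup.commutator_eq_bot_iff_le_centralizer.mpr fun x hx => Subgroup.mem_centralizer_iff.mpr fun a ha =>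
        ((Subgroup.mem_centralizer_iff.mp (h1 ha)) x hx).symm
    have h3 := CfsgLib.Coprime.commutator_eq_bot_of_commutator_commutator hAU hcop h2
    refine hne fun a ha => Subgroup.mem_centralizer_iff.mpr fun u hu => ?_
    exact (Subgroup.mem_centralizer_iff.mp ((Subgroup.commutator_eq_bot_iff_le_centralizer.mp h3) hu) a ha).symm
  -- class two
  have hDle : ⁅U, U⁆ ≤ U := Subgroup.commutator_le.mpr fun u hu v hv => by
    rw [commutatorElement_def]
    exact U.mul_mem (U.mul_mem (U.mul_mem hu hv) (U.inv_mem hu)) (U.inv_mem hv)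
  have hDne : ⁅U, U⁆ ≠ U := by
    intro e
    haveI : Group.IsNilpotent U := hUp.isNilpotent
    haveI : Nontrivial U := (Subgroup.nontrivial_iff_ne_bot U).mpr hU1
    have h := IsSolvable.commutator_lt_top_of_nontrivial U
    refine h.ne (Subgroup.map_injective U.subtype_injective ?_)
    rw [commutator_def, Subgroup.map_commutator, ← MonoidHom.range_eq_map, Subgroup.range_subtype, e]
  have hAD : A ≤ Subgroup.centralizer ((⁅U, U⁆ : Subgroup G) : Set G) :=
    hmin _ (lt_of_le_of_ne hDle hDne) (fun a ha => normalizes_commutator (hAU ha) (hAU ha))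
      (normalizes_commutator hbU hbU)
  set Z0 := U ⊓ Subgroup.centralizer (A : Set G) with hZ0
  have hcentral : ∀ K : Subgroup G, K ≤ U → A ≤ Subgroup.centralizer (K : Set G) →
      ∀ u ∈ U, ∀ z ∈ K, u * z = z * u := by
    intro K hK hAK u hu z hz
    have e1 : ⁅⁅A, K⁆, U⁆ = ⊥ := by
      rw [Subgroup.commutator_eq_bot_iff_le_centralizer.mpr hAK, Subgroup.commutator_bot_left]
    have e2 : ⁅⁅K, U⁆, A⁆ = ⊥ :=
      Subgroup.commutator_eq_bot_iff_le_centralizer.mpr ((Subgroup.commutator_mono hK le_rfl).trans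
        fun x hx => Subgroup.mem_centralizer_iff.mpr fun a ha =>
          ((Subgroup.mem_centralizer_iff.mp (hAD ha)) x hx).symm)
    have e3 := Subgroup.commutator_commutator_eq_bot_of_rotate e1 e2
    rw [hUA] at e3
    exact (Subgroup.mem_centralizer_iff.mp (Subgroup.commutator_eq_bot_iff_le_centralizer.mp e3 hu) z hz).symm
  have hDc : ∀ u ∈ U, ∀ z ∈ ⁅U, U⁆, u * z = z * u := hcentral _ hDle hAD
  have hAZ0 : A ≤ Subgroup.centralizer (Z0 : Set G) := fun a ha => Subgroup.mem_centralizer_iff.mpr fun z hz =>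
    ((Subgroup.mem_centralizer_iff.mp hz.2) a ha).symm
  have hZ0c : ∀ u ∈ U, ∀ z ∈ Z0, u * z = z * u := hcentral _ inf_le_left hAZ0
  have hDZ0 : ⁅U, U⁆ ≤ Z0 := le_inf hDle fun x hx => Subgroup.mem_centralizer_iff.mpr fun a ha =>
    ((Subgroup.mem_centralizer_iff.mp (hAD ha)) x hx).symm
  -- exponent `p`
  have hcl2 : ⁅commutator U, (⊤ : Subgroup U)⁆ = ⊥ := by
    rw [Subgroup.commutator_eq_bot_iff_le_centralizer]
    intro x hx
    have hx' : (x : G) ∈ ⁅U, U⁆ := by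
      have h2 : (x : G) ∈ (commutator U).map U.subtype := ⟨x, hx, rfl⟩
      rwa [commutator_def, Subgroup.map_commutator, ← MonoidHom.range_eq_map, Subgroup.range_subtype] at h2
    exact Subgroup.mem_centralizer_iff.mpr fun u _ => Subtype.ext (hDc u u.2 _ hx')
  let Ω : Subgroup G :=
    { carrier := {x | x ∈ U ∧ x ^ p = 1}
      one_mem' := ⟨U.one_mem, one_pow p⟩
      mul_mem' := fun {x y} hx hy => ⟨U.mul_mem hx.1 hy.1, congrArg Subtype.val
        (CfsgLib.SmallClass.mul_pow_eq_one_two hp.out hp2 hcl2 (x := ⟨x, hx.1⟩) (y := ⟨y, hy.1⟩)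
          (Subtype.ext hx.2) (Subtype.ext hy.2))⟩
      inv_mem' := fun {x} hx => ⟨U.inv_mem hx.1, by rw [inv_pow, hx.2, inv_one]⟩ }
  have hexp : ∀ x ∈ U, x ^ p = 1 := by
    have hΩU : Ω ≤ U := fun x hx => hx.1
    have hΩn : ∀ g, g ∈ Subgroup.normalizer (U : Set G) → g ∈ Subgroup.normalizer (Ω : Set G) := fun g hg =>
      mem_normalizer_of fun x hx => ⟨conj_mem hg hx.1, by rw [conj_pow, hx.2, mul_one, mul_inv_cancel]⟩
    by_contra! hall
    obtain ⟨x, hx, hxp⟩ := hall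
    have hc := hmin Ω (lt_of_le_of_ne hΩU fun e => hxp ((e.ge hx : x ∈ Ω)).2)
      (fun a ha => hΩn a (hAU ha)) (hΩn b hbU)
    refine hne fun a ha => CfsgLib.Transfer.mem_centralizer_of_fixes_small hUp (hAU ha)
      (hA.coprime_dvd_left (Subgroup.orderOf_dvd_natCard A ha)) fun w hw hwp => ?_
    rcases hwp with h | ⟨h, -⟩
    · rw [← Subgroup.mem_centralizer_iff.mp (hc ha) w ⟨hw, h⟩, mul_inv_cancel_right]
    · exact absurd h hp2
  -- fixed points of `b` in invariant subgroups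
  have hfixed : ∀ K : Subgroup G, K ≤ U → K ≠ ⊥ → U ≤ Subgroup.normalizer (K : Set G) →
      b ∈ Subgroup.normalizer (K : Set G) → ∃ z ∈ K, z ≠ 1 ∧ b * z = z * b := by
    intro K hKU hK hUK hbK
    set H := U ⊔ Subgroup.zpowers b with hH
    have hHp : IsPGroup p H := IsPGroup.to_sup_of_normal_left' hUp
      (IsPGroup.of_card (n := 1) (by rw [Nat.card_zpowers, hob, pow_one])) (Subgroup.zpowers_le.mpr hbU)
    haveI : Group.IsNilpotent H := hHp.isNilpotent
    have hKH : K ≤ H := hKU.trans le_sup_left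
    have hHK : H ≤ Subgroup.normalizer (K : Set G) := sup_le hUK (Subgroup.zpowers_le.mpr hbK)
    haveI : (K.subgroupOf H).Normal := ⟨fun k hk h => show (h : G) * k * (h : G)⁻¹ ∈ K from conj_mem (hHK h.2) hk⟩
    obtain ⟨⟨z, hzK, hzc⟩, hz1⟩ := Subgroup.ne_bot_iff_exists_ne_one.mp
      (CfsgLib.Critical.inf_center_ne_bot (K.subgroupOf H) fun e => hK (by
        rw [← Subgroup.map_subgroupOf_eq_of_le hKH, e, Subgroup.map_bot]))
    exact ⟨z, hzK, fun e => hz1 (Subtype.ext (Subtype.ext e)),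
      congrArg Subtype.val (Subgroup.mem_center_iff.mp hzc ⟨b, Subgroup.mem_sup_right (Subgroup.mem_zpowers b)⟩)⟩
  obtain ⟨z1, hz1U, hz11, hz1b⟩ := hfixed U le_rfl hU1 Subgroup.le_normalizer hbU
  -- not abelian
  have hnab : ⁅U, U⁆ ≠ ⊥ := by
    intro e
    have hcomm : ∀ u ∈ U, ∀ v ∈ U, u * v = v * u := fun u hu v hv =>
      (Subgroup.mem_centralizer_iff.mp (Subgroup.commutator_eq_bot_iff_le_centralizer.mp e hu) v hv).symm
    letI : CommGroup U :=
      { (inferInstance : Group U) with mul_comm := fun u v => Subtype.ext (hcomm u u.2 v v.2) }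
    haveI := Fintype.ofFinite A
    let ψ : U →* U :=
      { toFun := fun u => ∏ a : A, (⟨(a : G) * u * (a : G)⁻¹, conj_mem (hAU a.2) u.2⟩ : U)
        map_one' := Finset.prod_eq_one fun a _ => Subtype.ext (by simp)
        map_mul' := fun u v => by
          rw [← Finset.prod_mul_distrib]
          refine Finset.prod_congr rfl fun a _ => Subtype.ext ?_
          show (a : G) * ((u : G) * v) * (a : G)⁻¹ = ((a : G) * u * (a : G)⁻¹) * ((a : G) * v * (a : G)⁻¹)
          group }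
    have hψ : ∀ u : U, ψ u = 1 := by
      intro u
      have hu : (u : G) ∈ ⁅U, A⁆ := by rw [hUA]; exact u.2
      have : ⁅U, A⁆ ≤ ψ.ker.map U.subtype := by
        refine Subgroup.commutator_le.mpr fun v hv c hc => ?_
        refine ⟨⟨v, hv⟩ * ⟨c * v⁻¹ * c⁻¹, conj_mem (hAU hc) (U.inv_mem hv)⟩, ?_, by
          show v * (c * v⁻¹ * c⁻¹) = ⁅v, c⁆
          simp only [commutatorElement_def]; group⟩
        rw [SetLike.mem_coe, MonoidHom.mem_ker, map_mul]
        have e2 : ψ ⟨c * v⁻¹ * c⁻¹, conj_mem (hAU hc) (U.inv_mem hv)⟩ = ψ (⟨v, hv⟩⁻¹) := by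
          refine Fintype.prod_equiv (Equiv.mulRight ⟨c, hc⟩) _ _ fun a => Subtype.ext ?_
          show (a : G) * (c * v⁻¹ * c⁻¹) * (a : G)⁻¹ = ((a : G) * c) * v⁻¹ * ((a : G) * c)⁻¹
          group
        rw [e2, map_inv, mul_inv_cancel]
      obtain ⟨w, hw, hwe⟩ := this hu
      rw [← show w = u from Subtype.ext hwe]
      exact hw
    have h := hψ ⟨z1, hz1U⟩
    have hall : ψ ⟨z1, hz1U⟩ = ⟨z1, hz1U⟩ ^ Fintype.card A := by
      show ∏ a : A, _ = _
      rw [← Finset.card_univ, ← Finset.prod_const]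
      refine Finset.prod_congr rfl fun a _ => Subtype.ext ?_
      show (a : G) * z1 * (a : G)⁻¹ = z1
      rw [hfixA z1 hz1U (hexp z1 hz1U) hz1b a a.2, mul_inv_cancel_right]
    rw [h, ← Nat.card_eq_fintype_card] at hall
    exact hz11 (pow_coprime_eq_one hA (congrArg Subtype.val hall.symm) (hexp z1 hz1U))
  -- `Z0` is the centre
  have hZ0U : Z0 ≠ U := fun e => hne fun a ha => (e ▸ hAZ0) ha
  have hcen : ∀ u ∈ U, (∀ v ∈ U, v * u = u * v) → u ∈ Z0 := by
    intro u hu hc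
    set Zc := U ⊓ Subgroup.centralizer (U : Set G) with hZc
    have hn : ∀ g, g ∈ Subgroup.normalizer (U : Set G) → g ∈ Subgroup.normalizer (Zc : Set G) :=
      fun g hg => normalizes_inf_centralizer hg hg
    have hlt : Zc < U := by
      refine lt_of_le_of_ne inf_le_left fun e => hnab ?_
      rw [Subgroup.commutator_eq_bot_iff_le_centralizer]
      intro x hx
      exact (e.ge hx).2
    have h1 := hmin Zc hlt (fun a ha => hn a (hAU ha)) (hn b hbU)
    exact ⟨hu, Subgroup.mem_centralizer_iff.mpr fun a ha =>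
      (Subgroup.mem_centralizer_iff.mp (h1 ha) u ⟨hu, Subgroup.mem_centralizer_iff.mpr hc⟩).symm⟩
  -- the quotient modulo `Z0`
  have hbZ0 : b ∈ Subgroup.normalizer (Z0 : Set G) := normalizes_inf_centralizer hbU hbA
  have hAZ0n : A ≤ Subgroup.normalizer (Z0 : Set G) := fun a ha =>
    normalizes_inf_centralizer (hAU ha) (Subgroup.le_normalizer ha)
  set N := Subgroup.normalizer (U : Set G) ⊓ Subgroup.normalizer (Z0 : Set G) with hN
  set Zs := Z0.subgroupOf U with hZs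
  haveI hZsn : Zs.Normal := ⟨fun z hz u => by
    show (u : G) * z * (u : G)⁻¹ ∈ Z0
    rw [hZ0c u u.2 z hz, mul_inv_cancel_right]; exact hz⟩
  letI : CommGroup (U ⧸ Zs) :=
    { (inferInstance : Group (U ⧸ Zs)) with
      mul_comm := fun x y => by
        induction x using QuotientGroup.induction_on with
        | H x =>
        induction y using QuotientGroup.induction_on with
        | H y =>
        rw [← QuotientGroup.mk_mul, ← QuotientGroup.mk_mul, QuotientGroup.eq]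
        show ((x : G) * y)⁻¹ * ((y : G) * x) ∈ Z0
        rw [show ((x : G) * y)⁻¹ * ((y : G) * x) = ⁅(y : G)⁻¹, (x : G)⁻¹⁆ by simp only [commutatorElement_def]; group]
        exact hDZ0 (Subgroup.commutator_mem_commutator (U.inv_mem y.2) (U.inv_mem x.2)) }
  let π : U →* U ⧸ Zs := QuotientGroup.mk' Zs
  let τ : ↥N → (U →* U ⧸ Zs) := fun g =>
    { toFun := fun u => π ⟨(g : G) * u * (g : G)⁻¹, conj_mem g.2.1 u.2⟩
      map_one' := by simp only [OneMemClass.coe_one, mul_one, mul_inv_cancel]; exact π.map_one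
      map_mul' := fun u v => by
        rw [← map_mul]
        refine congrArg π (Subtype.ext ?_)
        show (g : G) * ((u : G) * v) * (g : G)⁻¹ = ((g : G) * u * (g : G)⁻¹) * ((g : G) * v * (g : G)⁻¹)
        group }
  have hτker : ∀ (g : ↥N), Zs ≤ (τ g).ker := by
    intro g z hz
    show π _ = 1
    exact (QuotientGroup.eq_one_iff _).mpr (conj_mem g.2.2 hz)
  let τq : ↥N → (U ⧸ Zs →* U ⧸ Zs) := fun g => QuotientGroup.lift Zs (τ g) (hτker g)
  have hτπ : ∀ (g : ↥N) (u : U), τq g (π u) = τ g u := fun g u => rfl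
  have hτmul : ∀ (g h : ↥N) (u : U), τq g (τ h u) = τ (g * h) u := fun g h u => by
    refine congrArg π (Subtype.ext ?_)
    show (g : G) * ((h : G) * u * (h : G)⁻¹) * (g : G)⁻¹ = ((g : G) * h) * u * ((g : G) * h)⁻¹
    group
  let cb : ↥N := ⟨b, hbU, hbZ0⟩
  let ai : A → ↥N := fun a => ⟨a, hAU a.2, hAZ0n a.2⟩
  have hcb : orderOf cb = p := by rw [← hob]; exact Subgroup.orderOf_mk b _
  let c : ZMod p → ↥N := fun i => cb ^ i.val
  haveI : NeZero p := ⟨hp.out.ne_zero⟩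
  have hc_add : ∀ i j : ZMod p, c i * c j = c (i + j) := fun i j => by
    show cb ^ i.val * cb ^ j.val = cb ^ (i + j).val
    rw [← pow_add, ← pow_mod_orderOf cb (i.val + j.val), hcb, ← ZMod.val_add]
  have hc0 : c 0 = 1 := by show cb ^ (0 : ZMod p).val = 1; rw [ZMod.val_zero, pow_zero]
  have hc1 : c 1 = cb := by
    haveI : Fact (1 < p) := ⟨hp.out.one_lt⟩
    show cb ^ (1 : ZMod p).val = cb
    rw [ZMod.val_one, pow_one]
  let Nm : U → U ⧸ Zs := fun v => ∏ i : ZMod p, τ (c i) v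
  haveI := Fintype.ofFinite A
  have hexpV : ∀ x : U ⧸ Zs, x ^ p = 1 := fun x => by
    induction x using QuotientGroup.induction_on with
    | H x => rw [← QuotientGroup.mk_pow, show x ^ p = 1 from Subtype.ext (hexp x x.2)]; rfl
  have hAfix : ∀ x : U ⧸ Zs, (∀ a : A, τq (ai a) x = x) → x = 1 := by
    intro x hx
    induction x using QuotientGroup.induction_on with
    | H u =>
    refine (QuotientGroup.eq_one_iff u).mpr ⟨u.2, Subgroup.mem_centralizer_iff.mpr fun a ha => ?_⟩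
    have h0 : (QuotientGroup.mk u : U ⧸ Zs) = QuotientGroup.mk (⟨a * u * a⁻¹, conj_mem (hAU ha) u.2⟩ : U) := (hx ⟨a, ha⟩).symm
    have h1' := QuotientGroup.eq.mp h0
    have h1 : (u : G)⁻¹ * (a * u * a⁻¹) ∈ Z0 := h1'
    set z := (u : G)⁻¹ * (a * u * a⁻¹) with hz
    have hza : a * z = z * a := (Subgroup.mem_centralizer_iff.mp h1.2) a ha
    have hit : ∀ k : ℕ, a ^ k * u * (a ^ k)⁻¹ = u * z ^ k := by
      intro k
      induction k with
      | zero => simp
      | succ k ih =>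
        calc a ^ (k + 1) * u * (a ^ (k + 1))⁻¹ = a * (a ^ k * u * (a ^ k)⁻¹) * a⁻¹ := by group
          _ = a * ↑u * a⁻¹ * (a * z ^ k * a⁻¹) := by rw [ih]; group
          _ = a * ↑u * a⁻¹ * z ^ k := by rw [((show Commute a z from hza).pow_right k).eq, mul_inv_cancel_right]
          _ = u * z ^ (k + 1) := by rw [show a * ↑u * a⁻¹ = u * z by rw [hz]; group, pow_succ', mul_assoc]
    have h2 := hit (Nat.card A)
    rw [show a ^ Nat.card A = 1 from congrArg Subtype.val (pow_card_eq_one' (x := (⟨a, ha⟩ : A))),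
      one_mul, inv_one, mul_one, left_eq_mul] at h2
    have h3 := pow_coprime_eq_one hA h2 (hexp z h1.1)
    rw [hz, inv_mul_eq_one] at h3
    exact (mul_inv_eq_iff_eq_mul.mp h3.symm)
  -- some norm is nontrivial
  obtain ⟨v₀, hv₀⟩ : ∃ v, Nm v ≠ 1 := by
    by_contra! hN0
    refine hZ0U (le_antisymm inf_le_left fun u hu => ?_)
    have hS : ∏ a : A, ∏ i : ZMod p, τ (ai a * c i * (ai a)⁻¹) ⟨u, hu⟩ = 1 := by
      refine Finset.prod_eq_one fun a _ => ?_
      have h := hN0 ⟨((ai a)⁻¹ : ↥N) * u * (((ai a)⁻¹ : ↥N) : G)⁻¹, conj_mem ((ai a)⁻¹).2.1 hu⟩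
      have h' := congrArg (τq (ai a)) h
      rw [map_one, map_prod] at h'
      refine (Finset.prod_congr rfl fun i _ => ?_).trans h'
      rw [hτmul]
      refine congrArg π (Subtype.ext ?_)
      simp only [Subgroup.coe_mul, Subgroup.coe_inv]
      group
    rw [Finset.prod_comm, Fintype.prod_eq_mul_prod_compl (0 : ZMod p)] at hS
    have hrest : ∀ i : ZMod p, i ≠ 0 → ∏ a : A, τ (ai a * c i * (ai a)⁻¹) ⟨u, hu⟩ = 1 := by
      intro i hi
      have hci : ((c i : ↥N) : G) ∈ Subgroup.normalizer (A : Set G) := by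
        show ((cb ^ i.val : ↥N) : G) ∈ _
        rw [Subgroup.coe_pow]; exact Subgroup.pow_mem _ hbA _
      let e : A → A := fun a => ⟨(a : G) * ((c i : G) * (a : G)⁻¹ * (c i : G)⁻¹),
        A.mul_mem a.2 (conj_mem hci (A.inv_mem a.2))⟩
      have he : Function.Injective e := by
        intro a1 a2 h
        have h' : (a1 : G) * ((c i : G) * (a1 : G)⁻¹ * (c i : G)⁻¹) = (a2 : G) * ((c i : G) * (a2 : G)⁻¹ * (c i : G)⁻¹) :=
          congrArg Subtype.val h
        have hcomm : Commute ((a2 : G)⁻¹ * a1) (c i : G) := by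
          show _ = _
          calc (a2 : G)⁻¹ * a1 * (c i : G) = (a2 : G)⁻¹ * ((a1 : G) * ((c i : G) * (a1 : G)⁻¹ * (c i : G)⁻¹)) * (c i : G) * a1 := by group
            _ = (c i : G) * ((a2 : G)⁻¹ * a1) := by rw [h']; group
        have hbi : b ∈ Subgroup.zpowers (c i : G) := by
          have hcop' : Nat.Coprime i.val (orderOf b) := by
            rw [hob]
            refine (hp.out.coprime_iff_not_dvd.mpr fun hd => hi ?_).symm
            rw [← ZMod.val_eq_zero]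
            exact Nat.eq_zero_of_dvd_of_lt hd (ZMod.val_lt i)
          obtain ⟨m, hm⟩ := exists_pow_eq_self_of_coprime hcop'
          refine Subgroup.mem_zpowers_iff.mpr ⟨m, ?_⟩
          show ((cb ^ i.val : ↥N) : G) ^ (m : ℤ) = b
          rw [Subgroup.coe_pow, zpow_natCast]; exact hm
        obtain ⟨m, hm⟩ := Subgroup.mem_zpowers_iff.mp hbi
        have := hfpf _ (A.mul_mem (A.inv_mem a2.2) a1.2) (by
          rw [← hm]; exact ((hcomm.zpow_right m).eq).symm)
        exact Subtype.ext (inv_mul_eq_one.mp this).symm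
      set w : U := ⟨((c i : ↥N) : G) * u * ((c i : ↥N) : G)⁻¹, conj_mem (c i).2.1 hu⟩ with hw
      have hM : ∏ a : A, τ (ai a * c i * (ai a)⁻¹) ⟨u, hu⟩ = ∏ a : A, τ (ai a) w := by
        refine Fintype.prod_bijective e ⟨he, (Finite.injective_iff_surjective.mp he)⟩ _ _ fun a => ?_
        refine congrArg π (Subtype.ext ?_)
        simp only [Subgroup.coe_mul, Subgroup.coe_inv, ai, e, hw]
        group
      rw [hM]
      refine hAfix _ fun a => ?_
      rw [map_prod]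
      refine Fintype.prod_equiv (Equiv.mulLeft a) _ _ fun a' => ?_
      rw [hτmul]
      rfl
    rw [Finset.prod_eq_one fun i hi => hrest i (by simpa using hi), mul_one,
      Finset.prod_congr rfl (g := fun _ => π ⟨u, hu⟩) (fun a _ => by
        refine congrArg π (Subtype.ext ?_)
        rw [hc0]
        simp), Finset.prod_const, Finset.card_univ, ← Nat.card_eq_fintype_card] at hS
    exact (QuotientGroup.eq_one_iff (⟨u, hu⟩ : U)).mp (pow_coprime_eq_one hA hS (hexpV _))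
  have hNfix : ∀ v, τq cb (Nm v) = Nm v := fun v => by
    rw [map_prod]
    refine Fintype.prod_equiv (Equiv.addLeft 1) _ _ fun i => ?_
    rw [hτmul, Equiv.coe_addLeft, ← hc_add, hc1]
  -- `[b, ·]` on fixed cosets
  let Y : Subgroup G :=
    { carrier := {y | y ∈ U ∧ ⁅b, y⁆ ∈ Z0}
      one_mem' := ⟨U.one_mem, by simp⟩
      mul_mem' := fun {x y} hx hy => ⟨U.mul_mem hx.1 hy.1, by
        rw [show ⁅b, x * y⁆ = ⁅b, x⁆ * (x * ⁅b, y⁆ * x⁻¹) by simp only [commutatorElement_def]; group,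
          hZ0c x hx.1 _ hy.2, mul_inv_cancel_right]
        exact Z0.mul_mem hx.2 hy.2⟩
      inv_mem' := fun {x} hx => ⟨U.inv_mem hx.1, by
        rw [show ⁅b, x⁻¹⁆ = x⁻¹ * ⁅b, x⁆⁻¹ * x by simp only [commutatorElement_def]; group,
          hZ0c _ (U.inv_mem hx.1) _ (Z0.inv_mem hx.2), inv_mul_cancel_right]
        exact Z0.inv_mem hx.2⟩ }
  have hrep : ∀ v, ∃ y : U, (y : G) ∈ Y ∧ π y = Nm v := by
    intro v
    obtain ⟨y, hy⟩ := QuotientGroup.mk'_surjective Zs (Nm v)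
    refine ⟨y, ⟨y.2, ?_⟩, hy⟩
    have h : τq cb (π y) = π y := by rw [show π y = Nm v from hy, hNfix]
    rw [hτπ] at h
    have h0 : (QuotientGroup.mk y : U ⧸ Zs) = QuotientGroup.mk (⟨b * y * b⁻¹, conj_mem hbU y.2⟩ : U) := h.symm
    have h1' := QuotientGroup.eq.mp h0
    have h1 : (y : G)⁻¹ * (b * y * b⁻¹) ∈ Z0 := h1'
    rw [show ⁅b, (y : G)⁆ = (y : G) * ((y : G)⁻¹ * (b * y * b⁻¹)) * (y : G)⁻¹ by simp only [commutatorElement_def]; group,
      hZ0c y y.2 _ h1, mul_inv_cancel_right]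
    exact h1
  let θ0 : ↥Z0 →* G :=
    { toFun := fun z => ⁅b, (z : G)⁆
      map_one' := by simp
      map_mul' := fun z w => by
        show ⁅b, (z : G) * w⁆ = ⁅b, (z : G)⁆ * ⁅b, (w : G)⁆
        have hm : ⁅b, (w : G)⁆ ∈ Z0 := by
          rw [commutatorElement_def]; exact Z0.mul_mem (conj_mem hbZ0 w.2) (Z0.inv_mem w.2)
        rw [show ⁅b, (z : G) * w⁆ = ⁅b, (z : G)⁆ * ((z : G) * ⁅b, (w : G)⁆ * (z : G)⁻¹) by
          simp only [commutatorElement_def]; group, hZ0c z z.2.1 _ hm, mul_inv_cancel_right] }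
  set I0 := θ0.range.subgroupOf Z0 with hI0
  have hθ0le : θ0.range ≤ Z0 := by
    rintro _ ⟨z, rfl⟩
    show ⁅b, (z : G)⁆ ∈ Z0
    rw [commutatorElement_def]; exact Z0.mul_mem (conj_mem hbZ0 z.2) (Z0.inv_mem z.2)
  haveI hI0n : I0.Normal := ⟨fun x hx z => by
    rwa [show z * x * z⁻¹ = x from Subtype.ext (by
      show (z : G) * x * (z : G)⁻¹ = x
      rw [hZ0c z z.2.1 x x.2, mul_inv_cancel_right])]⟩
  let θ : ↥Y →* ↥Z0 ⧸ I0 :=
    { toFun := fun y => QuotientGroup.mk ⟨⁅b, (y : G)⁆, y.2.2⟩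
      map_one' := (QuotientGroup.eq_one_iff _).mpr (by
        show ⁅b, ((1 : ↥Y) : G)⁆ ∈ θ0.range
        simp)
      map_mul' := fun x y => by
        rw [← QuotientGroup.mk_mul]
        refine congrArg QuotientGroup.mk (Subtype.ext ?_)
        show ⁅b, (x : G) * y⁆ = ⁅b, (x : G)⁆ * ⁅b, (y : G)⁆
        rw [show ⁅b, (x : G) * y⁆ = ⁅b, (x : G)⁆ * ((x : G) * ⁅b, (y : G)⁆ * (x : G)⁻¹) by
          simp only [commutatorElement_def]; group, hZ0c x x.2.1 _ y.2.2, mul_inv_cancel_right] }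
  have hθker : ∀ y : ↥Y, θ y = 1 → (y : G) ∈ Z0 := by
    intro y hy
    obtain ⟨z, hz⟩ := (QuotientGroup.eq_one_iff _).mp hy
    have hz' : ⁅b, (z : G)⁆ = ⁅b, (y : G)⁆ := hz
    have hcomm : b * ((y : G) * (z : G)⁻¹) = ((y : G) * (z : G)⁻¹) * b := by
      refine commutatorElement_eq_one_iff_mul_comm.mp ?_
      have hm : ⁅b, (z : G)⁻¹⁆ ∈ Z0 := by
        rw [commutatorElement_def]; exact Z0.mul_mem (conj_mem hbZ0 (Z0.inv_mem z.2)) (by simp [z.2])
      rw [show ⁅b, (y : G) * (z : G)⁻¹⁆ = ⁅b, (y : G)⁆ * ((y : G) * ⁅b, (z : G)⁻¹⁆ * (y : G)⁻¹) by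
        simp only [commutatorElement_def]; group, hZ0c y y.2.1 _ hm, mul_inv_cancel_right, ← hz']
      have hm' : ⁅b, (z : G)⁆ * ((z : G) * ⁅b, (z : G)⁻¹⁆ * (z : G)⁻¹) = 1 := by
        simp only [commutatorElement_def]; group
      rwa [hZ0c z z.2.1 _ hm, mul_inv_cancel_right] at hm'
    have hyz : (y : G) * (z : G)⁻¹ ∈ U := U.mul_mem y.2.1 (U.inv_mem z.2.1)
    have h1 : (y : G) * (z : G)⁻¹ ∈ Z0 := ⟨hyz, Subgroup.mem_centralizer_iff.mpr
      (hfixA _ hyz (hexp _ hyz) hcomm)⟩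
    simpa using Z0.mul_mem h1 z.2
  have hcard : Nat.card (↥Z0 ⧸ I0) ≤ p := by
    have h1 : Nat.card θ0.ker * Nat.card θ0.range = Nat.card Z0 := by
      rw [← Subgroup.index_ker, θ0.ker.card_mul_index]
    have h2 := I0.card_mul_index
    rw [Nat.card_congr (Subgroup.subgroupOfEquivOfLe hθ0le).toEquiv, Subgroup.index_eq_card, ← h1, mul_comm] at h2
    rw [Nat.eq_of_mul_eq_mul_right Nat.card_pos h2]
    refine le_trans ?_ (Nat.le_of_dvd hp.out.pos (orderOf_dvd_of_pow_eq_one hb1))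
    rw [← Nat.card_zpowers]
    refine Nat.card_le_card_of_injective (fun z : θ0.ker => (⟨((z : ↥Z0) : G), hfix _ (z : ↥Z0).2.1 (hexp _ (z : ↥Z0).2.1)
      (commutatorElement_eq_one_iff_mul_comm.mp z.2)⟩ : Subgroup.zpowers b₁)) ?_
    intro x y h
    exact Subtype.ext (Subtype.ext (congrArg (fun w : Subgroup.zpowers b₁ => (w : G)) h))
  obtain ⟨y₁, hy₁Y, hy₁⟩ := hrep v₀
  have hθ1 : θ ⟨y₁, hy₁Y⟩ ≠ 1 := fun e => hv₀ (by
    rw [← hy₁]; exact (QuotientGroup.eq_one_iff _).mpr (hθker _ e))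
  have hline : ∀ w, ∃ k : ℤ, Nm w = π y₁ ^ k := by
    intro w
    obtain ⟨y₂, hy₂Y, hy₂⟩ := hrep w
    have hq : orderOf (θ ⟨y₁, hy₁Y⟩) = p := orderOf_eq_prime (by
      rw [← map_pow, show (⟨y₁, hy₁Y⟩ : ↥Y) ^ p = 1 from Subtype.ext (hexp _ y₁.2), map_one]) hθ1
    have htop : Subgroup.zpowers (θ ⟨y₁, hy₁Y⟩) = ⊤ :=
      Subgroup.eq_top_of_card_eq _ (le_antisymm (Subgroup.card_le_card_group _) (by
        rw [Nat.card_zpowers, hq]; exact hcard))
    obtain ⟨k, hk⟩ := Subgroup.mem_zpowers_iff.mp (htop.ge (Subgroup.mem_top (θ ⟨y₂, hy₂Y⟩)))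
    refine ⟨k, ?_⟩
    have hm := hθker (⟨y₂, hy₂Y⟩ * (⟨y₁, hy₁Y⟩ ^ k)⁻¹) (by rw [map_mul, map_inv, map_zpow, hk, mul_inv_cancel])
    rw [← hy₂, ← map_zpow, ← mul_inv_eq_one, ← map_inv, ← map_mul]
    refine (QuotientGroup.eq_one_iff _).mpr ?_
    show ((y₂ * (y₁ ^ k)⁻¹ : U) : G) ∈ Z0
    simpa using hm
  -- the commutator form
  set D := ⁅U, U⁆ with hD
  have hbD : b ∈ Subgroup.normalizer (D : Set G) := normalizes_commutator hbU hbU
  let ε : ↥D →* G :=
    { toFun := fun z => ⁅b, (z : G)⁆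
      map_one' := by simp
      map_mul' := fun z w => θ0.map_mul ⟨z, hDZ0 z.2⟩ ⟨w, hDZ0 w.2⟩ }
  have hεle : ε.range ≤ D := by
    rintro _ ⟨z, rfl⟩
    show ⁅b, (z : G)⁆ ∈ D
    rw [commutatorElement_def]; exact D.mul_mem (conj_mem hbD z.2) (D.inv_mem z.2)
  set J := ε.range.subgroupOf D with hJ
  have hDcomm : ∀ x y : ↥D, x * y = y * x := fun x y => Subtype.ext (hDc x (hDle x.2) y y.2)
  haveI : J.Normal := ⟨fun x hx z => by rwa [hDcomm z x, mul_inv_cancel_right]⟩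
  letI : CommGroup (↥D ⧸ J) :=
    { (inferInstance : Group (↥D ⧸ J)) with
      mul_comm := fun x y => by
        induction x using QuotientGroup.induction_on with
        | H x =>
        induction y using QuotientGroup.induction_on with
        | H y => rw [← QuotientGroup.mk_mul, ← QuotientGroup.mk_mul, hDcomm] }
  let f : U → U → ↥D ⧸ J := fun u v =>
    QuotientGroup.mk ⟨⁅(u : G), (v : G)⁆, Subgroup.commutator_mem_commutator u.2 v.2⟩
  have hfl : ∀ u v w, f (u * v) w = f u w * f v w := fun u v w => by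
    show _ = QuotientGroup.mk _ * QuotientGroup.mk _
    rw [← QuotientGroup.mk_mul]
    refine congrArg QuotientGroup.mk (Subtype.ext ?_)
    show ⁅(u : G) * v, (w : G)⁆ = ⁅(u : G), (w : G)⁆ * ⁅(v : G), (w : G)⁆
    have hm : ⁅(v : G), (w : G)⁆ ∈ D := Subgroup.commutator_mem_commutator v.2 w.2
    rw [show ⁅(u : G) * v, (w : G)⁆ = (u : G) * ⁅(v : G), (w : G)⁆ * (u : G)⁻¹ * ⁅(u : G), (w : G)⁆ by
      simp only [commutatorElement_def]; group, hDc u u.2 _ hm, mul_inv_cancel_right]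
    exact (hDc _ (hDle (Subgroup.commutator_mem_commutator u.2 w.2)) _ hm).symm
  have hfs : ∀ u v, f v u = (f u v)⁻¹ := fun u v => by
    show _ = (QuotientGroup.mk _)⁻¹
    rw [← QuotientGroup.mk_inv]
    exact congrArg QuotientGroup.mk (Subtype.ext (commutatorElement_inv _ _).symm)
  let F : U → (U →* ↥D ⧸ J) := fun w => MonoidHom.mk' (fun u => f u w) fun u v => hfl u v w
  have hFker : ∀ w, Zs ≤ (F w).ker := by
    intro w z hz
    show QuotientGroup.mk _ = 1
    rw [show (⟨⁅(z : G), (w : G)⁆, Subgroup.commutator_mem_commutator z.2 w.2⟩ : ↥D) = 1 from Subtype.ext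
      (commutatorElement_eq_one_iff_mul_comm.mpr (hZ0c w w.2 z hz).symm)]
    rfl
  let Fq : U → (U ⧸ Zs →* ↥D ⧸ J) := fun w => QuotientGroup.lift Zs (F w) (hFker w)
  have hinvb : ∀ (g : ℕ) (u w : U),
      f ⟨((cb ^ g : ↥N) : G) * u * ((cb ^ g : ↥N) : G)⁻¹, conj_mem (cb ^ g).2.1 u.2⟩
        ⟨((cb ^ g : ↥N) : G) * w * ((cb ^ g : ↥N) : G)⁻¹, conj_mem (cb ^ g).2.1 w.2⟩ = f u w := by
    intro g
    induction g with
    | zero => intro u w; simp
    | succ g ih =>
      intro u w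
      rw [← ih u w]
      symm
      refine QuotientGroup.eq.mpr ?_
      set x := ⁅((cb ^ g : ↥N) : G) * u * ((cb ^ g : ↥N) : G)⁻¹, ((cb ^ g : ↥N) : G) * w * ((cb ^ g : ↥N) : G)⁻¹⁆ with hx
      have hxD : x ∈ D := Subgroup.commutator_mem_commutator (conj_mem (cb ^ g).2.1 u.2) (conj_mem (cb ^ g).2.1 w.2)
      refine ⟨⟨x, hxD⟩, ?_⟩
      show ⁅b, x⁆ = x⁻¹ * _
      have hbx : b * x * b⁻¹ ∈ D := conj_mem hbD hxD
      rw [show ⁅b, x⁆ = (b * x * b⁻¹) * x⁻¹ by simp only [commutatorElement_def],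
        hDc _ (hDle hbx) _ (D.inv_mem hxD)]
      congr 1
      rw [hx, pow_succ']
      simp only [commutatorElement_def, Subgroup.coe_mul, cb]
      group
  have hg : ∀ v w, Fq w (Nm v) = ∏ i : ZMod p, f ⟨((c i : ↥N) : G) * v * ((c i : ↥N) : G)⁻¹, conj_mem (c i).2.1 v.2⟩ w :=
    fun v w => by
    show Fq w (∏ i : ZMod p, τ (c i) v) = _
    rw [map_prod]
    rfl
  have hexpD : ∀ x : ↥D ⧸ J, x ^ p = 1 := fun x => by
    induction x using QuotientGroup.induction_on with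
    | H x => rw [← QuotientGroup.mk_pow, show x ^ p = 1 from Subtype.ext (hexp x (hDle x.2))]; rfl
  have hgvv : ∀ v, Fq v (Nm v) = 1 := by
    intro v
    have hneg : Fq v (Nm v) = (Fq v (Nm v))⁻¹ := by
      rw [hg, ← Finset.prod_inv_distrib]
      refine Fintype.prod_equiv (Equiv.neg (ZMod p)) _ _ fun i => ?_
      rw [← hfs]
      refine (hinvb (-i).val _ _).symm.trans ?_
      show f _ _ = f _ _
      congr 1
      refine Subtype.ext ?_
      · have h0 : c (-i) * c i = 1 := by rw [hc_add, neg_add_cancel, hc0]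
        have h0' : ((c (-i) : ↥N) : G) * ((c i : ↥N) : G) = 1 := congrArg Subtype.val h0
        show ((c (-i) : ↥N) : G) * (((c i : ↥N) : G) * v * ((c i : ↥N) : G)⁻¹) * ((c (-i) : ↥N) : G)⁻¹ = v
        rw [show ((c (-i) : ↥N) : G) * (((c i : ↥N) : G) * v * ((c i : ↥N) : G)⁻¹) * ((c (-i) : ↥N) : G)⁻¹ =
          (((c (-i) : ↥N) : G) * ((c i : ↥N) : G)) * v * (((c (-i) : ↥N) : G) * ((c i : ↥N) : G))⁻¹ by group, h0']
        simp
    refine pow_coprime_eq_one ((Nat.coprime_primes Nat.prime_two hp.out).mpr (Ne.symm hp2)) ?_ (hexpD _)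
    rw [pow_two]; nth_rewrite 2 [hneg]; exact mul_inv_cancel _
  have hgas : ∀ v w, Fq w (Nm v) = (Fq v (Nm w))⁻¹ := by
    intro v w
    have hadd : ∀ v w x, Fq x (Nm (v * w)) = Fq x (Nm v) * Fq x (Nm w) := fun v w x => by
      rw [← map_mul]; congr 1; show (∏ i : ZMod p, τ (c i) (v * w)) = _
      simp only [map_mul, Finset.prod_mul_distrib]; rfl
    have hright : ∀ v w x, Fq (v * w) x = Fq v x * Fq w x := fun v w x => by
      induction x using QuotientGroup.induction_on with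
      | H x =>
      show f x (v * w) = f x v * f x w
      rw [hfs, hfl, mul_inv, ← hfs, ← hfs]
    have h := hgvv (v * w)
    rw [hright, hadd, hadd, hgvv, hgvv, one_mul, mul_one, mul_comm] at h
    exact eq_inv_of_mul_eq_one_left h
  -- the line is in the radical
  have hzero : ∀ w : U, Fq w (π y₁) = 1 := by
    intro w
    obtain ⟨k, hk⟩ := hline w
    have h0 : Fq v₀ (π y₁) = 1 := by rw [hy₁]; exact hgvv v₀
    rw [hy₁, hgas, hk, map_zpow, h0, one_zpow, inv_one]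
  let R1 : Subgroup G :=
    { carrier := {u | ∃ h : u ∈ U, ∀ w, f ⟨u, h⟩ w = 1}
      one_mem' := ⟨U.one_mem, fun w => (F w).map_one⟩
      mul_mem' := fun {x y} ⟨hx, hx'⟩ ⟨hy, hy'⟩ => ⟨U.mul_mem hx hy, fun w => by
        rw [show (⟨x * y, U.mul_mem hx hy⟩ : U) = ⟨x, hx⟩ * ⟨y, hy⟩ from rfl, hfl, hx', hy', one_mul]⟩
      inv_mem' := fun {x} ⟨hx, hx'⟩ => ⟨U.inv_mem hx, fun w => by
        rw [show (⟨x⁻¹, U.inv_mem hx⟩ : U) = ⟨x, hx⟩⁻¹ from rfl]
        show F w ⟨x, hx⟩⁻¹ = 1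
        rw [map_inv, show F w ⟨x, hx⟩ = 1 from hx' w, inv_one]⟩ }
  have hR1U : R1 < U := by
    refine lt_of_le_of_ne (fun u hu => hu.1) fun e => ?_
    have hDJ : D ≤ ε.range := Subgroup.commutator_le.mpr fun u hu w hw => by
      obtain ⟨_, h⟩ := e.ge hu
      exact Subgroup.mem_subgroupOf.mp ((QuotientGroup.eq_one_iff _).mp (h ⟨w, hw⟩))
    obtain ⟨z, hz, hz1, hzb⟩ := hfixed D hDle hnab (fun u hu => normalizes_commutator (Subgroup.le_normalizer hu)
      (Subgroup.le_normalizer hu)) hbD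
    have hker : (⟨z, hz⟩ : ↥D) ∈ ε.ker := commutatorElement_eq_one_iff_mul_comm.mpr hzb
    have hc' := ε.ker.card_mul_index
    rw [Subgroup.index_ker] at hc'
    have h1 : Nat.card D ≤ Nat.card ε.range := Subgroup.card_le_of_le hDJ
    have h2 : 1 < Nat.card ε.ker := (Subgroup.one_lt_card_iff_ne_bot _).mpr fun e' =>
      hz1 (congrArg Subtype.val (Subgroup.mem_bot.mp (e' ▸ hker) : (⟨z, hz⟩ : ↥D) = 1))
    have h3 : 0 < Nat.card ε.range := Nat.card_pos
    nlinarith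
  have hR1n : ∀ g, g ∈ A → g ∈ Subgroup.normalizer (R1 : Set G) := by
    intro a ha
    refine mem_normalizer_of ?_
    rintro u ⟨hu, hu'⟩
    refine ⟨conj_mem (hAU ha) hu, fun w => ?_⟩
    have hw' : a⁻¹ * w * a ∈ U := by simpa using conj_mem (Subgroup.inv_mem _ (hAU ha)) w.2
    rw [← hu' ⟨_, hw'⟩]
    refine congrArg QuotientGroup.mk (Subtype.ext ?_)
    show ⁅a * u * a⁻¹, (w : G)⁆ = ⁅u, a⁻¹ * (w : G) * a⁆
    have hm : ⁅u, a⁻¹ * (w : G) * a⁆ ∈ D := Subgroup.commutator_mem_commutator hu hw'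
    calc ⁅a * u * a⁻¹, (w : G)⁆ = a * ⁅u, a⁻¹ * (w : G) * a⁆ * a⁻¹ := by simp only [commutatorElement_def]; group
      _ = ⁅u, a⁻¹ * (w : G) * a⁆ := by
        rw [show a * ⁅u, a⁻¹ * (w : G) * a⁆ = ⁅u, a⁻¹ * (w : G) * a⁆ * a from
          (Subgroup.mem_centralizer_iff.mp (hAD ha) _ hm).symm, mul_inv_cancel_right]
  have hR1b : b ∈ Subgroup.normalizer (R1 : Set G) := by
    refine mem_normalizer_of ?_
    rintro u ⟨hu, hu'⟩
    refine ⟨conj_mem hbU hu, fun w => ?_⟩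
    have hw' : b⁻¹ * w * b ∈ U := by simpa using conj_mem (Subgroup.inv_mem _ hbU) w.2
    rw [← hu' ⟨_, hw'⟩, ← hinvb 1 ⟨u, hu⟩ ⟨_, hw'⟩]
    refine congrArg QuotientGroup.mk (Subtype.ext ?_)
    show ⁅b * u * b⁻¹, (w : G)⁆ = ⁅((cb ^ 1 : ↥N) : G) * u * ((cb ^ 1 : ↥N) : G)⁻¹, ((cb ^ 1 : ↥N) : G) * (b⁻¹ * w * b) * ((cb ^ 1 : ↥N) : G)⁻¹⁆
    rw [show ((cb ^ 1 : ↥N) : G) = b by rw [pow_one]]
    group
  have hR1c := hmin R1 hR1U (fun a ha => hR1n a ha) hR1b
  have hy₁Z : (y₁ : G) ∈ Z0 := by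
    refine ⟨y₁.2, Subgroup.mem_centralizer_iff.mpr fun a ha => ?_⟩
    exact (Subgroup.mem_centralizer_iff.mp (hR1c ha) y₁ ⟨y₁.2, fun w => hzero w⟩).symm
  exact hv₀ (by rw [← hy₁]; exact (QuotientGroup.eq_one_iff _).mpr hy₁Z)

/-- `A` centralizes `R`. -/
theorem le_centralizer (hp2 : p ≠ 2) {A R : Subgroup G} {b b₁ : G} (hA : (Nat.card A).Coprime p)
    (hRp : IsPGroup p R) (hAR : A ≤ Subgroup.normalizer (R : Set G)) (hbR : b ∈ Subgroup.normalizer (R : Set G))
    (hbA : b ∈ Subgroup.normalizer (A : Set G)) (hb : b ^ p = 1)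
    (hfpf : ∀ a ∈ A, b * a = a * b → a = 1) (hb1 : b₁ ^ p = 1) (hb1A : ∀ a ∈ A, a * b₁ = b₁ * a)
    (hfix : ∀ y ∈ R, y ^ p = 1 → b * y = y * b → y ∈ Subgroup.zpowers b₁) :
    A ≤ Subgroup.centralizer (R : Set G) := by
  suffices ∀ U : Subgroup G, U ≤ R → A ≤ Subgroup.normalizer (U : Set G) →
      b ∈ Subgroup.normalizer (U : Set G) → A ≤ Subgroup.centralizer (U : Set G) from this R le_rfl hAR hbR
  intro U
  induction U using WellFoundedLT.induction with
  | ind U IH =>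
    intro hUR hAU hbU
    exact no_minimal hp2 hA (hRp.to_le hUR) hAU hbU hbA hb hfpf hb1 hb1A (fun y hy => hfix y (hUR hy))
      fun K hK => IH K hK (hK.le.trans hUR)

end CfsgLib.Coprime.FpfFixedLine
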