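import Mathlib
import Cfsg.Agent.Lib.PGroup.NormalRankTwo
import Cfsg.Agent.Lib.Coprime.Action

/-!
A `p`-group, `p` odd, acting coprimely on an abelian group which is the sum of the fixed points of
`c` and of `d`, for all `c` and `d` in two generating sets, acts trivially.
-/

set_option autoImplicit false
set_option linter.style.haveILetI false

namespace CfsgLib.PairFixed

variable {P : Type*} [Group P] {p : ℕ} {V : Type*} [AddCommGroup V] [DistribMulAction P V]

/-- The orbit sum of `u` over `p` steps. -/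
def sig (p : ℕ) (u : P) (v : V) : V := ∑ i ∈ Finset.range p, (u ^ i) • v

theorem sig_add (u : P) (v w : V) : sig p u (v + w) = sig p u v + sig p u w := by
  simp only [sig, smul_add, Finset.sum_add_distrib]

theorem sig_sum (u : P) {ι : Type*} (s : Finset ι) (f : ι → V) :
    sig p u (∑ i ∈ s, f i) = ∑ i ∈ s, sig p u (f i) := by
  simp only [sig, Finset.smul_sum]
  exact Finset.sum_comm

theorem sig_of_fixed {u : P} {v : V} (h : u • v = v) : sig p u v = p • v := by
  have : ∀ i : ℕ, (u ^ i) • v = v := fun i => by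
    induction i with
    | zero => rw [pow_zero, one_smul]
    | succ i ih => rw [pow_succ, mul_smul, h, ih]
  simp [sig, this]

theorem smul_sig {u : P} (hu : ∀ v : V, (u ^ p) • v = v) (v : V) : u • sig p u v = sig p u v := by
  have h1 := Finset.sum_range_succ' (fun i => (u ^ i) • v) p
  have h2 := Finset.sum_range_succ (fun i => (u ^ i) • v) p
  rw [h1, hu, pow_zero, one_smul] at h2
  rw [sig, Finset.smul_sum]
  simp only [← mul_smul, ← pow_succ']
  exact add_right_cancel h2

theorem smul_sig_of_comm {u g : P} (h : ∀ v : V, g • u • v = u • g • v) (v : V) :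
    g • sig p u v = sig p u (g • v) := by
  have h2 : ∀ (i : ℕ) (w : V), g • (u ^ i) • w = (u ^ i) • g • w := fun i => by
    induction i with
    | zero => simp
    | succ i ih => intro w; rw [pow_succ, mul_smul, mul_smul, ih, h]
  simp only [sig, Finset.smul_sum, h2]

theorem sig_mem {u : P} {W : AddSubgroup V} (hW : ∀ w ∈ W, u • w ∈ W) {v : V} (hv : v ∈ W) :
    sig p u v ∈ W := by
  refine W.sum_mem fun i hi => ?_
  clear hi
  induction i with
  | zero => rwa [pow_zero, one_smul]
  | succ i ih => rw [pow_succ', mul_smul]; exact hW _ ih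

/-- The inherited action on an invariant subgroup. -/
@[reducible] def restrictAction (W : AddSubgroup V) (hW : ∀ g : P, ∀ w ∈ W, g • w ∈ W) :
    DistribMulAction P W where
  smul g w := ⟨g • (w : V), hW g w w.2⟩
  one_smul w := Subtype.ext (one_smul P (w : V))
  mul_smul g h w := Subtype.ext (mul_smul g h (w : V))
  smul_zero g := Subtype.ext (smul_zero g)
  smul_add g v w := Subtype.ext (smul_add g (v : V) w)

/-- The elements acting trivially. -/
def trivialPart (P : Type*) [Group P] (V : Type*) [AddCommGroup V] [DistribMulAction P V] :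
    Subgroup P where
  carrier := {g | ∀ v : V, g • v = v}
  one_mem' := one_smul P
  mul_mem' {g h} hg hh v := by rw [mul_smul, hh, hg]
  inv_mem' {g} hg v := by rw [inv_smul_eq_iff, hg]

instance : (trivialPart P V).Normal :=
  ⟨fun g hg h v => by
    show (h * g * h⁻¹) • v = v
    rw [mul_smul, mul_smul, hg, smul_inv_smul]⟩

theorem smul_eq_of_mk_eq {g h : P}
    (e : (QuotientGroup.mk g : P ⧸ trivialPart P V) = QuotientGroup.mk h) (v : V) :
    g • v = h • v := by
  have h1 : (g⁻¹ * h) • v = v := QuotientGroup.eq.mp e v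
  rw [mul_smul, inv_smul_eq_iff] at h1
  exact h1.symm

theorem exists_proj (hV : ∀ v : V, ∃ w, p • w = v) {u : P} (hup : ∀ v : V, (u ^ p) • v = v)
    (v : V) : ∃ a b, u • a = a ∧ sig p u b = 0 ∧ v = a + b := by
  obtain ⟨w, rfl⟩ := hV v
  refine ⟨sig p u w, p • w - sig p u w, smul_sig hup w, ?_, by abel⟩
  have h1 : sig p u (sig p u w) = p • sig p u w := sig_of_fixed (smul_sig hup w)
  have h2 : sig p u (p • w) = p • sig p u w := by
    induction p • (1 : ℕ) <;> simp only [sig, smul_comm _ (p : ℕ), ← Finset.smul_sum]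
  have h3 := sig_add (p := p) u (p • w - sig p u w) (sig p u w)
  rw [sub_add_cancel, h1, h2] at h3
  exact (add_eq_right.mp h3.symm)

variable [hp : Fact p.Prime]

omit hp in
theorem pow_mul_fixed {z : P} (hzp : ∀ v : V, (z ^ p) • v = v) (n : ℕ) (v : V) :
    (z ^ (p * n)) • v = v := by
  induction n with
  | zero => simp
  | succ n ih => rw [Nat.mul_succ, pow_add, mul_smul, hzp, ih]

theorem eq_zero_of_pow_fixed {z : P} (hzp : ∀ v : V, (z ^ p) • v = v)
    (hzf : ∀ v : V, z • v = v → v = 0) {d : ℕ} (hd : ¬ p ∣ d) {w : V} (h : (z ^ d) • w = w) :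
    w = 0 := by
  obtain ⟨m, -, hm⟩ := Nat.exists_mul_mod_eq_one_of_coprime
    ((hp.out.coprime_iff_not_dvd.mpr hd).symm) hp.out.one_lt
  have h3 : ∀ n : ℕ, (z ^ (d * n)) • w = w := fun n => by
    induction n with
    | zero => simp
    | succ n ih => rw [Nat.mul_succ, pow_add, mul_smul, h, ih]
  have h6 := h3 m
  rw [← Nat.mod_add_div (d * m) p, pow_add, hm, pow_one, mul_smul, pow_mul_fixed hzp] at h6
  exact hzf w h6

theorem sig_pow_eq_zero {z : P} (hzp : ∀ v : V, (z ^ p) • v = v)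
    (hzf : ∀ v : V, z • v = v → v = 0) {d : ℕ} (hd : ¬ p ∣ d) (v : V) : sig p (z ^ d) v = 0 :=
  eq_zero_of_pow_fixed hzp hzf hd (smul_sig (fun w => by
    rw [← pow_mul, mul_comm, pow_mul_fixed hzp]) v)

theorem line_identity {e z : P} (hzp : ∀ v : V, (z ^ p) • v = v)
    (hzf : ∀ v : V, z • v = v → v = 0) (hc : Commute e z) (v : V) :
    ∑ j ∈ Finset.range p, sig p (e * z ^ j) v = p • v := by
  have key : ∀ i ∈ Finset.range p, i ≠ 0 →
      ∑ j ∈ Finset.range p, ((e * z ^ j) ^ i) • v = 0 := by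
    intro i hi hi0
    have h1 : ∀ j, ((e * z ^ j) ^ i) • v = (e ^ i) • ((z ^ i) ^ j) • v := fun j => by
      rw [(hc.pow_right j).mul_pow, ← pow_mul, ← pow_mul, mul_comm i j, mul_smul]
    simp only [h1, ← Finset.smul_sum]
    rw [show ∑ j ∈ Finset.range p, ((z ^ i) ^ j) • v = 0 from
      sig_pow_eq_zero hzp hzf (fun h => absurd (Nat.le_of_dvd (Nat.pos_of_ne_zero hi0) h)
        (not_le.mpr (Finset.mem_range.mp hi))) v, smul_zero]
  simp only [sig]
  rw [Finset.sum_comm, Finset.sum_eq_single 0 key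
    (fun h => absurd (Finset.mem_range.mpr hp.out.pos) h)]
  simp

theorem sig_line_eq_zero {e z : P} (hzp : ∀ v : V, (z ^ p) • v = v)
    (hzf : ∀ v : V, z • v = v → v = 0) (hc : Commute e z) {a b : ℕ} (hab : a % p ≠ b % p) {x : V}
    (hx : (e * z ^ a) • x = x) : sig p (e * z ^ b) x = 0 := by
  set d := b + (p - 1) * a with hd
  have hbase : (e * z ^ b) • x = (z ^ d) • x := by
    conv_rhs => rw [← hx, ← mul_smul, ← mul_assoc, ← (hc.pow_right d).eq, mul_assoc, ← pow_add,
      show d + a = b + p * a by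
        rw [hd, add_assoc, ← Nat.succ_mul, Nat.succ_eq_add_one, Nat.sub_add_cancel hp.out.pos],
      pow_add, ← mul_assoc, mul_smul, pow_mul_fixed hzp]
  have hpows : ∀ i : ℕ, ((e * z ^ b) ^ i) • x = ((z ^ d) ^ i) • x := fun i => by
    induction i with
    | zero => simp
    | succ i ih =>
      have hcm : Commute (e * z ^ b) ((z ^ d) ^ i) :=
        ((hc.pow_right d).mul_left (Commute.pow_pow_self z b d)).pow_right i
      rw [pow_succ', mul_smul, ih, ← mul_smul, hcm.eq, mul_smul, hbase, ← mul_smul, ← pow_succ]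
  have hnd : ¬ p ∣ d := fun h => hab (by
    obtain ⟨k, hk⟩ := h
    have h1 : d + a = b + p * a := by
      rw [hd, add_assoc, ← Nat.succ_mul, Nat.succ_eq_add_one, Nat.sub_add_cancel hp.out.pos]
    rw [hk] at h1
    have := congrArg (· % p) h1
    simpa [Nat.add_mod] using this)
  rw [show sig p (e * z ^ b) x = sig p (z ^ d) x from Finset.sum_congr rfl fun i _ => hpows i]
  exact sig_pow_eq_zero hzp hzf hnd x

variable [Finite P]

theorem card_line_contradiction [Finite V] (hp3 : 3 ≤ p) (hnt : Nontrivial V)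
    (hV : ∀ v : V, p • v = 0 → v = 0) {z e c d : P} (hzp : ∀ v : V, (z ^ p) • v = v)
    (hep : ∀ v : V, (e ^ p) • v = v) (hzf : ∀ v : V, z • v = v → v = 0) (hez : Commute e z)
    (hcz : ∀ (g : P) (v : V), g • z • v = z • g • v)
    (hce : ∃ s, ¬ p ∣ s ∧ ∀ v : V, c • e • v = (e * z ^ s) • c • v)
    (hde : ∃ s, ¬ p ∣ s ∧ ∀ v : V, d • e • v = (e * z ^ s) • d • v)
    (hprod : ∀ v : V, ∃ a b, d • a = a ∧ c • b = b ∧ v = a + b) : False := by
  classical
  haveI := Fintype.ofFinite V
  have hzpow : ∀ (n : ℕ) (v : V), (z ^ n) • v = (z ^ (n % p)) • v := fun n v => by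
    have : ∀ (m : ℕ) (w : V), ((z ^ p) ^ m) • w = w := fun m => by
      induction m with
      | zero => simp
      | succ m ih => intro w; rw [pow_succ, mul_smul, hzp, ih]
    conv_lhs => rw [← Nat.mod_add_div n p, pow_add, pow_mul, mul_smul, this]
  have hjp : ∀ (j : ℕ) (v : V), ((e * z ^ j) ^ p) • v = v := fun j v => by
    rw [(hez.pow_right j).mul_pow, mul_smul, ← pow_mul, mul_comm, pow_mul]
    have : ∀ m : ℕ, ((z ^ p) ^ m) • v = v := fun m => by
      induction m with
      | zero => simp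
      | succ m ih => rw [pow_succ, mul_smul, hzp, ih]
    rw [this, hep]
  have hmove : ∀ g : P, ∀ s, (∀ v : V, g • e • v = (e * z ^ s) • g • v) → ∀ (k j : ℕ) (v : V),
      (g ^ k) • (e * z ^ j) • v = (e * z ^ (j + k * s)) • (g ^ k) • v := by
    intro g s hg k
    induction k with
    | zero => intro j v; simp
    | succ k ih =>
      intro j v
      have hzn : ∀ (n : ℕ) (w : V), g • (z ^ n) • w = (z ^ n) • g • w := fun n => by
        induction n with
        | zero => simp
        | succ n ihn => intro w; rw [pow_succ, mul_smul, mul_smul, ihn, hcz]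
      rw [pow_succ, mul_smul, mul_smul, mul_smul, hg, hzn, ← mul_smul (e * z ^ s), mul_assoc,
        ← pow_add, ih, Nat.succ_mul, show j + (k * s + s) = s + j + k * s by ring]
      simp only [mul_smul]
  have hsurjmod : ∀ s : ℕ, ¬ p ∣ s → ∀ j, ∃ k, k * s % p = j % p := fun s hs j => by
    obtain ⟨m, -, hm⟩ := Nat.exists_mul_mod_eq_one_of_coprime
      ((hp.out.coprime_iff_not_dvd.mpr hs).symm) hp.out.one_lt
    refine ⟨j * m, ?_⟩
    rw [mul_assoc, mul_comm m s, Nat.mul_mod, hm, mul_one, Nat.mod_mod]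
  let V0 := {v : V // e • v = v}
  have hbound : ∀ g : P, ∀ s, ¬ p ∣ s → (∀ v : V, g • e • v = (e * z ^ s) • g • v) →
      Nat.card {v : V // g • v = v} ≤ Nat.card V0 := by
    intro g s hs hg
    refine Nat.card_le_card_of_injective
      (fun v => ⟨sig p e v.1, smul_sig hep v.1⟩ : {v : V // g • v = v} → V0) fun a b hab => ?_
    have hab' : sig p e a.1 = sig p e b.1 := congrArg Subtype.val hab
    have hfix : g • (a.1 - b.1) = a.1 - b.1 := by rw [smul_sub, a.2, b.2]
    have h0 : sig p e (a.1 - b.1) = 0 := by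
      have h2 := sig_add (p := p) e (a.1 - b.1) b.1
      rw [sub_add_cancel, hab'] at h2
      exact add_eq_right.mp h2.symm
    refine Subtype.ext (sub_eq_zero.mp (hV _ ?_))
    rw [← line_identity hzp hzf hez]
    refine Finset.sum_eq_zero fun j _ => ?_
    obtain ⟨k, hk⟩ := hsurjmod s hs j
    have hgk : (g ^ k) • (a.1 - b.1) = a.1 - b.1 := by
      clear hk
      induction k with
      | zero => simp
      | succ k ih => rw [pow_succ, mul_smul, hfix, ih]
    have hconj : ∀ (i : ℕ) (v : V),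
        (g ^ k) • (e ^ i) • v = ((e * z ^ j) ^ i) • (g ^ k) • v := by
      intro i
      induction i with
      | zero => simp
      | succ i ih =>
        intro v
        rw [pow_succ, pow_succ, mul_smul, mul_smul, ih]
        congr 1
        have := hmove g s hg k 0 v
        rw [pow_zero, mul_one, Nat.zero_add] at this
        rw [this, mul_smul e, mul_smul e, hzpow (k * s), hk, ← hzpow]
    rw [← smul_zero (g ^ k : P), ← h0, sig, sig, Finset.smul_sum]
    exact Finset.sum_congr rfl fun i _ => by rw [hconj, hgk]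
  obtain ⟨s, hs, hc⟩ := hce
  obtain ⟨t, ht, hd⟩ := hde
  have h1 : Nat.card V ≤ Nat.card V0 * Nat.card V0 := by
    refine le_trans ?_ (Nat.mul_le_mul (hbound d t ht hd) (hbound c s hs hc))
    rw [← Nat.card_prod]
    exact Nat.card_le_card_of_surjective
      (fun x : {v : V // d • v = v} × {v : V // c • v = v} => x.1.1 + x.2.1)
      fun v => by obtain ⟨a, b, ha, hb, rfl⟩ := hprod v; exact ⟨(⟨a, ha⟩, ⟨b, hb⟩), rfl⟩
  have h2 : Nat.card V0 ^ p ≤ Nat.card V := by
    have hcard : Nat.card (Fin p → V0) = Nat.card V0 ^ p := by rw [Nat.card_fun, Nat.card_fin]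
    rw [← hcard]
    let f : (Fin p → V0) → V := fun w => ∑ k : Fin p, (c ^ (k : ℕ)) • (w k).1
    refine Nat.card_le_card_of_injective f fun a b hab => funext fun m => ?_
    have hcomp : ∀ w : Fin p → V0, sig p (e * z ^ ((m : ℕ) * s)) (f w) =
        p • (c ^ (m : ℕ)) • (w m).1 := by
      intro w
      have hfix : ∀ k : Fin p, (e * z ^ ((k : ℕ) * s)) • (c ^ (k : ℕ)) • (w k).1 =
          (c ^ (k : ℕ)) • (w k).1 := fun k => by
        have := hmove c s hc k 0 (w k).1
        rw [pow_zero, mul_one, Nat.zero_add, (w k).2] at this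
        exact this.symm
      rw [sig_sum, Finset.sum_eq_single m (fun k _ hkm => ?_)
        (fun h => absurd (Finset.mem_univ m) h)]
      · exact sig_of_fixed (hfix m)
      · refine sig_line_eq_zero hzp hzf hez (fun h => hkm (Fin.ext ?_)) (hfix k)
        have hm : (k : ℕ) * s ≡ (m : ℕ) * s [MOD p] := h
        have h2 := hm.cancel_right_of_coprime (hp.out.coprime_iff_not_dvd.mpr hs)
        rw [Nat.ModEq, Nat.mod_eq_of_lt k.isLt, Nat.mod_eq_of_lt m.isLt] at h2
        exact h2
    have h6 := hcomp a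
    rw [hab, hcomp b, eq_comm, ← sub_eq_zero, ← smul_sub] at h6
    have h7 := sub_eq_zero.mp (hV _ h6)
    exact Subtype.ext ((smul_left_cancel_iff _).mp h7)
  rcases Nat.lt_or_ge (Nat.card V0) 2 with h | h
  · have h3 := Finite.one_lt_card (α := V)
    nlinarith
  · have h3 : Nat.card V0 ^ 3 ≤ Nat.card V0 ^ p := Nat.pow_le_pow_right (by omega) hp3
    nlinarith

/-- The hypothesis passes to the range of an equivariant projection. -/
theorem trivial_of_central {u : P} (hV : ∀ v : V, p • v = 0 → v = 0) [Finite V]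
    (hup : ∀ v : V, (u ^ p) • v = v) (hu : ∀ (g : P) (v : V), g • u • v = u • g • v)
    {C D : Set P} (hprod : ∀ c ∈ C, ∀ d ∈ D, ∀ v : V, ∃ a b, d • a = a ∧ c • b = b ∧ v = a + b)
    (IH : ∀ W : AddSubgroup V, W ≠ ⊤ → (∀ g : P, ∀ w ∈ W, g • w ∈ W) →
      (∀ c ∈ C, ∀ d ∈ D, ∀ v ∈ W, ∃ a ∈ W, ∃ b ∈ W, d • a = a ∧ c • b = b ∧ v = a + b) →
      ∀ g : P, ∀ w ∈ W, g • w = w)
    (hne : ∃ v : V, u • v ≠ v) (hnt : ¬ ∀ (g : P) (v : V), g • v = v) :
    ∀ v : V, u • v = v → v = 0 := by
  by_contra! hfix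
  obtain ⟨v₀, hv₀, hv₀0⟩ := hfix
  have hsurj : ∀ v : V, ∃ w, p • w = v := fun v =>
    (Finite.injective_iff_surjective.mp (fun a b hab => sub_eq_zero.mp (hV _ (by
      rw [smul_sub, sub_eq_zero]; exact hab))) : Function.Surjective fun w : V => p • w) v
  let σ : V →+ V := AddMonoidHom.mk' (sig p u) (sig_add u)
  let B1 : AddSubgroup V :=
    { carrier := {v | u • v = v}
      zero_mem' := smul_zero u
      add_mem' := fun {a b} (ha : u • a = a) (hb : u • b = b) => by
        show u • (a + b) = a + b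
        rw [smul_add, ha, hb]
      neg_mem' := fun {a} (ha : u • a = a) => by
        show u • (-a) = -a
        rw [smul_neg, ha] }
  let B2 : AddSubgroup V := σ.ker
  have hg : ∀ (g : P) (v : V), g • sig p u v = sig p u (g • v) := fun g v =>
    smul_sig_of_comm (hu g) v
  have h1 : ∀ g : P, ∀ w ∈ B1, g • w = w := by
    refine IH B1 (fun h => ?_) (fun g w (hw : u • w = w) => ?_) fun c hc d hd v (hv : u • v = v) => ?_
    · obtain ⟨v, hv⟩ := hne
      exact hv (show v ∈ B1 from h ▸ AddSubgroup.mem_top v)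
    · show u • g • w = g • w
      rw [← hu, hw]
    · obtain ⟨w, rfl⟩ := hsurj v
      have hw : u • w = w := sub_eq_zero.mp (hV _ (by rw [smul_sub, smul_comm, hv, sub_self]))
      obtain ⟨a, b, ha, hb, rfl⟩ := hprod c hc d hd w
      refine ⟨_, smul_sig hup a, _, smul_sig hup b, ?_, ?_, ?_⟩
      · rw [hg, ha]
      · rw [hg, hb]
      · rw [← sig_add, sig_of_fixed hw]
  have h2 : ∀ g : P, ∀ w ∈ B2, g • w = w := by
    refine IH B2 (fun h => ?_) (fun g w (hw : sig p u w = 0) => ?_) fun c hc d hd v (hv : sig p u v = 0) => ?_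
    · have : sig p u v₀ = 0 := (show v₀ ∈ B2 from h ▸ AddSubgroup.mem_top v₀)
      exact hv₀0 (hV _ ((sig_of_fixed hv₀).symm.trans this))
    · show sig p u (g • w) = 0
      rw [← hg, hw, smul_zero]
    · obtain ⟨w, rfl⟩ := hsurj v
      have hpw : ∀ x : V, sig p u (p • x) = p • sig p u x := fun x => map_nsmul σ p x
      have hw : sig p u w = 0 := hV _ (by rw [← hpw, hv])
      have hker : ∀ x : V, sig p u (p • x - sig p u x) = 0 := fun x => by
        have e := sig_add (p := p) u (p • x - sig p u x) (sig p u x)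
        rw [sub_add_cancel, sig_of_fixed (smul_sig hup x), hpw] at e
        exact add_eq_right.mp e.symm
      obtain ⟨a, b, ha, hb, rfl⟩ := hprod c hc d hd w
      refine ⟨_, hker a, _, hker b, ?_, ?_, ?_⟩
      · rw [smul_sub, smul_comm, ha, hg, ha]
      · rw [smul_sub, smul_comm, hb, hg, hb]
      · rw [sub_add_sub_comm, ← sig_add, hw, sub_zero, smul_add]
  refine hnt fun g v => ?_
  obtain ⟨a, b, ha, hb, rfl⟩ := exists_proj hsurj hup v
  rw [smul_add, h1 g a ha, h2 g b hb]

/-- The action of the quotient by the trivially acting part. -/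
@[reducible] def quotAction : DistribMulAction (P ⧸ trivialPart P V) V where
  smul g v := Quotient.liftOn' g (fun h : P => h • v) fun a b hab =>
    smul_eq_of_mk_eq (Quotient.sound' hab) v
  one_smul v := one_smul P v
  mul_smul g h v := by
    obtain ⟨g, rfl⟩ := QuotientGroup.mk_surjective g
    obtain ⟨h, rfl⟩ := QuotientGroup.mk_surjective h
    exact mul_smul g h v
  smul_zero g := by
    obtain ⟨g, rfl⟩ := QuotientGroup.mk_surjective g
    exact smul_zero g
  smul_add g v w := by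
    obtain ⟨g, rfl⟩ := QuotientGroup.mk_surjective g
    exact smul_add g v w

open scoped commutatorElement in
/-- The main lemma on abelian groups. -/
theorem smul_eq_self (hP : IsPGroup p P) (hp3 : 3 ≤ p) (C D : Set P)
    (hC : Subgroup.closure C = ⊤) (hD : Subgroup.closure D = ⊤) :
    ∀ (n : ℕ) (W : Type*) [AddCommGroup W] [Finite W] [DistribMulAction P W], Nat.card W = n →
      (Nat.card W).Coprime p →
      (∀ c ∈ C, ∀ d ∈ D, ∀ v : W, ∃ a b, d • a = a ∧ c • b = b ∧ v = a + b) →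
      ∀ (g : P) (v : W), g • v = v := by
  intro n
  induction n using Nat.strong_induction_on with
  | _ n ih =>
  intro V _ _ _ hn hcop hprod
  by_contra hnt
  have hV : ∀ v : V, p • v = 0 → v = 0 := fun v hv => by
    rw [← AddMonoid.addOrderOf_eq_one_iff]
    exact Nat.eq_one_of_dvd_coprimes hcop (addOrderOf_dvd_natCard v)
      (addOrderOf_dvd_of_nsmul_eq_zero hv)
  have IH : ∀ W : AddSubgroup V, W ≠ ⊤ → (∀ g : P, ∀ w ∈ W, g • w ∈ W) →
      (∀ c ∈ C, ∀ d ∈ D, ∀ v ∈ W, ∃ a ∈ W, ∃ b ∈ W, d • a = a ∧ c • b = b ∧ v = a + b) →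
      ∀ g : P, ∀ w ∈ W, g • w = w := by
    intro W hW hinv hWp g w hw
    letI := restrictAction W hinv
    have hlt : Nat.card W < n := by
      rw [← hn]
      refine lt_of_le_of_ne (Nat.le_of_dvd Nat.card_pos W.card_addSubgroup_dvd_card) fun h => hW ?_
      exact AddSubgroup.eq_top_of_card_eq W h
    exact congrArg Subtype.val (ih _ hlt W rfl (hcop.coprime_dvd_left W.card_addSubgroup_dvd_card)
      (fun c hc d hd v => by
        obtain ⟨a, ha, b, hb, h1, h2, h3⟩ := hWp c hc d hd v v.2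
        exact ⟨⟨a, ha⟩, ⟨b, hb⟩, Subtype.ext h1, Subtype.ext h2, Subtype.ext h3⟩) g ⟨w, hw⟩)
  set K := trivialPart P V with hK
  let π : P →* P ⧸ K := QuotientGroup.mk' K
  have hπ : Function.Surjective π := QuotientGroup.mk'_surjective K
  have hQ : IsPGroup p (P ⧸ K) := hP.to_quotient K
  have hactg : ∀ g h : P, π g = π h → ∀ v : V, g • v = h • v := fun g h e => smul_eq_of_mk_eq e
  have htriv : ∀ g : P, (∀ v : V, g • v = v) → π g = 1 := fun g hg =>
    (QuotientGroup.eq_one_iff g).mpr hg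
  have hπC : Subgroup.closure (π '' C) = ⊤ := by
    rw [← MonoidHom.map_closure, hC, Subgroup.map_top_of_surjective π hπ]
  have hπD : Subgroup.closure (π '' D) = ⊤ := by
    rw [← MonoidHom.map_closure, hD, Subgroup.map_top_of_surjective π hπ]
  by_cases hcyc : IsCyclic (P ⧸ K)
  · letI := hcyc.commGroup
    refine hnt fun g v => ?_
    by_cases hex : ∃ c ∈ C, ∀ x : P ⧸ K, x ∈ Subgroup.zpowers (π c)
    · obtain ⟨c, hc, hgen⟩ := hex
      have hfix : ∀ w : V, c • w = w → ∀ x : P, x • w = w := fun w hw x => by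
        obtain ⟨k, hk⟩ := Subgroup.mem_zpowers_iff.mp (hgen (π x))
        rw [hactg x (c ^ k) (by rw [map_zpow, hk]) w]
        exact zpow_mem (show c ∈ MulAction.stabilizer P w from hw) k
      have hd : ∀ d ∈ D, ∀ w : V, d • w = w := fun d hd w => by
        obtain ⟨a, b, ha, hb, rfl⟩ := hprod c hc d hd w
        rw [smul_add, ha, hfix b hb]
      exact (Subgroup.closure_le (trivialPart P V)).mpr (fun d hd' => hd d hd')
        (hD ▸ Subgroup.mem_top g) v
    · push Not at hex
      obtain ⟨x, hx⟩ := hcyc.exists_generator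
      have hle : ∀ c ∈ C, π c ∈ Subgroup.zpowers (x ^ p) := fun c hc => by
        obtain ⟨k, hk⟩ := Subgroup.mem_zpowers_iff.mp (hx (π c))
        rcases em ((p : ℤ) ∣ k) with ⟨m, rfl⟩ | hk'
        · exact ⟨m, by rw [← hk, zpow_mul, zpow_natCast]⟩
        exfalso
        obtain ⟨y, hy⟩ := hex c hc
        apply hy
        obtain ⟨t, ht⟩ := hQ x
        have hco : IsCoprime k ((p : ℤ) ^ t) :=
          ((Nat.prime_iff_prime_int.mp hp.out).coprime_iff_not_dvd.mpr hk').symm.pow_right
        obtain ⟨a, b, hab⟩ := hco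
        obtain ⟨j, rfl⟩ := Subgroup.mem_zpowers_iff.mp (hx y)
        refine zpow_mem (Subgroup.mem_zpowers_iff.mpr ⟨a, ?_⟩) j
        show π c ^ a = x
        rw [← hk, ← zpow_mul, show k * a = 1 - b * (p : ℤ) ^ t by linarith, zpow_sub, zpow_one,
          mul_comm b, zpow_mul, ← Nat.cast_pow, zpow_natCast, ht, one_zpow, inv_one, mul_one]
      have htop : Subgroup.zpowers (x ^ p) = ⊤ := by
        rw [eq_top_iff, ← hπC, Subgroup.closure_le]
        rintro _ ⟨c, hc, rfl⟩
        exact hle c hc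
      obtain ⟨t, ht⟩ := hQ x
      have hx1 : x = 1 := by
        obtain ⟨m, hm⟩ := Subgroup.mem_zpowers_iff.mp (htop ▸ Subgroup.mem_top x)
        have h1 : x ^ ((p : ℤ) * m - 1) = 1 := by
          rw [zpow_sub, zpow_mul, zpow_natCast, hm, zpow_one, mul_inv_cancel]
        have hco : IsCoprime ((p : ℤ) * m - 1) ((p : ℤ) ^ t) :=
          (IsCoprime.pow_right ⟨-1, m, by ring⟩)
        obtain ⟨a, b, hab⟩ := hco
        rw [← zpow_one x, ← hab, zpow_add, mul_comm a, zpow_mul, h1, one_zpow, one_mul, mul_comm b,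
          zpow_mul, ← Nat.cast_pow, zpow_natCast, ht, one_zpow]
      have h1 : π g = π 1 := by
        obtain ⟨j, hj⟩ := Subgroup.mem_zpowers_iff.mp (hx (π g))
        rw [← hj, hx1, one_zpow, map_one]
      rw [hactg g 1 h1, one_smul]
  haveI hQnil : Group.IsNilpotent (P ⧸ K) := hQ.isNilpotent
  obtain ⟨E, -, hEn, hEab, hEc⟩ := CfsgLib.CyclicMax.exists_normal_rank_two hQ (by omega) ⊤
    inferInstance fun h => hcyc (isCyclic_of_surjective Subgroup.topEquiv (MulEquiv.surjective _))
  haveI := hEn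
  have hcommE : ∀ x ∈ E, ∀ y ∈ E, x * y = y * x := fun x hx y hy =>
    congrArg Subtype.val (hEab.1.1.comm ⟨x, hx⟩ ⟨y, hy⟩)
  have hlift : ∀ x ∈ E, ∃ g : P, π g = x ∧ ∀ v : V, (g ^ p) • v = v := fun x hx => by
    obtain ⟨g, rfl⟩ := hπ x
    refine ⟨g, rfl, fun v => ?_⟩
    rw [hactg (g ^ p) 1 (by rw [map_pow, hEab.2 _ hx, map_one]), one_smul]
  have hcen : ∀ u : P, (∀ v : V, (u ^ p) • v = v) → π u ∈ Subgroup.center (P ⧸ K) → π u ≠ 1 →
      ∀ v : V, u • v = v → v = 0 := by
    intro u hup huc hu1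
    refine trivial_of_central hV hup (fun g v => ?_) hprod IH ?_ hnt
    · rw [← mul_smul, ← mul_smul]
      exact hactg _ _ (by rw [map_mul, map_mul]; exact Subgroup.mem_center_iff.mp huc (π g)) v
    · by_contra! h
      exact hu1 (htriv u h)
  have hVnt : Nontrivial V := by
    by_contra hc
    rw [not_nontrivial_iff_subsingleton] at hc
    exact hnt fun g v => Subsingleton.elim _ _
  have hEne : E ≠ ⊥ := fun h => by
    rw [h, Subgroup.card_bot] at hEc
    nlinarith [hp.out.two_le]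
  by_cases hEcen : E ≤ Subgroup.center (P ⧸ K)
  · obtain ⟨z₀, hz₀E, hz₀⟩ := E.bot_or_exists_ne_one.resolve_left hEne
    obtain ⟨e₀, he₀E, he₀⟩ : ∃ e₀ ∈ E, e₀ ∉ Subgroup.zpowers z₀ := by
      by_contra! h
      have h1 := Subgroup.card_dvd_of_le h
      rw [hEc, Nat.card_zpowers, orderOf_eq_prime (hEab.2 z₀ hz₀E) hz₀] at h1
      nlinarith [Nat.le_of_dvd hp.out.pos h1, hp.out.two_le]
    obtain ⟨z, rfl, hzp⟩ := hlift z₀ hz₀E
    obtain ⟨e, rfl, hep⟩ := hlift e₀ he₀E
    obtain ⟨v, hv⟩ := exists_ne (0 : V)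
    refine hv (hV v ?_)
    have hzf := hcen z hzp (hEcen hz₀E) hz₀
    have hlines : ∀ j, ∀ w : V, (e * z ^ j) • w = w → w = 0 := fun j => by
      have hmem : π (e * z ^ j) ∈ E := by
        rw [map_mul, map_pow]; exact mul_mem he₀E (pow_mem hz₀E j)
      refine hcen _ (fun w => ?_) (hEcen hmem) fun h => he₀ ?_
      · rw [hactg ((e * z ^ j) ^ p) 1 (by rw [map_pow, hEab.2 _ hmem, map_one]), one_smul]
      · rw [map_mul, map_pow] at h
        rw [eq_inv_of_mul_eq_one_left h]
        exact inv_mem (pow_mem (Subgroup.mem_zpowers _) j)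
    have hez : ∀ w : V, e • z • w = z • e • w := fun w => by
      rw [← mul_smul, ← mul_smul]
      exact hactg _ _ (by rw [map_mul, map_mul]; exact hcommE _ he₀E _ hz₀E) w
    have hsum : ∑ j ∈ Finset.range p, sig p (e * z ^ j) v = 0 := Finset.sum_eq_zero fun j _ =>
      hlines j _ (smul_sig (fun w => by
        rw [hactg ((e * z ^ j) ^ p) 1 (by
          rw [map_pow, hEab.2 _ (by rw [map_mul, map_pow]; exact mul_mem he₀E (pow_mem hz₀E j)),
            map_one]), one_smul]) v)
    letI : DistribMulAction (P ⧸ K) V := quotAction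
    have h1 := line_identity (P := P ⧸ K) (V := V) (e := π e) (z := π z)
      (fun w => by rw [← map_pow]; exact hzp w) hzf (hcommE _ he₀E _ hz₀E) v
    refine (h1.symm.trans ?_)
    refine Eq.trans (Finset.sum_congr rfl fun j _ => ?_) hsum
    refine Finset.sum_congr rfl fun i _ => ?_
    rw [← map_pow π z, ← map_mul, ← map_pow]
    rfl
  obtain ⟨e₀, he₀E, he₀⟩ := SetLike.not_le_iff_exists.mp hEcen
  set T := ⁅E, (⊤ : Subgroup (P ⧸ K))⁆ with hT
  have hTlt : T < E := Coprime.commutator_lt_of_isNilpotent (X := (⊤ : Subgroup (P ⧸ K))) le_top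
    le_top (by rw [Subgroup.normalizer_eq_top]) hEne
  have hTne : T ≠ ⊥ := fun h => hEcen fun x hx => Subgroup.mem_center_iff.mpr fun g =>
    Subgroup.mem_centralizer_iff.mp (Subgroup.commutator_eq_bot_iff_le_centralizer.mp h hx) g
      (Subgroup.mem_top g)
  have hTc : Nat.card T = p := by
    obtain ⟨k, hk, hk'⟩ := (Nat.dvd_prime_pow hp.out).mp
      (hEc ▸ Subgroup.card_dvd_of_le hTlt.le)
    have hk2 : k ≠ 2 := fun h => hTlt.ne (Subgroup.eq_of_le_of_card_ge hTlt.le
      (by rw [hk', h, hEc]))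
    have hk0 : k ≠ 0 := fun h => hTne (Subgroup.eq_bot_of_card_eq _ (by rw [hk', h, pow_zero]))
    rw [hk', show k = 1 by omega, pow_one]
  have hTcen : T ≤ Subgroup.center (P ⧸ K) := by
    have h1 := Critical.inf_center_ne_bot T hTne
    have h2 : T ⊓ Subgroup.center (P ⧸ K) = T := Subgroup.eq_of_le_of_card_ge inf_le_left (by
      rcases (Nat.dvd_prime hp.out).mp (hTc ▸ Subgroup.card_dvd_of_le
        (inf_le_left : T ⊓ Subgroup.center (P ⧸ K) ≤ T)) with h | h
      · exact absurd (Subgroup.eq_bot_of_card_eq _ h) h1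
      · rw [h, hTc])
    exact h2 ▸ inf_le_right
  obtain ⟨e, rfl, hep⟩ := hlift e₀ he₀E
  have hmoves : ∀ S : Set P, Subgroup.closure (π '' S) = ⊤ →
      ∃ c ∈ S, ⁅π c, π e⁆ ∈ T ∧ ⁅π c, π e⁆ ≠ 1 := by
    intro S hS
    obtain ⟨c, hc, hne⟩ : ∃ c ∈ S, ⁅π c, π e⁆ ≠ 1 := by
      by_contra! h
      refine he₀ (Subgroup.mem_center_iff.mpr fun g => ?_)
      have hle : Subgroup.closure (π '' S) ≤ Subgroup.centralizer {π e} := by
        rw [Subgroup.closure_le]
        rintro _ ⟨c, hc, rfl⟩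
        exact Subgroup.mem_centralizer_singleton_iff.mpr
          (commutatorElement_eq_one_iff_mul_comm.mp (h c hc))
      exact Subgroup.mem_centralizer_singleton_iff.mp (hle (hS ▸ Subgroup.mem_top g))
    refine ⟨c, hc, ?_, hne⟩
    rw [hT, Subgroup.commutator_comm]
    exact Subgroup.commutator_mem_commutator (Subgroup.mem_top _) he₀E
  obtain ⟨c, hcC, hcT, hc1⟩ := hmoves C hπC
  obtain ⟨d, hdD, hdT, hd1⟩ := hmoves D hπD
  obtain ⟨z, hz, hzp⟩ := hlift ⁅π c, π e⁆ (hTlt.le hcT)
  have hzc : π z ∈ Subgroup.center (P ⧸ K) := hTcen (hz ▸ hcT)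
  have hzf := hcen z hzp hzc (hz ▸ hc1)
  have hcz : ∀ (g : P) (v : V), g • z • v = z • g • v := fun g v => by
    rw [← mul_smul, ← mul_smul]
    exact hactg _ _ (by rw [map_mul, map_mul]; exact Subgroup.mem_center_iff.mp hzc (π g)) v
  have hshift : ∀ g : P, ⁅π g, π e⁆ ∈ T → ⁅π g, π e⁆ ≠ 1 →
      ∃ s, ¬ p ∣ s ∧ ∀ v : V, g • e • v = (e * z ^ s) • g • v := by
    intro g hg hg1
    have hgen : Subgroup.zpowers (π z) = T := Subgroup.eq_of_le_of_card_ge
      (Subgroup.zpowers_le.mpr (hz ▸ hcT)) (by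
        rw [Nat.card_zpowers, hTc, orderOf_eq_prime (hEab.2 _ (hTlt.le (hz ▸ hcT))) (hz ▸ hc1)])
    rw [← hgen, ← mem_powers_iff_mem_zpowers] at hg
    obtain ⟨s, hs⟩ := hg
    have hs' : π z ^ s = ⁅π g, π e⁆ := hs
    refine ⟨s, fun ⟨m, hm⟩ => hg1 ?_, fun v => ?_⟩
    · rw [← hs', hm, pow_mul, hEab.2 _ (hTlt.le (hz ▸ hcT)), one_pow]
    · rw [← mul_smul, ← mul_smul]
      refine hactg _ _ ?_ v
      rw [map_mul, map_mul, map_mul, map_pow, ← hcommE _ (pow_mem (hTlt.le (hz ▸ hcT)) s) _ he₀E,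
        hs', commutatorElement_def]
      group
  letI : DistribMulAction (P ⧸ K) V := quotAction
  have hpush : ∀ g : P, (∃ s, ¬ p ∣ s ∧ ∀ v : V, g • e • v = (e * z ^ s) • g • v) →
      ∃ s, ¬ p ∣ s ∧ ∀ v : V, π g • π e • v = (π e * π z ^ s) • π g • v := by
    rintro g ⟨s, hs, h⟩
    refine ⟨s, hs, fun v => ?_⟩
    rw [← map_pow, ← map_mul]
    exact h v
  exact card_line_contradiction (P := P ⧸ K) (V := V) hp3 hVnt hV (z := π z) (e := π e)
    (c := π c) (d := π d) (fun v => by rw [← map_pow]; exact hzp v)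
    (fun v => by rw [← map_pow]; exact hep v) hzf (hcommE _ he₀E _ (hTlt.le (hz ▸ hcT)))
    (fun g v => by obtain ⟨g, rfl⟩ := hπ g; exact hcz g v)
    (hpush c (hshift c hcT hc1)) (hpush d (hshift d hdT hd1)) (hprod c hcC d hdD)

end CfsgLib.PairFixed
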