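import Mathlib

/-!
# The trace from the fixed points of a subgroup to the fixed points of the group
-/

namespace CfsgLib.Coprime

set_option autoImplicit false

/-- If `T` fixes `c` and `L` acts trivially modulo `N`, some `L`-fixed element is congruent to
`c ^ T.index` modulo `N`. -/
theorem exists_fixed_congr_pow_index {L M : Type*} [Group L] [Finite L] [CommGroup M]
    (f : L →* MulAut M) (T : Subgroup L) (N : Subgroup M) (hcong : ∀ l m, f l m * m⁻¹ ∈ N)
    (c : M) (hc : ∀ t ∈ T, f t c = c) :
    ∃ C : M, (∀ l, f l C = C) ∧ C * (c ^ T.index)⁻¹ ∈ N := by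
  classical
  haveI : Fintype (L ⧸ T) := Fintype.ofFinite _
  have hwd : ∀ a b : L, QuotientGroup.leftRel T a b → f a c = f b c := by
    intro a b hab
    rw [QuotientGroup.leftRel_apply] at hab
    conv_lhs => rw [← hc _ hab]
    rw [← MulAut.mul_apply, ← map_mul, mul_inv_cancel_left]
  let F : L ⧸ T → M := fun q => Quotient.liftOn' q (fun a => f a c) hwd
  have hF : ∀ (l : L) (q : L ⧸ T), f l (F q) = F (l • q) := by
    intro l q
    obtain ⟨a, rfl⟩ := QuotientGroup.mk_surjective q
    show f l (f a c) = f (l * a) c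
    rw [map_mul, MulAut.mul_apply]
  refine ⟨∏ q, F q, fun l => ?_, ?_⟩
  · rw [map_prod]
    exact Fintype.prod_equiv (MulAction.toPerm l) _ _ (fun q => hF l q)
  · have h1 : (∏ q, F q) * (c ^ T.index)⁻¹ = ∏ q, (F q * c⁻¹) := by
      rw [Finset.prod_mul_distrib, Finset.prod_const, Finset.card_univ, inv_pow,
        Subgroup.index_eq_card, Nat.card_eq_fintype_card]
    rw [h1]
    refine prod_mem fun q _ => ?_
    obtain ⟨a, rfl⟩ := QuotientGroup.mk_surjective q
    exact hcong a c

end CfsgLib.Coprime
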