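import Mathlib

/-!
Fixed points of a representation over the field of two elements and weights after extending scalars.
-/

set_option autoImplicit false
set_option linter.unusedSectionVars false
set_option linter.style.haveILetI false

open TensorProduct Module

namespace CfsgLib.WeightBC

universe u v

variable {S : Type u} [Group S] {E : Type v} [AddCommGroup E] [Module (ZMod 2) E]
variable (ρ : Representation (ZMod 2) S E) (k : Type) [Field k] [Algebra (ZMod 2) k]

/-- The fixed points of a subgroup. -/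
def fix (T : Subgroup S) : Submodule (ZMod 2) E where
  carrier := {v | ∀ s ∈ T, ρ s v = v}
  zero_mem' := fun s _ => map_zero _
  add_mem' := fun ha hb s hs => by rw [map_add, ha s hs, hb s hs]
  smul_mem' := fun c _ ha s hs => by rw [map_smul, ha s hs]

theorem mem_fix {T : Subgroup S} {v : E} : v ∈ fix ρ T ↔ ∀ s ∈ T, ρ s v = v := Iff.rfl

/-- The extension of scalars of the action. -/
noncomputable def ext (s : S) : (k ⊗[ZMod 2] E) →ₗ[k] (k ⊗[ZMod 2] E) := (ρ s).baseChange k

theorem ext_tmul (s : S) (c : k) (v : E) : ext ρ k s (c ⊗ₜ v) = c ⊗ₜ ρ s v := rfl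

theorem ext_mul (s t : S) (x : k ⊗[ZMod 2] E) : ext ρ k (s * t) x = ext ρ k s (ext ρ k t x) := by
  induction x with
  | zero => simp
  | tmul c v => simp [ext_tmul]
  | add x y hx hy => simp [hx, hy]

theorem ext_one (x : k ⊗[ZMod 2] E) : ext ρ k 1 x = x := by
  induction x with
  | zero => simp
  | tmul c v => simp [ext_tmul]
  | add x y hx hy => simp [hx, hy]

/-- The extension of scalars of the fixed points. -/
noncomputable def fixExt (T : Subgroup S) : Submodule k (k ⊗[ZMod 2] E) :=
  LinearMap.range ((fix ρ T).subtype.baseChange k)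

theorem finrank_fixExt_le [Module.Finite (ZMod 2) E] (T : Subgroup S) :
    finrank k (fixExt ρ k T) ≤ finrank (ZMod 2) (fix ρ T) :=
  (LinearMap.finrank_range_le _).trans_eq Module.finrank_baseChange

/-- Fixed vectors after extending scalars come from fixed vectors. -/
theorem mem_fixExt [Finite S] (T : Subgroup S) {x : k ⊗[ZMod 2] E} (hx : ∀ s ∈ T, ext ρ k s x = x) :
    x ∈ fixExt ρ k T := by
  classical
  haveI := Fintype.ofFinite T
  let F : E →ₗ[ZMod 2] (T → E) := LinearMap.pi fun s => ρ s - LinearMap.id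
  have hker : LinearMap.ker F = fix ρ T := by
    ext v
    rw [LinearMap.mem_ker, funext_iff, mem_fix]
    exact ⟨fun h s hs => sub_eq_zero.1 (h ⟨s, hs⟩), fun h s => sub_eq_zero.2 (h s s.2)⟩
  have hpi : ∀ (y : k ⊗[ZMod 2] E) (s : T),
      TensorProduct.piRight (ZMod 2) k k (fun _ : T => E) (F.baseChange k y) s = ext ρ k (s : S) y - y := by
    intro y s
    induction y with
    | zero => simp
    | tmul c v => simp [ext_tmul, F, tmul_sub]
    | add a b ha hb => simp only [map_add, Pi.add_apply, ha, hb]; abel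
  have h0 : F.baseChange k x = 0 :=
    (TensorProduct.piRight (ZMod 2) k k (fun _ : T => E)).map_eq_zero_iff.1 (funext fun s => by
      rw [hpi, hx s s.2, sub_self]; rfl)
  have h1 : x ∈ LinearMap.range ((LinearMap.ker F).subtype.baseChange k) := by
    have := Module.Flat.ker_lTensor_eq k k F
    exact this.le h0
  rw [fixExt, ← hker]
  exact h1

section weights

variable {A : Subgroup S}

/-- The conjugate of a character of a normal subgroup. -/
def act [A.Normal] (h : S) (χ : A →* kˣ) : A →* kˣ :=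
  χ.comp (MulAut.conjNormal h⁻¹).toMonoidHom

theorem act_apply [A.Normal] (h : S) (χ : A →* kˣ) (a : A) :
    act k h χ a = χ (MulAut.conjNormal h⁻¹ a) := rfl

theorem act_mul [A.Normal] (h h' : S) (χ : A →* kˣ) : act k (h * h') χ = act k h (act k h' χ) :=
  MonoidHom.ext fun a => by
    rw [act_apply, act_apply, act_apply, mul_inv_rev, map_mul, MulAut.mul_apply]

theorem act_one [A.Normal] (χ : A →* kˣ) : act k (1 : S) χ = χ :=
  MonoidHom.ext fun a => by rw [act_apply, inv_one, map_one, MulAut.one_apply]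

variable [Fintype A]

/-- The projection on the weight space of a character. -/
noncomputable def proj (χ : A →* kˣ) : (k ⊗[ZMod 2] E) →ₗ[k] (k ⊗[ZMod 2] E) :=
  ∑ a : A, ((χ a)⁻¹ : kˣ).val • ext ρ k (a : S)

theorem proj_apply (χ : A →* kˣ) (x : k ⊗[ZMod 2] E) :
    proj ρ k χ x = ∑ a : A, ((χ a)⁻¹ : kˣ).val • ext ρ k (a : S) x := by
  rw [proj, LinearMap.sum_apply]; rfl

/-- The projection takes values in the weight space. -/
theorem ext_proj (χ : A →* kˣ) (b : A) (x : k ⊗[ZMod 2] E) :
    ext ρ k (b : S) (proj ρ k χ x) = (χ b).val • proj ρ k χ x := by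
  rw [proj_apply, map_sum, Finset.smul_sum]
  refine Fintype.sum_equiv (Equiv.mulLeft b) _ _ fun a => ?_
  simp only [map_smul, Equiv.coe_mulLeft, Subgroup.coe_mul, ext_mul, map_mul, mul_inv_rev, smul_smul]
  congr 1
  rw [← Units.val_mul]
  congr 1
  rw [mul_left_comm, mul_inv_cancel, mul_one]

/-- Projections permute with the group. -/
theorem ext_proj_conj [A.Normal] (h : S) (χ : A →* kˣ) (x : k ⊗[ZMod 2] E) :
    ext ρ k h (proj ρ k χ x) = proj ρ k (act k h χ) (ext ρ k h x) := by
  rw [proj_apply, proj_apply, map_sum]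
  refine Fintype.sum_equiv (MulAut.conjNormal h).toEquiv _ _ fun a => ?_
  have e : (((MulAut.conjNormal h : MulAut A) a : A) : S) = h * (a : S) * h⁻¹ := MulAut.conjNormal_apply h a
  simp only [map_smul, MulEquiv.toEquiv_eq_coe, EquivLike.coe_coe, act_apply]
  rw [e, ← ext_mul, ← ext_mul, inv_mul_cancel_right, map_inv MulAut.conjNormal h, MulAut.inv_apply,
    MulEquiv.symm_apply_apply]

theorem sum_hom_eq_zero {χ : A →* kˣ} (hχ : χ ≠ 1) : ∑ a : A, (χ a).val = 0 := by
  obtain ⟨b, hb⟩ : ∃ b, χ b ≠ 1 := by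
    by_contra hc
    push Not at hc
    exact hχ (MonoidHom.ext hc)
  have h1 : (χ b).val * ∑ a : A, (χ a).val = ∑ a : A, (χ a).val := by
    rw [Finset.mul_sum]
    exact Fintype.sum_equiv (Equiv.mulLeft b) _ _ fun a => by simp
  by_contra h0
  exact hb (Units.ext ((mul_eq_right₀ h0).1 h1))

open scoped Classical in
/-- For an odd normal subgroup in characteristic two the projections are orthogonal idempotents. -/
theorem proj_proj (hodd : (Nat.card A : k) = 1) (χ ψ : A →* kˣ) (x : k ⊗[ZMod 2] E) :
    proj ρ k ψ (proj ρ k χ x) = if ψ = χ then proj ρ k χ x else 0 := by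
  rw [proj_apply ρ k ψ]
  simp only [ext_proj, smul_smul, ← Finset.sum_smul]
  have e : ∀ a : A, ((ψ a)⁻¹ : kˣ).val * (χ a).val = ((χ * ψ⁻¹) a).val := fun a => by
    rw [MonoidHom.mul_apply, MonoidHom.inv_apply, Units.val_mul, mul_comm]
  simp only [e]
  split_ifs with h
  · subst h
    rw [Nat.card_eq_fintype_card] at hodd
    simp [hodd]
  · rw [sum_hom_eq_zero k (fun e' => h (mul_inv_eq_one.1 e').symm), zero_smul]

variable [IsMulCommutative A]

open scoped IsMulCommutative

/-- The weights exhaust the space. -/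
theorem sum_proj [Finite A] [HasEnoughRootsOfUnity k (Monoid.exponent A)] [Fintype (A →* kˣ)]
    (hodd : (Nat.card A : k) = 1) (x : k ⊗[ZMod 2] E) : ∑ χ : A →* kˣ, proj ρ k χ x = x := by
  classical
  simp only [proj_apply]
  rw [Finset.sum_comm]
  simp only [← Finset.sum_smul]
  rw [Finset.sum_eq_single_of_mem (1 : A) (Finset.mem_univ _)]
  · have hc : (Fintype.card (A →* kˣ) : k) = 1 := by
      rw [← Nat.card_eq_fintype_card, CommGroup.card_monoidHom_of_hasEnoughRootsOfUnity A k, hodd]
    simp [hc, ext_one]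
  · intro a _ ha
    obtain ⟨φ, hφ⟩ := CommGroup.exists_apply_ne_one_of_hasEnoughRootsOfUnity A k ha
    have h1 : (φ a).val * ∑ χ : A →* kˣ, ((χ a)⁻¹ : kˣ).val = ∑ χ : A →* kˣ, ((χ a)⁻¹ : kˣ).val := by
      rw [Finset.mul_sum]
      refine Fintype.sum_equiv (Equiv.mulLeft φ⁻¹) _ _ fun χ => ?_
      simp [mul_comm]
    have h0 : ∑ χ : A →* kˣ, ((χ a)⁻¹ : kˣ).val = 0 := by
      by_contra h0
      exact hφ (Units.ext ((mul_eq_right₀ h0).1 h1))
    rw [h0, zero_smul]

end weights

end CfsgLib.WeightBC
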